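import Mathlib
import Cfsg.Agent.Lib.Chars.Completeness
import Cfsg.Agent.Lib.CharCount.Basic
import Cfsg.Agent.Lib.SmallGroups.Basic
import Cfsg.Agent.Lib.M11Degrees.Values

/-!
General facts about characters: pairs from two invariant sets, ranks of averaging projections,
values at involutions.
-/

set_option autoImplicit false

namespace Cfsg.Agent.Lib.Recog95040

open Cfsg Subgroup
open Cfsg.Agent.Lib.Chars
open scoped ComplexConjugate

universe u

variable {G : Type u} [Group G]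

/-- Pairs from two conjugation invariant sets with a given product. -/
theorem card_pairs_mul [Fintype G] [DecidableEq G] (A B : Finset G)
    (hA : ∀ (g : G), ∀ a ∈ A, g * a * g⁻¹ ∈ A) (hB : ∀ (g : G), ∀ b ∈ B, g * b * g⁻¹ ∈ B) (c : G) :
    (Nat.card G : ℂ) * (((A ×ˢ B).filter fun z => z.1 * z.2 = c).card : ℂ) =
      ∑ χ : IrrCharacter G, (∑ a ∈ A, (χ : G → ℂ) a) * (∑ b ∈ B, (χ : G → ℂ) b) *
        (χ : G → ℂ) c⁻¹ / (χ : G → ℂ) 1 := by
  classical
  have hsum : ∀ B : Finset G, (∀ (g : G), ∀ b ∈ B, g * b * g⁻¹ ∈ B) → ∀ (χ : IrrCharacter G)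
      (h : G), ∑ b ∈ B, (χ : G → ℂ) (h * b) =
      (χ : G → ℂ) h * (∑ b ∈ B, (χ : G → ℂ) b) / (χ : G → ℂ) 1 := by
    intro B hB χ h
    refine mul_left_cancel₀ (natCard_ne_zero (G := G)) ?_
    calc (Nat.card G : ℂ) * ∑ b ∈ B, (χ : G → ℂ) (h * b)
        = ∑ _x : G, ∑ b ∈ B, (χ : G → ℂ) (h * b) := by
          rw [Finset.sum_const, Finset.card_univ, nsmul_eq_mul, Nat.card_eq_fintype_card]
      _ = ∑ x : G, ∑ b ∈ B, (χ : G → ℂ) (h * (x * b * x⁻¹)) := by
          refine Finset.sum_congr rfl fun x _ => ?_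
          refine Finset.sum_nbij' (fun b => x⁻¹ * b * x) (fun b => x * b * x⁻¹) ?_ ?_ ?_ ?_ ?_
          · intro b hb; simpa using hB x⁻¹ b hb
          · intro b hb; exact hB x b hb
          · intro b _; group
          · intro b _; group
          · intro b _; exact congrArg (fun t => (χ : G → ℂ) (h * t)) (by group)
      _ = _ := by
          rw [Finset.sum_comm, Finset.mul_sum, Finset.sum_div, Finset.mul_sum]
          refine Finset.sum_congr rfl fun b _ => ?_
          rw [CharCount.sum_conj_mul]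
          ring
  have hδ : ∀ z : G × G, (if z.1 * z.2 = c then (Nat.card G : ℂ) else 0) =
      ∑ χ : IrrCharacter G, (χ : G → ℂ) 1 * (χ : G → ℂ) (c⁻¹ * z.1 * z.2) := by
    intro z
    rw [sum_degree_mul_irr]
    have : c⁻¹ * z.1 * z.2 = 1 ↔ z.1 * z.2 = c := by
      rw [mul_assoc, inv_mul_eq_one, eq_comm]
    simp only [this]
  calc (Nat.card G : ℂ) * (((A ×ˢ B).filter fun z => z.1 * z.2 = c).card : ℂ)
      = ∑ z ∈ A ×ˢ B, if z.1 * z.2 = c then (Nat.card G : ℂ) else 0 := by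
        rw [← Finset.sum_filter, Finset.sum_const, nsmul_eq_mul, mul_comm]
    _ = ∑ χ : IrrCharacter G, ∑ a ∈ A, ∑ b ∈ B,
          (χ : G → ℂ) 1 * (χ : G → ℂ) (c⁻¹ * a * b) := by
        rw [Finset.sum_congr rfl fun z _ => hδ z, Finset.sum_comm]
        exact Finset.sum_congr rfl fun χ _ => Finset.sum_product _ _ _
    _ = _ := by
        refine Finset.sum_congr rfl fun χ _ => ?_
        have hne := irr_apply_one_ne_zero χ
        rw [Finset.sum_congr rfl fun a _ => by rw [← Finset.mul_sum, hsum B hB χ (c⁻¹ * a)],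
          ← Finset.mul_sum, ← Finset.sum_div, ← Finset.sum_mul, hsum A hA χ c⁻¹]
        field_simp

/-- The difference of two averages over nested subgroups is a natural number. -/
theorem exists_nat_average_sub [Finite G] (χ : IrrCharacter G) {H K : Subgroup G} [Fintype H]
    [Fintype K] (h : H ≤ K) :
    ∃ m : ℕ, (Nat.card H : ℂ)⁻¹ * ∑ y : H, (χ : G → ℂ) y -
      (Nat.card K : ℂ)⁻¹ * ∑ y : K, (χ : G → ℂ) y = m := by
  classical
  obtain ⟨n, ρ, -, hχ⟩ := χ.2
  set P : Module.End ℂ (Fin n → ℂ) := (Nat.card H : ℂ)⁻¹ • ∑ y : H, ρ (y : G) with hP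
  set Q : Module.End ℂ (Fin n → ℂ) := (Nat.card K : ℂ)⁻¹ • ∑ y : K, ρ (y : G) with hQ
  have hmulH : ∀ y : H, ρ (y : G) * Q = Q ∧ Q * ρ (y : G) = Q := by
    intro y
    let z : K := ⟨(y : G), h y.2⟩
    constructor
    · rw [hQ, mul_smul_comm, Finset.mul_sum]
      congr 1
      refine Fintype.sum_equiv (Equiv.mulLeft z) _ _ fun k => ?_
      rw [← map_mul]; rfl
    · rw [hQ, smul_mul_assoc, Finset.sum_mul]
      congr 1
      refine Fintype.sum_equiv (Equiv.mulRight z) _ _ fun k => ?_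
      rw [← map_mul]; rfl
  have hcH : (Nat.card H : ℂ) ≠ 0 := Nat.cast_ne_zero.mpr Nat.card_pos.ne'
  have hcK : (Nat.card K : ℂ) ≠ 0 := Nat.cast_ne_zero.mpr Nat.card_pos.ne'
  have hPQ : P * Q = Q := by
    rw [hP, smul_mul_assoc, Finset.sum_mul, Finset.sum_congr rfl fun y _ => (hmulH y).1,
      Finset.sum_const, Finset.card_univ, ← Nat.card_eq_fintype_card, ← Nat.cast_smul_eq_nsmul ℂ,
      smul_smul, inv_mul_cancel₀ hcH, one_smul]
  have hQP : Q * P = Q := by
    rw [hP, mul_smul_comm, Finset.mul_sum, Finset.sum_congr rfl fun y _ => (hmulH y).2,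
      Finset.sum_const, Finset.card_univ, ← Nat.card_eq_fintype_card, ← Nat.cast_smul_eq_nsmul ℂ,
      smul_smul, inv_mul_cancel₀ hcH, one_smul]
  have hidem : ∀ (L : Subgroup G) [Fintype L],
      ((Nat.card L : ℂ)⁻¹ • ∑ y : L, ρ (y : G)) * ((Nat.card L : ℂ)⁻¹ • ∑ y : L, ρ (y : G)) =
        (Nat.card L : ℂ)⁻¹ • ∑ y : L, ρ (y : G) := by
    intro L _
    have hc : (Nat.card L : ℂ) ≠ 0 := Nat.cast_ne_zero.mpr Nat.card_pos.ne'
    have hm : ∀ y : L, ρ (y : G) * ((Nat.card L : ℂ)⁻¹ • ∑ z : L, ρ (z : G)) =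
        (Nat.card L : ℂ)⁻¹ • ∑ z : L, ρ (z : G) := by
      intro y
      rw [mul_smul_comm, Finset.mul_sum]
      congr 1
      refine Fintype.sum_equiv (Equiv.mulLeft y) _ _ fun k => ?_
      rw [← map_mul]; rfl
    rw [smul_mul_assoc, Finset.sum_mul, Finset.sum_congr rfl fun y _ => hm y, Finset.sum_const,
      Finset.card_univ, ← Nat.card_eq_fintype_card, ← Nat.cast_smul_eq_nsmul ℂ, smul_smul,
      inv_mul_cancel₀ hc, one_smul]
  have hR : IsIdempotentElem (P - Q) := by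
    show (P - Q) * (P - Q) = P - Q
    rw [mul_sub, sub_mul, sub_mul, hPQ, hQP, hidem H, hidem K, sub_self, sub_zero]
  obtain hproj := (LinearMap.isProj_range_iff_isIdempotentElem _).mpr hR
  refine ⟨Module.finrank ℂ (LinearMap.range (P - Q)), ?_⟩
  have ht := hproj.trace
  rw [map_sub, hP, hQ, map_smul, map_smul, map_sum, map_sum, smul_eq_mul, smul_eq_mul] at ht
  rw [← ht, ← hχ]
  rfl

end Cfsg.Agent.Lib.Recog95040
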