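import Mathlib
import Cfsg.Agent.Lib.M11Order.Simple

/-!
A group of order 95040 with 17280 elements of order 11 and 9504 elements of order 5 is simple.
-/

set_option autoImplicit false
set_option linter.style.haveILetI false

namespace Cfsg.Agent.Lib.Recog95040.Nse

open Subgroup Cfsg.Agent.Lib.SmallGroups Cfsg.Agent.Lib.M11Order

universe u

variable {G : Type u} [Group G] [Finite G] (hG : Nat.card G = 95040)
  (h11 : Nat.card {g : G // orderOf g = 11} = 17280)
  (h5 : Nat.card {g : G // orderOf g = 5} = 9504)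

include hG h11 in
theorem card_normalizer_eleven {y : G} (hy : orderOf y = 11) :
    Nat.card (normalizer (zpowers y : Set G)) = 55 := by
  haveI : Fact (Nat.Prime 11) := ⟨by norm_num⟩
  have hP : Nat.card ((default : Sylow 11 G) : Subgroup G) = 11 := by
    rw [card_sylow_eq default (k := 1) (m := 8640) (by rw [hG]; norm_num) (by norm_num), pow_one]
  obtain ⟨Q, hQ, -⟩ := existsUnique_sylow_of_orderOf (default : Sylow 11 G) hP hy
  have hn : Nat.card (Sylow 11 G) = 1728 := by
    have := card_orderOf_eq_prime default hP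
    rw [h11] at this
    omega
  have := card_normalizer_sylow_mul Q
  rw [hQ, hn, hG] at this
  omega

include hG h11 h5 in
theorem eq_bot_of_not_dvd {K : Subgroup G} [K.Normal] (h : ¬ 11 ∣ Nat.card K) : K = ⊥ := by
  haveI : Fact (Nat.Prime 11) := ⟨by norm_num⟩
  have hdvd : Nat.card K ∣ 95040 := hG ▸ K.card_subgroup_dvd_card
  have hmul : Nat.card K * K.index = 95040 := hG ▸ K.card_mul_index
  have hd8640 : Nat.card K ∣ 8640 := by
    refine Nat.Coprime.dvd_of_dvd_mul_right ?_ (show Nat.card K ∣ 8640 * 11 from hdvd)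
    exact ((Nat.Prime.coprime_iff_not_dvd (by norm_num)).2 h).symm
  have h5' : ¬ 5 ∣ Nat.card K := by
    intro h5K
    have hidx : ¬ 5 ∣ K.index := fun hi => by
      have := Nat.mul_dvd_mul h5K hi
      rw [hmul] at this
      norm_num at this
    have hle : Nat.card {g : G // orderOf g = 5} ≤ Nat.card K :=
      Nat.card_le_card_of_injective (fun g => (⟨g.1, mem_of_coprime_index (by
        rw [g.2]; exact (Nat.Prime.coprime_iff_not_dvd (by norm_num)).2 hidx)⟩ : K))
        fun a b e => Subtype.ext (congrArg (fun z : K => (z : G)) e)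
    have := Nat.le_of_dvd (by norm_num) hd8640
    omega
  have hd1728 : Nat.card K ∣ 1728 := by
    refine Nat.Coprime.dvd_of_dvd_mul_right ?_ (show Nat.card K ∣ 1728 * 5 from hd8640)
    exact ((Nat.Prime.coprime_iff_not_dvd (by norm_num)).2 h5').symm
  -- elements of order eleven act freely on `K`
  have hfree : ∀ y : G, orderOf y = 11 → ∀ k ∈ K, y * k = k * y → k = 1 := by
    intro y hy k hk hc
    have hkN : k ∈ normalizer (zpowers y : Set G) := by
      refine centralizer_le_normalizer _ ?_
      rw [mem_centralizer_iff]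
      intro m hm
      obtain ⟨i, rfl⟩ := Subgroup.mem_zpowers_iff.mp hm
      exact ((Commute.zpow_left hc i).eq)
    have hok : orderOf k ∣ Nat.card K := by
      simpa using orderOf_dvd_natCard (⟨k, hk⟩ : K)
    rw [← orderOf_eq_one_iff]
    refine Nat.eq_one_of_dvd_coprimes (show Nat.Coprime 55 1728 by norm_num) ?_
      (hok.trans hd1728)
    rw [← card_normalizer_eleven hG h11 hy]
    simpa using orderOf_dvd_natCard (⟨k, hkN⟩ : normalizer (zpowers y : Set G))
  obtain ⟨y, hy⟩ := exists_prime_orderOf_dvd_card' (G := G) 11 (by rw [hG]; norm_num)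
  have hK1 := free_card K hy (fun a => ⟨fun ha => Subgroup.Normal.conj_mem ‹_› a ha y, fun ha => by
    simpa [mul_assoc] using Subgroup.Normal.conj_mem ‹K.Normal› _ ha y⁻¹⟩) (hfree y hy)
  by_contra hne
  have hne1 : Nat.card K ≠ 1 := fun h1 => hne (Subgroup.card_eq_one.mp h1)
  have h3 : 3 ∣ Nat.card K := by
    have hmem : Nat.card K ∈ (Nat.divisors 1728).filter (fun d => d % 11 = 1 ∧ d ≠ 1) :=
      Finset.mem_filter.mpr ⟨Nat.mem_divisors.mpr ⟨hd1728, by norm_num⟩, hK1, hne1⟩
    exact (show ∀ d ∈ (Nat.divisors 1728).filter (fun d => d % 11 = 1 ∧ d ≠ 1), 3 ∣ d by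
      decide +kernel) _ hmem
  haveI : Fact (Nat.Prime 3) := ⟨Nat.prime_three⟩
  obtain ⟨Q⟩ : Nonempty (Sylow 3 K) := inferInstance
  set QG := (Q : Subgroup K).map K.subtype with hQG
  have hQcard : Nat.card QG = Nat.card (Q : Subgroup K) :=
    Nat.card_congr (equivMapOfInjective _ _ K.subtype_injective).symm.toEquiv
  have hQ3 : Nat.card QG % 11 ≠ 1 := by
    obtain ⟨n, hn⟩ := Q.isPGroup'.exists_card_eq
    have h1 : 3 ∣ Nat.card (Q : Subgroup K) := Q.dvd_card_of_dvd_card h3
    have h2 : Nat.card (Q : Subgroup K) ∣ 1728 := ((Q : Subgroup K).card_subgroup_dvd_card).trans hd1728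
    rw [hQcard]
    rw [hn] at h1 h2 ⊢
    have hn2 : n ≤ 3 := by
      by_contra hgt
      have := (pow_dvd_pow 3 (show 4 ≤ n by omega)).trans h2
      norm_num at this
    interval_cases n <;> simp_all
  have hsup := Sylow.normalizer_sup_eq_top Q
  have h11N : 11 ∣ Nat.card (normalizer (QG : Set G)) := by
    have hmap : (normalizer (QG : Set G)).map (QuotientGroup.mk' K) = ⊤ := by
      rw [← Subgroup.comap_injective (QuotientGroup.mk'_surjective K) |>.eq_iff, comap_top,
        comap_map_eq, QuotientGroup.ker_mk', hQG]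
      exact hsup
    have hd : K.index ∣ Nat.card (normalizer (QG : Set G)) := by
      have h2 := card_map_dvd (normalizer (QG : Set G)) (QuotientGroup.mk' K)
      rw [hmap, Subgroup.card_top] at h2
      exact h2
    refine dvd_trans ?_ hd
    have h2 : 11 ∣ Nat.card K * K.index := by rw [hmul]; norm_num
    exact ((Nat.Prime.dvd_mul (by norm_num)).mp h2).resolve_left h
  obtain ⟨⟨z, hzN⟩, hz⟩ := exists_prime_orderOf_dvd_card' 11 h11N
  rw [Subgroup.orderOf_mk] at hz
  have hQ1 := free_card QG hz (fun a => mem_normalizer_iff.mp hzN a)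
    fun a ha => hfree z hz a (map_subtype_le _ ha)
  exact hQ3 hQ1

include hG h11 h5 in
/-- The group is simple. -/
theorem isSimpleGroup : IsSimpleGroup G := by
  haveI : Fact (Nat.Prime 11) := ⟨by norm_num⟩
  haveI : Nontrivial G := Finite.one_lt_card_iff_nontrivial.mp (by rw [hG]; norm_num)
  refine ⟨fun N hN => ?_⟩
  haveI := hN
  by_cases h : 11 ∣ Nat.card N
  swap
  · exact Or.inl (eq_bot_of_not_dvd hG h11 h5 h)
  refine Or.inr ?_
  have hmul : Nat.card N * N.index = 95040 := hG ▸ N.card_mul_index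
  have hidx : ¬ 11 ∣ N.index := fun hi => by
    have := Nat.mul_dvd_mul h hi
    rw [hmul] at this
    norm_num at this
  have hall : ∀ g : G, orderOf g = 11 → g ∈ N := fun g hg => mem_of_coprime_index (by
    rw [hg]; exact (Nat.Prime.coprime_iff_not_dvd (by norm_num)).2 hidx)
  have hN11 : Nat.card {g : N // orderOf g = 11} = 17280 := by
    rw [← h11]
    exact Nat.card_congr
      { toFun := fun g => ⟨g.1.1, by rw [Subgroup.orderOf_coe]; exact g.2⟩
        invFun := fun g => ⟨⟨g.1, hall g.1 g.2⟩, by rw [Subgroup.orderOf_mk]; exact g.2⟩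
        left_inv := fun g => rfl
        right_inv := fun g => rfl }
  obtain ⟨P⟩ : Nonempty (Sylow 11 N) := inferInstance
  have hP : Nat.card (P : Subgroup N) = 11 := by
    obtain ⟨n, hn⟩ := P.isPGroup'.exists_card_eq
    have h1 : 11 ∣ Nat.card (P : Subgroup N) := P.dvd_card_of_dvd_card h
    have h2 : Nat.card (P : Subgroup N) ∣ 95040 :=
      ((P : Subgroup N).card_subgroup_dvd_card).trans (hG ▸ N.card_subgroup_dvd_card)
    rw [hn] at h1 h2 ⊢
    have hn2 : n ≤ 1 := by
      by_contra hgt
      have := (pow_dvd_pow 11 (show 2 ≤ n by omega)).trans h2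
      norm_num at this
    interval_cases n <;> simp_all
  have hcount := card_orderOf_eq_prime P hP
  rw [hN11] at hcount
  have hnorm := card_normalizer_sylow_mul P
  have hn1728 : Nat.card (Sylow 11 N) = 1728 := by omega
  rw [hn1728] at hnorm
  have hdvd : 11 ∣ Nat.card (normalizer ((P : Subgroup N) : Set N)) :=
    (dvd_of_eq hP.symm).trans (Subgroup.card_dvd_of_le le_normalizer)
  by_contra hne
  have hidx1 : N.index ≠ 1 := fun h1 => hne (Subgroup.index_eq_one.mp h1)
  have hN55 : Nat.card (normalizer ((P : Subgroup N) : Set N)) = 11 := by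
    obtain ⟨c, hc⟩ := hdvd
    rw [← hnorm, hc] at hmul
    have hc5 : c * N.index = 5 := by nlinarith [hmul]
    rcases Nat.prime_five.eq_one_or_self_of_dvd c ⟨_, hc5.symm⟩ with rfl | rfl
    · omega
    · omega
  have hle : normalizer ((P : Subgroup N) : Set N) ≤ centralizer ((P : Subgroup N) : Set N) := by
    rw [← Subgroup.eq_of_le_of_card_ge (le_normalizer (H := (P : Subgroup N))) (by rw [hN55, hP])]
    exact le_centralizer_of_prime hP
  have hcompl := MonoidHom.ker_transferSylow_isComplement' P hle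
  set K' := (MonoidHom.transferSylow P hle).ker with hK'
  have hK1728 : Nat.card K' = 1728 := by
    have := hcompl.card_mul
    rw [hP] at this
    omega
  have hmem : ∀ g : N, orderOf g ∣ 1728 → g ∈ K' := by
    intro g hg
    rw [hK', MonoidHom.mem_ker, ← orderOf_eq_one_iff]
    refine Nat.eq_one_of_dvd_coprimes (show Nat.Coprime 11 1728 by norm_num) ?_
      ((orderOf_map_dvd _ g).trans hg)
    exact (_root_.orderOf_dvd_natCard _).trans (dvd_of_eq hP)
  haveI hKn : (K'.map N.subtype).Normal := by
    refine ⟨fun a ha g => ?_⟩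
    obtain ⟨b, hb, rfl⟩ := mem_map.mp ha
    refine mem_map.mpr ⟨⟨g * b * g⁻¹, hN.conj_mem _ b.2 g⟩, hmem _ ?_, rfl⟩
    rw [Subgroup.orderOf_mk, show g * (b : G) * g⁻¹ = MulAut.conj g b from rfl, MulEquiv.orderOf_eq,
      Subgroup.orderOf_coe, ← hK1728]
    simpa using orderOf_dvd_natCard (⟨b, hb⟩ : K')
  have hc : Nat.card (K'.map N.subtype) = 1728 := by
    rw [← hK1728]
    exact Nat.card_congr (equivMapOfInjective _ _ N.subtype_injective).symm.toEquiv
  have := eq_bot_of_not_dvd hG h11 h5 (K := K'.map N.subtype) (by rw [hc]; norm_num)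
  rw [this, Subgroup.card_bot] at hc
  omega

end Cfsg.Agent.Lib.Recog95040.Nse
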