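import Cfsg.Agent.Lib.Recog95040.Main
import Cfsg.Agent.Lib.Recog95040.NseSimple
import Cfsg.Agent.Lib.Fusion.Mathieu.Identify
import Cfsg.Agent.Lib.Golay.Simple
import Cfsg.Prelude.Def_Sporadic

/-!
Instances of the predicate for order 95040, and simplicity from the order and the set of the numbers
of elements of each order: modulo 11 and modulo 5 these numbers are fixed by the centralizers of
elements of order 11 and 5.
-/

set_option autoImplicit false
set_option linter.style.haveILetI false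
set_option linter.unusedSectionVars false

namespace Cfsg.Agent.Lib.Recog95040

open Cfsg Subgroup Cfsg.Agent.Lib.SmallGroups
open scoped Pointwise

universe u w

theorem isM12_M12 : Cfsg.IsM12 ↥Cfsg.Spor.M12 := by
  refine ⟨?_, Cfsg.Agent.Lib.Fusion.Mathieu.card_M12⟩
  rw [Cfsg.Agent.Lib.Fusion.Mathieu.eq_m12]
  exact Cfsg.Agent.Lib.Compute.Mathieu.isSimpleGroup_m12

theorem isM12_stabilizer {d : Finset Cfsg.GolayPt} (hd : d ∈ Cfsg.dodecads) :
    Cfsg.IsM12 ↥(MulAction.stabilizer Cfsg.M24 d) :=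
  ⟨Golay.isSimpleGroup_stabDodecad hd, by
    rw [Nat.card_congr (Golay.stabEquiv d).toEquiv, Golay.card_stab_dodecad hd]⟩

namespace Nse

variable {M : Type w} [Group M] [Finite M]

/-- The elements of order `n`, counted modulo `p` by the action of an element of order `p`. -/
theorem count_modEq {p : ℕ} [hp : Fact p.Prime] {x : M} (hx : orderOf x = p) (n : ℕ) :
    Nat.card {g : M // orderOf g = n} ≡ Nat.card {g : M // orderOf g = n ∧ x * g = g * x} [MOD p] := by
  classical
  let act : MulAction (zpowers x) {g : M // orderOf g = n} :=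
    { smul := fun z g => ⟨(z : M) * g.1 * (z : M)⁻¹, by
        rw [← MulAut.conj_apply, MulEquiv.orderOf_eq]; exact g.2⟩
      one_smul := fun g => Subtype.ext (show (1 : M) * g.1 * (1 : M)⁻¹ = g.1 by group)
      mul_smul := fun a b g => Subtype.ext (show (a * b : M) * g.1 * ((a : M) * b)⁻¹ =
        (a : M) * ((b : M) * g.1 * (b : M)⁻¹) * (a : M)⁻¹ by group) }
  letI := act
  have hP : IsPGroup p (zpowers x) :=
    IsPGroup.of_card (n := 1) (by rw [Nat.card_zpowers, hx, pow_one])
  refine (hP.card_modEq_card_fixedPoints {g : M // orderOf g = n}).trans ?_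
  apply congrArg (fun a : ℕ => a % p)
  refine Nat.card_congr
    { toFun := fun g => ⟨g.1.1, g.1.2, ?_⟩
      invFun := fun g => ⟨⟨g.1, g.2.1⟩, fun z => Subtype.ext ?_⟩
      left_inv := fun g => rfl
      right_inv := fun g => rfl }
  · have h : x * g.1.1 * x⁻¹ = g.1.1 :=
      congrArg Subtype.val (g.2 (⟨x, mem_zpowers x⟩ : zpowers x))
    exact mul_inv_eq_iff_eq_mul.mp h
  · show (z : M) * g.1 * (z : M)⁻¹ = g.1
    obtain ⟨k, hk⟩ := z.2
    have hc : Commute x g.1 := g.2.2
    rw [← hk, (hc.zpow_left k).eq, mul_inv_cancel_right]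

theorem dvd_of_fixed_empty {p : ℕ} [hp : Fact p.Prime] {x : M} (hx : orderOf x = p) {n : ℕ}
    (h : ∀ g : M, orderOf g = n → x * g ≠ g * x) : p ∣ Nat.card {g : M // orderOf g = n} := by
  haveI : IsEmpty {g : M // orderOf g = n ∧ x * g = g * x} := ⟨fun g => h g.1 g.2.1 g.2.2⟩
  refine Nat.modEq_zero_iff_dvd.mp ((count_modEq hx n).trans ?_)
  rw [Nat.card_of_isEmpty]

/-- Every element of order five has a cyclic centralizer of order ten. -/
theorem exists_ten (hM : IsM12 M) {h : M} (hh : orderOf h = 5) :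
    ∃ z : M, orderOf z = 10 ∧ h * z = z * h ∧ ∀ g : M, h * g = g * h → g ∈ zpowers z := by
  classical
  cases nonempty_fintype M
  haveI : Fact (Nat.Prime 5) := ⟨by norm_num⟩
  obtain ⟨P⟩ := exists_pack hM
  obtain ⟨x, X, hx, hyN, hC, hI, hP, -⟩ := P.classify
  obtain ⟨F⟩ := P.exists_four hC hI hP
  have hS : Nat.card ((default : Sylow 5 M) : Subgroup M) = 5 := by
    rw [card_sylow_eq default (k := 1) (m := 19008) (by rw [hM.2]; norm_num) (by norm_num), pow_one]
  obtain ⟨Q, hQ, -⟩ := existsUnique_sylow_of_orderOf (default : Sylow 5 M) hS hh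
  obtain ⟨R, hR, -⟩ := existsUnique_sylow_of_orderOf (default : Sylow 5 M) hS P.hy
  obtain ⟨c, hc⟩ := MulAction.exists_smul_eq M R Q
  have hmem : c * P.y * c⁻¹ ∈ zpowers h := by
    rw [← hQ, ← hc, Sylow.coe_subgroup_smul, hR]
    exact ⟨P.y, mem_zpowers _, rfl⟩
  have hy' : orderOf (c * P.y * c⁻¹) = 5 := by
    rw [← MulAut.conj_apply, MulEquiv.orderOf_eq, P.hy]
  have hh' : h ∈ zpowers (c * P.y * c⁻¹) := by
    rw [Subgroup.eq_of_le_of_card_ge (zpowers_le.mpr hmem)
      (by rw [Nat.card_zpowers, Nat.card_zpowers, hh, hy'])]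
    exact mem_zpowers h
  refine ⟨c * (P.y * P.s) * c⁻¹, ?_, ?_, fun g hg => ?_⟩
  · rw [← MulAut.conj_apply, MulEquiv.orderOf_eq, P.orderOf_ys]
  · obtain ⟨k, hk⟩ := hh'
    have hcomm : Commute (c * P.y * c⁻¹) (c * (P.y * P.s) * c⁻¹) := by
      simpa [MulAut.conj_apply] using
        ((Commute.refl P.y).mul_right P.hys).map (MulAut.conj c).toMonoidHom
    rw [← hk]
    exact (hcomm.zpow_left k).eq
  · obtain ⟨k, hk⟩ := hmem
    have hg' : Commute (c * P.y * c⁻¹) g := hk ▸ (show Commute h g from hg).zpow_left k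
    have h2 : c⁻¹ * g * c ∈ centralizer ({P.y} : Set M) := by
      rw [mem_centralizer_singleton_iff]
      calc c⁻¹ * g * c * P.y = c⁻¹ * (g * (c * P.y * c⁻¹)) * c := by group
        _ = P.y * (c⁻¹ * g * c) := by rw [← hg'.eq]; group
    rw [F.centralizer_eq] at h2
    obtain ⟨j, hj⟩ := h2
    refine ⟨j, ?_⟩
    show (c * (P.y * P.s) * c⁻¹) ^ j = g
    rw [conj_zpow, show (P.y * P.s) ^ j = c⁻¹ * g * c from hj]
    group

theorem count_eleven (hM : IsM12 M) : Nat.card {g : M // orderOf g = 11} = 17280 := by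
  haveI : Fact (Nat.Prime 11) := ⟨by norm_num⟩
  obtain ⟨x, hx⟩ := exists_prime_orderOf_dvd_card' (G := M) 11 (by rw [hM.2]; norm_num)
  have hS : Nat.card ((default : Sylow 11 M) : Subgroup M) = 11 := by
    rw [card_sylow_eq default (k := 1) (m := 8640) (by rw [hM.2]; norm_num) (by norm_num), pow_one]
  obtain ⟨Q, hQ, -⟩ := existsUnique_sylow_of_orderOf (default : Sylow 11 M) hS hx
  have h := card_normalizer_sylow_mul Q
  rw [hQ, Cfsg.Agent.Lib.Recog95040.card_normalizer_eleven hM hx, hM.2] at h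
  rw [card_orderOf_eq_prime default hS]
  omega

theorem count_five (hM : IsM12 M) : Nat.card {g : M // orderOf g = 5} = 9504 := by
  haveI : Fact (Nat.Prime 5) := ⟨by norm_num⟩
  have hS : Nat.card ((default : Sylow 5 M) : Subgroup M) = 5 := by
    rw [card_sylow_eq default (k := 1) (m := 19008) (by rw [hM.2]; norm_num) (by norm_num), pow_one]
  rw [card_orderOf_eq_prime default hS, card_sylow_five hM]

theorem count_ten (hM : IsM12 M) : Nat.card {g : M // orderOf g = 10} = 9504 := by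
  rw [← count_five hM]
  refine Nat.card_congr (Equiv.ofBijective
    (fun g : {g : M // orderOf g = 10} => (⟨g.1 ^ 6, by rw [orderOf_pow, g.2]; rfl⟩ :
      {g : M // orderOf g = 5})) ⟨fun a b e => ?_, fun h => ?_⟩)
  · have e' : a.1 ^ 6 = b.1 ^ 6 := congrArg Subtype.val e
    obtain ⟨z, hz, -, hzC⟩ := exists_ten hM (h := a.1 ^ 6) (by rw [orderOf_pow, a.2]; rfl)
    have key : ∀ g : M, orderOf g = 10 → g ^ 6 = a.1 ^ 6 →
        ∃ i, i < 10 ∧ i % 2 = 1 ∧ z ^ i = g := by
      intro g hg h6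
      have hgz : g ∈ zpowers z := hzC g (by rw [← h6, ← pow_succ, ← pow_succ'])
      classical
      rw [mem_zpowers_iff_mem_range_orderOf, hz] at hgz
      obtain ⟨i, hi, hi2⟩ := Finset.mem_image.mp hgz
      refine ⟨i, Finset.mem_range.mp hi, ?_, hi2⟩
      by_contra hodd
      have h5 : g ^ 5 = 1 := by
        rw [← hi2, ← pow_mul, ← orderOf_dvd_iff_pow_eq_one, hz]
        omega
      have := orderOf_dvd_of_pow_eq_one h5
      rw [hg] at this
      norm_num at this
    obtain ⟨i, hi, hi2, hia⟩ := key a.1 a.2 rfl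
    obtain ⟨j, hj, hj2, hjb⟩ := key b.1 b.2 e'.symm
    rw [← hia, ← hjb, ← pow_mul, ← pow_mul, pow_inj_mod, hz] at e'
    apply Subtype.ext
    rw [← hia, ← hjb, show i = j by omega]
  · obtain ⟨z, hz, hzh, -⟩ := exists_ten hM h.2
    have h2 : orderOf (z ^ 5) = 2 := by rw [orderOf_pow, hz]; rfl
    have hc : Commute h.1 (z ^ 5) := (show Commute h.1 z from hzh).pow_right 5
    refine ⟨⟨h.1 * z ^ 5, ?_⟩, Subtype.ext ?_⟩
    · rw [hc.orderOf_mul_eq_mul_orderOf_of_coprime (by rw [h.2, h2]; norm_num), h.2, h2]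
    · show (h.1 * z ^ 5) ^ 6 = h.1
      have e1 : h.1 ^ 5 = 1 := orderOf_dvd_iff_pow_eq_one.mp (dvd_of_eq h.2)
      have e2 : (z ^ 5) ^ 2 = 1 := orderOf_dvd_iff_pow_eq_one.mp (dvd_of_eq h2)
      rw [hc.mul_pow, pow_succ h.1 5, e1, one_mul, show (6 : ℕ) = 2 * 3 from rfl, pow_mul (z ^ 5), e2,
        one_pow, mul_one]

theorem count_two_mod (hM : IsM12 M) : Nat.card {g : M // orderOf g = 2} % 5 = 1 := by
  haveI : Fact (Nat.Prime 5) := ⟨by norm_num⟩
  obtain ⟨y, hy⟩ := exists_prime_orderOf_dvd_card' (G := M) 5 (by rw [hM.2]; norm_num)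
  obtain ⟨z, hz, hzy, hzC⟩ := exists_ten hM hy
  have h2 : orderOf (z ^ 5) = 2 := by rw [orderOf_pow, hz]; rfl
  have h1 : Nat.card {g : M // orderOf g = 2 ∧ y * g = g * y} = 1 := by
    refine Nat.card_eq_one_iff_unique.mpr ⟨⟨fun a b => Subtype.ext ?_⟩,
      ⟨⟨z ^ 5, h2, ((show Commute y z from hzy).pow_right 5).eq⟩⟩⟩
    suffices key : ∀ g : M, orderOf g = 2 → y * g = g * y → g = z ^ 5 by
      rw [key _ a.2.1 a.2.2, key _ b.2.1 b.2.2]
    intro g hg hc
    have hgz := hzC g hc
    classical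
    rw [mem_zpowers_iff_mem_range_orderOf, hz] at hgz
    obtain ⟨i, hi, rfl⟩ := Finset.mem_image.mp hgz
    have hi' := Finset.mem_range.mp hi
    have e : z ^ (i * 2) = 1 := by rw [pow_mul, ← hg, pow_orderOf_eq_one]
    rw [← orderOf_dvd_iff_pow_eq_one, hz] at e
    rcases (show i = 0 ∨ i = 5 by omega) with rfl | rfl
    · simp at hg
    · rfl
  have h := count_modEq hy 2
  rw [h1] at h
  exact h

theorem count_mod_five (hM : IsM12 M) {n : ℕ} (h1 : n ≠ 1) (h2 : n ≠ 2) (h5 : n ≠ 5)
    (h10 : n ≠ 10) : 5 ∣ Nat.card {g : M // orderOf g = n} := by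
  haveI : Fact (Nat.Prime 5) := ⟨by norm_num⟩
  obtain ⟨y, hy⟩ := exists_prime_orderOf_dvd_card' (G := M) 5 (by rw [hM.2]; norm_num)
  obtain ⟨z, hz, hzy, hzC⟩ := exists_ten hM hy
  refine dvd_of_fixed_empty hy fun g hg hc => ?_
  have h := Subgroup.orderOf_dvd_natCard _ (hzC g hc)
  rw [Nat.card_zpowers, hz, hg] at h
  have := Nat.le_of_dvd (by norm_num) h
  interval_cases n <;> omega

theorem count_mod_eleven (hM : IsM12 M) {n : ℕ} (h1 : n ≠ 1) (h11 : n ≠ 11) :
    11 ∣ Nat.card {g : M // orderOf g = n} := by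
  haveI : Fact (Nat.Prime 11) := ⟨by norm_num⟩
  obtain ⟨x, hx⟩ := exists_prime_orderOf_dvd_card' (G := M) 11 (by rw [hM.2]; norm_num)
  refine dvd_of_fixed_empty hx fun g hg hc => ?_
  have h := Subgroup.orderOf_dvd_natCard (centralizer ({x} : Set M))
    (mem_centralizer_singleton_iff.mpr hc.symm : g ∈ centralizer ({x} : Set M))
  rw [card_centralizer_eleven hM hx, hg] at h
  rcases (Nat.dvd_prime (by norm_num)).mp h with e | e
  · exact h1 e
  · exact h11 e

theorem count_one : Nat.card {g : M // orderOf g = 1} = 1 := by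
  simp only [orderOf_eq_one_iff]
  exact Nat.card_eq_one_iff_unique.mpr ⟨⟨fun a b => Subtype.ext (a.2.trans b.2.symm)⟩, ⟨⟨1, rfl⟩⟩⟩

/-- A group with the order and the numbers of elements of each order of a simple group of order
95040 is simple. -/
theorem isM12_of_counts (hM : IsM12 M) {G : Type u} [Group G] [Finite G]
    (hcard : Nat.card G = 95040)
    (hnse : ∀ n, 0 < Nat.card {g : G // orderOf g = n} →
      ∃ m, Nat.card {g : G // orderOf g = n} = Nat.card {g : M // orderOf g = m}) :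
    IsM12 G := by
  have hcount : ∀ p m : ℕ, [Fact p.Prime] → 95040 = p * m → ¬ p ∣ m →
      ∃ s k, s % p = 1 ∧ Nat.card {g : G // orderOf g = p} = s * (p - 1) ∧
        s * (p - 1) = Nat.card {g : M // orderOf g = k} := by
    intro p m hp hpm hm
    have hP : Nat.card ((default : Sylow p G) : Subgroup G) = p := by
      rw [card_sylow_eq default (k := 1) (m := m) (by rw [hcard, pow_one]; exact hpm) hm, pow_one]
    have h1 := card_orderOf_eq_prime (default : Sylow p G) hP
    have hs : Nat.card (Sylow p G) % p = 1 := by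
      have h := card_sylow_modEq_one p G
      rw [Nat.ModEq, Nat.mod_eq_of_lt hp.out.one_lt] at h
      exact h
    obtain ⟨k, hk⟩ := hnse p (by
      rw [h1]; exact Nat.mul_pos Nat.card_pos (by have := hp.out.two_le; omega))
    exact ⟨_, k, hs, h1, h1.symm.trans hk⟩
  haveI : Fact (Nat.Prime 11) := ⟨by norm_num⟩
  haveI : Fact (Nat.Prime 5) := ⟨by norm_num⟩
  have h11 : Nat.card {g : G // orderOf g = 11} = 17280 := by
    obtain ⟨s, k, hs, h1, hk⟩ := hcount 11 8640 (by norm_num) (by norm_num)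
    rw [h1, hk]
    by_cases e : k = 11
    · rw [e, count_eleven hM]
    exfalso
    by_cases e1 : k = 1
    · rw [e1, count_one] at hk
      omega
    obtain ⟨q, hq⟩ := count_mod_eleven hM e1 e
    omega
  have h5 : Nat.card {g : G // orderOf g = 5} = 9504 := by
    obtain ⟨s, k, hs, h1, hk⟩ := hcount 5 19008 (by norm_num) (by norm_num)
    rw [h1, hk]
    by_cases e : k = 5
    · rw [e, count_five hM]
    by_cases e10 : k = 10
    · rw [e10, count_ten hM]
    exfalso
    by_cases e1 : k = 1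
    · rw [e1, count_one] at hk
      omega
    by_cases e2 : k = 2
    · rw [e2] at hk
      have := count_two_mod hM
      omega
    obtain ⟨q, hq⟩ := count_mod_five hM e1 e2 e e10
    omega
  exact ⟨Nse.isSimpleGroup hcard h11 h5, hcard⟩

end Nse

/-- A group of the order of `M12` with the same set of numbers of elements of each order is simple
of order 95040. -/
theorem isM12_of_nse {G : Type u} [Group G] [Finite G]
    (hcard : Nat.card G = Nat.card ↥Cfsg.Spor.M12)
    (hnse : {c : ℕ | 0 < c ∧ ∃ n : ℕ, c = Nat.card {g : G // orderOf g = n}} =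
      {c : ℕ | 0 < c ∧ ∃ n : ℕ, c = Nat.card {g : ↥Cfsg.Spor.M12 // orderOf g = n}}) :
    Cfsg.IsM12 G :=
  Nse.isM12_of_counts isM12_M12 (hcard.trans isM12_M12.2) fun n hn =>
    ((Set.ext_iff.mp hnse _).mp ⟨hn, n, rfl⟩).2

end Cfsg.Agent.Lib.Recog95040
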