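import Mathlib

/-!
A checker for branch-and-bound certificates: multisets of items from a list whose vectors sum to
a given target, with linear (Farkas) cuts at the leaves.
-/

set_option autoImplicit false

namespace Cfsg.Agent.Lib.Recog95040.Engine

/-- Dot product of two lists. -/
def dot : List Int → List Int → Int
  | a :: as, b :: bs => a * b + dot as bs
  | _, _ => 0

/-- Difference of two lists. -/
def subV (t a : List Int) : List Int := List.zipWith (· - ·) t a

/-- Entries at the marked places are nonnegative. -/
def nonneg : List Bool → List Int → Bool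
  | true :: bd, x :: xs => decide (0 ≤ x) && nonneg bd xs
  | false :: bd, _ :: xs => nonneg bd xs
  | _, _ => true

/-- The remainder: nonnegative at slack places, zero elsewhere. -/
def final : List Bool → List Int → Bool
  | true :: sl, x :: xs => decide (0 ≤ x) && final sl xs
  | false :: sl, x :: xs => (x == 0) && final sl xs
  | [], [] => true
  | _, _ => false

/-- Multipliers that are nonpositive at slack places. -/
def validY : List Bool → List Int → Bool
  | true :: sl, x :: xs => decide (x ≤ 0) && validY sl xs
  | false :: sl, _ :: xs => validY sl xs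
  | _, _ => true

/-- Certificate trees. -/
inductive Tree : Type
  | L : Tree
  | C : List Int → Tree
  | B : Nat → Tree → Tree → Tree

variable {α : Type}

/-- The checker. -/
def check (bd sl : List Bool) (vec : α → List Int) (P : List α → Bool) :
    Tree → List α → List Int → List α → Bool
  | .L, items, t, ch =>
      items.all (fun a => !nonneg bd (subV t (vec a))) && (!final sl t || P ch)
  | .C y, items, t, _ =>
      validY sl y && decide (0 < dot y t) &&
        items.all (fun a => !nonneg bd (subV t (vec a)) || decide (dot y (vec a) ≤ 0))
  | .B j l r, items, t, ch =>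
      let its := items.filter (fun a => nonneg bd (subV t (vec a)))
      match its[j]? with
      | none => false
      | some a =>
          check bd sl vec P l its (subV t (vec a)) (a :: ch) &&
            check bd sl vec P r (its.eraseIdx j) t ch

/-- The remainder after removing a list of items. -/
def rem (vec : α → List Int) (t : List Int) (L : List α) : List Int :=
  L.foldl (fun t a => subV t (vec a)) t

theorem subV_comm : ∀ t a b : List Int, subV (subV t a) b = subV (subV t b) a := by
  intro t
  induction t with
  | nil => intro a b; simp [subV]
  | cons x xs ih =>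
    intro a b
    rcases a with _ | ⟨a, as⟩ <;> rcases b with _ | ⟨b, bs⟩ <;> simp [subV]
    exact ⟨by ring, ih as bs⟩

theorem length_subV {t a : List Int} (h : a.length = t.length) :
    (subV t a).length = t.length := by
  simp [subV, h]

theorem dot_subV : ∀ y t a : List Int, a.length = t.length →
    dot y (subV t a) = dot y t - dot y a := by
  intro y
  induction y with
  | nil => intro t a _; simp [dot]
  | cons c cs ih =>
    intro t a h
    rcases t with _ | ⟨x, xs⟩ <;> rcases a with _ | ⟨b, bs⟩
    · simp [dot, subV]
    · simp at h
    · simp at h
    · have := ih xs bs (by simpa using h)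
      simp only [subV, List.zipWith_cons_cons, dot] at this ⊢
      rw [this]
      ring

theorem dot_final_le : ∀ (sl : List Bool) (y r : List Int), validY sl y = true →
    final sl r = true → dot y r ≤ 0 := by
  intro sl
  induction sl with
  | nil => intro y r _ h; rcases r with _ | ⟨x, xs⟩ <;> simp [final] at h; cases y <;> simp [dot]
  | cons b bs ih =>
    intro y r hy hr
    rcases r with _ | ⟨x, xs⟩
    · cases b <;> simp [final] at hr
    rcases y with _ | ⟨c, cs⟩
    · simp [dot]
    cases b
    · simp only [validY] at hy
      simp only [final, Bool.and_eq_true, beq_iff_eq] at hr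
      simpa [dot, hr.1] using ih cs xs hy hr.2
    · simp only [validY, Bool.and_eq_true, decide_eq_true_eq] at hy
      simp only [final, Bool.and_eq_true, decide_eq_true_eq] at hr
      have h1 := ih cs xs hy.2 hr.2
      have h2 : c * x ≤ 0 := mul_nonpos_of_nonpos_of_nonneg hy.1 hr.1
      simp only [dot]
      omega

theorem nonneg_of_subV : ∀ (bd : List Bool) (t a : List Int), a.length = t.length →
    nonneg bd a = true → nonneg bd (subV t a) = true → nonneg bd t = true := by
  intro bd
  induction bd with
  | nil => intro t a _ _ _; simp [nonneg]
  | cons b bs ih =>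
    intro t a h ha hs
    rcases t with _ | ⟨x, xs⟩ <;> rcases a with _ | ⟨c, cs⟩
    · cases b <;> simp [nonneg]
    · simp at h
    · simp at h
    · simp only [subV, List.zipWith_cons_cons] at hs
      cases b
      · simp only [nonneg] at ha hs ⊢
        exact ih xs cs (by simpa using h) ha hs
      · simp only [nonneg, Bool.and_eq_true, decide_eq_true_eq] at ha hs ⊢
        exact ⟨by omega, ih xs cs (by simpa using h) ha.2 hs.2⟩

variable {bd sl : List Bool} {vec : α → List Int}

theorem rem_perm {L L' : List α} (h : L.Perm L') (t : List Int) : rem vec t L = rem vec t L' := by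
  haveI : RightCommutative (fun (t : List Int) (a : α) => subV t (vec a)) :=
    ⟨fun t a b => subV_comm t (vec a) (vec b)⟩
  exact h.foldl_eq t

theorem nonneg_of_rem {n : ℕ} : ∀ (L : List α) (t : List Int), t.length = n →
    (∀ a ∈ L, (vec a).length = n ∧ nonneg bd (vec a) = true) →
    nonneg bd (rem vec t L) = true → nonneg bd t = true := by
  intro L
  induction L with
  | nil => intro t _ _ h; exact h
  | cons a L ih =>
    intro t ht hL h
    obtain ⟨h1, h2⟩ := hL a (List.mem_cons_self)
    refine nonneg_of_subV bd t (vec a) (h1.trans ht.symm) h2 (ih _ ?_ ?_ h)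
    · rw [length_subV (h1.trans ht.symm), ht]
    · exact fun b hb => hL b (List.mem_cons_of_mem _ hb)

theorem dot_rem {n : ℕ} (y : List Int) : ∀ (L : List α) (t : List Int), t.length = n →
    (∀ a ∈ L, (vec a).length = n ∧ dot y (vec a) ≤ 0) → dot y t ≤ dot y (rem vec t L) := by
  intro L
  induction L with
  | nil => intro t _ _; exact le_refl _
  | cons a L ih =>
    intro t ht hL
    obtain ⟨h1, h2⟩ := hL a (List.mem_cons_self)
    have h3 := ih (subV t (vec a)) (by rw [length_subV (h1.trans ht.symm), ht])
      fun b hb => hL b (List.mem_cons_of_mem _ hb)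
    rw [dot_subV y t _ (h1.trans ht.symm)] at h3
    show dot y t ≤ dot y (rem vec (subV t (vec a)) L)
    omega

theorem final_nonneg : ∀ (sl bd : List Bool) (r : List Int), final sl r = true →
    nonneg bd r = true := by
  intro sl
  induction sl with
  | nil =>
    intro bd r h
    rcases r with _ | ⟨x, xs⟩ <;> simp [final] at h
    rcases bd with _ | ⟨b, bs⟩
    · simp [nonneg]
    · cases b <;> simp [nonneg]
  | cons c cs ih =>
    intro bd r h
    rcases r with _ | ⟨x, xs⟩
    · cases c <;> simp [final] at h
    rcases bd with _ | ⟨b, bs⟩
    · simp [nonneg]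
    cases c
    · simp only [final, Bool.and_eq_true, beq_iff_eq] at h
      cases b <;> simp [nonneg, h.1, ih bs xs h.2]
    · simp only [final, Bool.and_eq_true, decide_eq_true_eq] at h
      cases b <;> simp [nonneg, h.1, ih bs xs h.2]

/-- Soundness of the checker. -/
theorem check_sound [DecidableEq α] {n : ℕ} {P : List α → Bool} :
    ∀ (T : Tree) (items : List α) (t : List Int) (ch : List α),
    check bd sl vec P T items t ch = true → t.length = n →
    (∀ a ∈ items, (vec a).length = n ∧ nonneg bd (vec a) = true) →
    ∀ L : List α, (∀ a ∈ L, a ∈ items) → final sl (rem vec t L) = true →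
      ∃ L', L'.Perm (L ++ ch) ∧ P L' = true := by
  intro T
  have hfit : ∀ (items : List α) (t : List Int), t.length = n →
      (∀ a ∈ items, (vec a).length = n ∧ nonneg bd (vec a) = true) →
      ∀ L : List α, (∀ a ∈ L, a ∈ items) → final sl (rem vec t L) = true →
      ∀ a ∈ L, nonneg bd (subV t (vec a)) = true := by
    intro items t ht hit L hL hfin a ha
    have hp := List.perm_cons_erase ha
    rw [rem_perm hp] at hfin
    obtain ⟨h1, h2⟩ := hit a (hL a ha)
    refine nonneg_of_rem (L.erase a) (subV t (vec a))
      ((length_subV (h1.trans ht.symm)).trans ht) (fun b hb => hit b (hL b ?_))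
      (final_nonneg sl bd _ hfin)
    exact List.mem_of_mem_erase hb
  induction T with
  | L =>
    intro items t ch h ht hit L hL hfin
    simp only [check, Bool.and_eq_true, List.all_eq_true, Bool.not_eq_true',
      Bool.or_eq_true] at h
    have hnil : L = [] := by
      rcases L with _ | ⟨a, L⟩
      · rfl
      exfalso
      have h1 := hfit items t ht hit _ hL hfin a List.mem_cons_self
      rw [h.1 a (hL a List.mem_cons_self)] at h1
      exact Bool.noConfusion h1
    subst hnil
    rcases h.2 with h2 | h2
    · rw [show rem vec t ([] : List α) = t from rfl, h2] at hfin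
      exact Bool.noConfusion hfin
    · exact ⟨ch, List.Perm.refl _, h2⟩
  | C y =>
    intro items t ch h ht hit L hL hfin
    simp only [check, Bool.and_eq_true, List.all_eq_true, decide_eq_true_eq,
      Bool.or_eq_true, Bool.not_eq_true'] at h
    exfalso
    have h1 := dot_rem y L t ht fun a ha => by
      refine ⟨(hit a (hL a ha)).1, ?_⟩
      rcases h.2 a (hL a ha) with h2 | h2
      · rw [hfit items t ht hit L hL hfin a ha] at h2
        exact Bool.noConfusion h2
      · exact h2
    have h2 := dot_final_le sl y _ h.1.1 hfin
    omega
  | B j l r ihl ihr =>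
    intro items t ch h ht hit L hL hfin
    simp only [check] at h
    set its := items.filter (fun a => nonneg bd (subV t (vec a))) with hits
    have hL' : ∀ a ∈ L, a ∈ its := fun a ha =>
      List.mem_filter.mpr ⟨hL a ha, hfit items t ht hit L hL hfin a ha⟩
    have hit' : ∀ a ∈ its, (vec a).length = n ∧ nonneg bd (vec a) = true :=
      fun a ha => hit a (List.mem_filter.mp ha).1
    split at h
    · exact Bool.noConfusion h
    rename_i a ha
    simp only [Bool.and_eq_true] at h
    have haI : a ∈ its := List.mem_of_getElem? ha
    by_cases hc : a ∈ L
    · have hp := List.perm_cons_erase hc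
      rw [rem_perm hp] at hfin
      obtain ⟨L', h1, h2⟩ := ihl its (subV t (vec a)) (a :: ch) h.1
        ((length_subV ((hit' a haI).1.trans ht.symm)).trans ht) hit' (L.erase a)
        (fun b hb => hL' b (List.mem_of_mem_erase hb)) hfin
      exact ⟨L', h1.trans (List.perm_middle.trans (hp.symm.append_right ch)), h2⟩
    · refine ihr (its.eraseIdx j) t ch h.2 ht
        (fun b hb => hit' b (List.mem_of_mem_eraseIdx hb)) L (fun b hb => ?_) hfin
      obtain ⟨i, hi⟩ := List.getElem?_of_mem (hL' b hb)
      refine List.mem_eraseIdx_iff_getElem?.mpr ⟨i, ?_, hi⟩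
      rintro rfl
      rw [ha] at hi
      exact hc (Option.some.inj hi ▸ hb)

/-- Top level form. -/
theorem check_main [DecidableEq α] {P : List α → Bool} {T : Tree} {items : List α} {t : List Int}
    (h : check bd sl vec P T items t [] = true)
    (hit : items.all (fun a => (vec a).length == t.length && nonneg bd (vec a)) = true)
    {L : List α} (hL : ∀ a ∈ L, a ∈ items) (hfin : final sl (rem vec t L) = true) :
    ∃ L', L'.Perm L ∧ P L' = true := by
  obtain ⟨L', h1, h2⟩ := check_sound T items t [] h rfl (fun a ha => by
    have := List.all_eq_true.mp hit a ha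
    simpa [Bool.and_eq_true] using this) L hL hfin
  exact ⟨L', by simpa using h1, h2⟩

end Cfsg.Agent.Lib.Recog95040.Engine
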