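import Mathlib
import Cfsg.Agent.Lib.Recog95040.Engine

/-!
The possible rows of a character table of a simple group of order 95040, restricted to the columns
of an element of order eleven, an element `y` of order five, an involution `s` and `y * s`.
-/

set_option autoImplicit false

namespace Cfsg.Agent.Lib.Recog95040

/-- A row: degree, minus the trace sum at eleven, pair flag, sums at `y`, at `y * s`, value at `s`. -/
structure It : Type where
  d : Int
  u : Int
  pr : Int
  a : Int
  w : Int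
  s : Int
deriving DecidableEq

namespace It

/-- Number of characters represented. -/
def M (e : It) : Int := 1 + e.pr

/-- Multiplicity of the trivial eigenvalue at eleven. -/
def m (d u : Int) : Int := (d + 5 * u) / 11

/-- The seventeen weights. -/
def vec (e : It) : List Int :=
  [e.M * (e.d * e.d), e.M * (e.a * e.a), e.M * (e.w * e.w), e.M * (e.s * e.s), e.M * (e.u * e.u),
    e.pr, e.M * (e.d * e.a), e.M * (e.d * e.w), e.M * (e.d * e.s), e.M * (e.d * e.u),
    e.M * (e.a * e.w), e.M * (e.a * e.s), e.M * (e.w * e.s), e.M * (e.u * e.a), e.M * (e.u * e.w),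
    e.M * (e.u * e.s), e.M * (e.s * e.s * e.u * (95040 / e.d))]

/-- The weights of the first stage. -/
def vec1 (e : It) : List Int :=
  [e.M * (e.u * e.u), e.pr, e.M * (e.d * e.u), e.M * (e.u * e.s),
    e.M * (e.s * e.s * e.u * (95040 / e.d)), e.M * (e.d * e.d), e.M * (e.s * e.s)]

/-- The weights used for the number of Sylow 5-subgroups. -/
def vec5 (e : It) : List Int :=
  [e.M * (e.u * e.u), e.pr, e.M * (e.d * e.u), e.M * (e.u * e.a),
    -(e.M * (e.a * e.a * e.u * (95040 / e.d))), e.M * (e.d * e.d)]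

/-- Projection to the first stage. -/
def proj (e : It) : It := ⟨e.d, e.u, e.pr, 0, 0, e.s⟩

end It

def okKind (d u : Int) : Bool :=
  decide (95040 % d = 0) && decide (0 ≤ It.m d u) && decide ((d + 5 * u) % 11 = 0) &&
    decide (0 ≤ 2 * It.m d u - u - u % 2) && (decide (u % 2 = 0) || decide (2 * (d * d) < 95040))

def okS (C d u s : Int) : Bool :=
  decide ((1 + u % 2) * (s * s) < C) && decide ((s - d) % 4 = 0) && decide (-d < s) &&
    decide (s < d) && decide ((95040 / C * s) % d = 0)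

def okA (d u a : Int) : Bool :=
  decide ((a - 2 * d) % 5 = 0) && (decide (d % 5 ≠ 0) || decide (a = 0)) &&
    decide (-(2 * It.m d u) ≤ a) && decide (a ≤ 2 * It.m d u) &&
    decide ((1 + u % 2) * (a * a) ≤ 40) && decide ((4752 * a) % d = 0)

def okW (d u a w s : Int) : Bool :=
  decide ((a - w) % 2 = 0) && (decide (d % 5 ≠ 0) || decide (w = 0)) &&
    decide ((1 + u % 2) * (w * w) ≤ 40) && decide ((4752 * w) % d = 0) &&
    decide ((d + s + 2 * a + 2 * w) % 10 = 0) && decide ((d - s + 2 * a - 2 * w) % 10 = 0) &&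
    decide (0 ≤ d + s + 2 * a + 2 * w) && decide (0 ≤ d - s + 2 * a - 2 * w)

/-- `n` consecutive integers from `lo`. -/
def ints (lo : Int) (n : Nat) : List Int := (List.range n).map fun k => lo + Int.ofNat k

theorem mem_ints {lo z : Int} {n : Nat} (h1 : lo ≤ z) (h2 : z < lo + n) : z ∈ ints lo n := by
  refine List.mem_map.mpr ⟨(z - lo).toNat, List.mem_range.mpr (by omega), ?_⟩
  show lo + ((z - lo).toNat : Int) = z
  omega

/-- The possible degrees. -/
def degs : List Int := (ints 2 307).filter fun d => decide (95040 % d = 0)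

/-- All possible rows. -/
def gen (C : Int) : List It :=
  degs.flatMap fun d => ((ints (-4) 9).filter (okKind d)).flatMap fun u =>
    ((ints (-92) 185).filter (okS C d u)).flatMap fun s =>
      ((ints (-6) 13).filter (okA d u)).flatMap fun a =>
        ((ints (-6) 13).filter fun w => okW d u a w s).map fun w => ⟨d, u, u % 2, a, w, s⟩

/-- The conditions on a row. -/
structure Good (C : Int) (e : It) : Prop where
  hd : 2 ≤ e.d ∧ e.d ≤ 308
  hu : -4 ≤ e.u ∧ e.u ≤ 4
  hpr : e.pr = e.u % 2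
  kind : okKind e.d e.u = true
  hs : okS C e.d e.u e.s = true
  ha : okA e.d e.u e.a = true
  hw : okW e.d e.u e.a e.w e.s = true

theorem abs_six {M z : Int} (hM : 1 ≤ M) (h : M * (z * z) ≤ 40) : -6 ≤ z ∧ z ≤ 6 := by
  constructor <;> nlinarith [mul_self_nonneg z]

theorem mem_gen {C : Int} (hC : C ≤ 8640) {e : It} (h : Good C e) : e ∈ gen C := by
  obtain ⟨d, u, pr, a, w, s⟩ := e
  obtain ⟨hd, hu, hpr, hk, hs, ha, hw⟩ := h
  dsimp at hd hu hpr hk hs ha hw
  have hs' := hs
  have ha' := ha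
  have hw' := hw
  have hk' := hk
  simp only [okS, okA, okW, okKind, Bool.and_eq_true, decide_eq_true_eq] at hs' ha' hw' hk'
  have hu2 : 0 ≤ u % 2 := Int.emod_nonneg u two_ne_zero
  obtain ⟨a1, a2⟩ := abs_six (by omega) ha'.1.2
  obtain ⟨w1, w2⟩ := abs_six (by omega) hw'.1.1.1.1.1.2
  have s1 : -92 ≤ s ∧ s ≤ 92 := by
    have : s * s < 8640 := by nlinarith [hs'.1.1.1.1, mul_self_nonneg s]
    constructor <;> nlinarith
  subst hpr
  simp only [gen, degs, List.mem_flatMap, List.mem_map, List.mem_filter, decide_eq_true_eq]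
  exact ⟨d, ⟨mem_ints hd.1 (by omega), hk'.1.1.1.1⟩, u, ⟨mem_ints hu.1 (by omega), hk⟩, s,
    ⟨mem_ints s1.1 (by omega), hs⟩, a, ⟨mem_ints a1 (by omega), ha⟩, w,
    ⟨mem_ints w1 (by omega), hw⟩, rfl⟩

/-- All rows relevant for the number of Sylow 5-subgroups. -/
def gen5 : List It :=
  degs.flatMap fun d => ((ints (-4) 9).filter fun u => okKind d u && decide (u ≠ 0)).flatMap fun u =>
    ((ints (-(2 * It.m d u)) (4 * It.m d u + 1).toNat).filter fun a =>
      decide ((a - 2 * d) % 5 = 0) && (decide (d % 5 ≠ 0) || decide (a = 0))).map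
        fun a => ⟨d, u, u % 2, a, 0, 0⟩

theorem mem_gen5 {d u a : Int} (hd : 2 ≤ d ∧ d ≤ 308) (hu : -4 ≤ u ∧ u ≤ 4) (hu0 : u ≠ 0)
    (hk : okKind d u = true) (ha : -(2 * It.m d u) ≤ a ∧ a ≤ 2 * It.m d u)
    (ha5 : (a - 2 * d) % 5 = 0) (ha0 : d % 5 = 0 → a = 0) :
    (⟨d, u, u % 2, a, 0, 0⟩ : It) ∈ gen5 := by
  have hk' := hk
  simp only [okKind, Bool.and_eq_true, decide_eq_true_eq] at hk'
  simp only [gen5, degs, List.mem_flatMap, List.mem_map, List.mem_filter, decide_eq_true_eq,
    Bool.and_eq_true, Bool.or_eq_true]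
  refine ⟨d, ⟨mem_ints hd.1 (by omega), hk'.1.1.1.1⟩, u, ⟨mem_ints hu.1 (by omega), hk, hu0⟩, a,
    ⟨mem_ints ha.1 (by omega), ha5, ?_⟩, rfl⟩
  by_cases h : d % 5 = 0
  · exact Or.inr (ha0 h)
  · exact Or.inl h

/-- Rows from a table of integers. -/
def ofRows : List (Int × Int × Int × Int × Int × Int) → List It :=
  List.map fun (d, u, pr, a, w, s) => ⟨d, u, pr, a, w, s⟩

end Cfsg.Agent.Lib.Recog95040
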