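import Mathlib
import Cfsg.Prelude.Def_Sporadic
import Cfsg.Agent.Lib.Chars.Real
import Cfsg.Agent.Lib.SmallGroups.PrimeChar.Involutions
import Cfsg.Agent.Lib.Recog95040.Items

/-!
The column of an element of order eleven with normalizer of order 55.
-/

set_option autoImplicit false
set_option linter.style.haveILetI false

namespace Cfsg.Agent.Lib.Recog95040

open Cfsg Subgroup
open Cfsg.Agent.Lib.Chars Cfsg.Agent.Lib.SmallGroups.PrimeChar
open scoped ComplexConjugate

universe u

variable {G : Type u} [Group G] [Fintype G]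

/-- The column at an element `x` of order eleven. -/
structure XCol (x : G) where
  u : IrrCharacter G → ℤ
  m : IrrCharacter G → ℕ
  χ₀ : IrrCharacter G
  deg : ∀ χ : IrrCharacter G, ∀ d : ℕ, (χ : G → ℂ) 1 = d → (d : ℤ) + 5 * u χ = 11 * m χ
  val : ∀ χ : IrrCharacter G, (χ : G → ℂ) x + (χ : G → ℂ) x⁻¹ = (u χ : ℂ)
  bound : ∀ χ, 0 ≤ 2 * (m χ : ℤ) - u χ - u χ % 2
  even : ∀ χ, χ ≠ χ₀ → χ ≠ irrConj χ₀ → u χ % 2 = 0
  odd : u χ₀ % 2 = 1
  conj_ne : irrConj χ₀ ≠ χ₀
  u_conj : ∀ χ, u (irrConj χ) = u χ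
  u_trivial : u (trivialIrr G) = 2
  sq : ∑ χ, u χ * u χ = 22
  orth : ∀ g : G, ¬ orderOf g = 11 →
    ∑ χ : IrrCharacter G, (χ : G → ℂ) g * (u χ : ℂ) = 0
  fix_sum : ∀ χ : IrrCharacter G, ∀ [Fintype (zpowers x)],
    ∑ z : zpowers x, (χ : G → ℂ) z = (11 : ℂ) * (m χ : ℂ)

variable [Fact (Nat.Prime 11)]

set_option maxHeartbeats 1000000 in
theorem exists_xCol {x : G} (hx : orderOf x = 11)
    (hC : Nat.card (centralizer ({x} : Set G)) = 11)
    (hN : Nat.card (normalizer ((zpowers x : Subgroup G) : Set G)) = 55) :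
    Nonempty (XCol x) := by
  classical
  have hU : (fusion 11 x).card = 5 := by
    have h := card_normalizer_zpowers (p := 11) hx
    rw [hC, hN] at h
    omega
  have hneg : (-1 : ZMod 11) ∉ fusion 11 x := by
    intro h
    rw [mem_fusion] at h
    obtain ⟨g, hg⟩ := isConj_iff.mp h
    have hinv : xp 11 x (-1) = x⁻¹ := by
      rw [eq_inv_iff_mul_eq_one]
      nth_rewrite 2 [← xp_one (p := 11) (x := x)]
      rw [← xp_add hx, neg_add_cancel, xp_zero]
    rw [hinv] at hg
    have hgN : g ∈ normalizer ((zpowers x : Subgroup G) : Set G) := by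
      rw [mem_normalizer_iff]
      have hz : ∀ k : ℤ, g * x ^ k * g⁻¹ = (x ^ k)⁻¹ := fun k => by
        rw [← conj_zpow, hg, inv_zpow]
      intro a
      constructor
      · rintro ⟨k, rfl⟩
        exact ⟨-k, by simp [hz, zpow_neg]⟩
      · rintro ⟨k, hk⟩
        refine ⟨-k, ?_⟩
        have hk' : x ^ k = g * a * g⁻¹ := hk
        have h1 := hz (-k)
        rw [zpow_neg, inv_inv] at h1
        show x ^ (-k) = a
        rw [zpow_neg]
        calc (x ^ k)⁻¹ = g⁻¹ * (g * (x ^ k)⁻¹ * g⁻¹) * g := by group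
          _ = g⁻¹ * (g * a * g⁻¹) * g := by rw [h1, hk']
          _ = a := by group
    have h55 : g ^ 55 = 1 := by
      have h1 := pow_card_eq_one' (x := (⟨g, hgN⟩ : normalizer ((zpowers x : Subgroup G) : Set G)))
      rw [hN] at h1
      simpa [Subtype.ext_iff] using h1
    have hk : ∀ k : ℕ, g ^ (2 * k) * x * (g ^ (2 * k))⁻¹ = x := by
      intro k
      induction k with
      | zero => simp
      | succ k ih =>
        have h2 : g * g * x * (g * g)⁻¹ = x := by
          calc g * g * x * (g * g)⁻¹ = g * (g * x * g⁻¹) * g⁻¹ := by group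
            _ = g * x⁻¹ * g⁻¹ := by rw [hg]
            _ = x := by rw [← conj_inv, hg, inv_inv]
        calc g ^ (2 * (k + 1)) * x * (g ^ (2 * (k + 1)))⁻¹
            = g ^ (2 * k) * (g * g * x * (g * g)⁻¹) * (g ^ (2 * k))⁻¹ := by
              rw [mul_add, pow_add, pow_two]; group
          _ = x := by rw [h2, ih]
    have hg' : g * x * g⁻¹ = x := by
      have := hk 27
      rw [show g ^ (2 * 27) = g⁻¹ by
        rw [eq_inv_iff_mul_eq_one, ← pow_succ]; exact h55, inv_inv] at this
      calc g * x * g⁻¹ = g * (g⁻¹ * x * g) * g⁻¹ := by rw [this]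
        _ = x := by group
    rw [hg] at hg'
    have : x ^ 2 = 1 := by
      rw [pow_two]; nth_rewrite 1 [← hg']; exact inv_mul_cancel x
    have := Nat.le_of_dvd two_pos (orderOf_dvd_of_pow_eq_one this)
    omega
  have hinj : Function.Injective (fun u : ZMod 11 => -u) := neg_injective
  have hdisj : Disjoint (fusion 11 x) ((fusion 11 x).image (fun u => -u)) := by
    rw [Finset.disjoint_left]
    intro u hu hu'
    obtain ⟨v, hv, rfl⟩ := Finset.mem_image.mp hu'
    apply hneg
    have hv0 := ne_zero_of_mem_fusion hx hv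
    have := mul_mem_fusion hx hu (inv_mem_fusion hx hv)
    rwa [neg_mul, mul_inv_cancel₀ hv0] at this
  have hun : Finset.univ.erase (0 : ZMod 11) =
      (fusion 11 x).disjUnion ((fusion 11 x).image (fun u => -u)) hdisj := by
    refine (Finset.eq_of_subset_of_card_le ?_ ?_).symm
    · intro k hk
      rw [Finset.mem_disjUnion] at hk
      refine Finset.mem_erase.mpr ⟨?_, Finset.mem_univ _⟩
      rcases hk with hk | hk
      · exact ne_zero_of_mem_fusion hx hk
      · obtain ⟨v, hv, rfl⟩ := Finset.mem_image.mp hk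
        exact neg_ne_zero.mpr (ne_zero_of_mem_fusion hx hv)
    · rw [Finset.card_disjUnion, Finset.card_image_of_injective _ hinj, hU,
        Finset.card_erase_of_mem (Finset.mem_univ _), Finset.card_univ, ZMod.card]
  set X : IrrCharacter G → ℤ := w hx 1 with hXdef
  set Y : IrrCharacter G → ℤ := w hx (-1) with hYdef
  have hwX : ∀ χ, ∀ k ∈ fusion 11 x, w hx k χ = X χ := fun χ k hk => by
    have := w_mul_fusion hx hk 1 χ
    rwa [one_mul] at this
  have hwY : ∀ χ, ∀ k ∈ fusion 11 x, w hx (-k) χ = Y χ := fun χ k hk => by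
    have := w_mul_fusion hx hk (-1) χ
    rwa [neg_one_mul] at this
  have hsplit : ∀ χ (f : ZMod 11 → ℂ), ∑ k ∈ Finset.univ.erase (0 : ZMod 11),
      (w hx k χ : ℂ) * f k = (X χ : ℂ) * ∑ k ∈ fusion 11 x, f k +
        (Y χ : ℂ) * ∑ k ∈ fusion 11 x, f (-k) := by
    intro χ f
    rw [hun, Finset.sum_disjUnion, Finset.sum_image fun a _ b _ h => hinj h, Finset.mul_sum,
      Finset.mul_sum]
    congr 1
    · exact Finset.sum_congr rfl fun k hk => by rw [hwX χ k hk]
    · exact Finset.sum_congr rfl fun k hk => by rw [hwY χ k hk]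
  have hψ : ∑ k ∈ fusion 11 x, ((ZMod.stdAddChar k : ℂ) + ZMod.stdAddChar (-k)) = -1 := by
    have h := AddChar.sum_mulShift (1 : ZMod 11) (ZMod.isPrimitive_stdAddChar 11)
    simp only [mul_one, one_ne_zero, if_false] at h
    rw [← Finset.add_sum_erase _ _ (Finset.mem_univ (0 : ZMod 11)), hun, Finset.sum_disjUnion,
      Finset.sum_image fun a _ b _ h => hinj h, AddChar.map_zero_eq_one] at h
    rw [Finset.sum_add_distrib]
    linear_combination h
  have hwconj : ∀ (k : ZMod 11) χ, w hx k (irrConj χ) = w hx (-k) χ := by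
    intro k χ
    apply Int.cast_injective (α := ℂ)
    rw [← map_intCast (starRingEnd ℂ) (w hx (-k) χ), w_eq, w_eq, map_mul, map_inv₀,
      Complex.conj_natCast, map_sum]
    congr 1
    refine Finset.sum_congr rfl fun j _ => ?_
    rw [irrConj_apply, map_mul, map_sub, map_one, conj_stdAddChar, neg_mul, neg_neg]
  have hmult : ∀ χ (k : ZMod 11), 0 ≤ (multNat hx χ 0 : ℤ) + w hx k χ := fun χ k => by
    rw [w]; omega
  have hXX : ∑ χ, X χ * X χ = 6 := by
    rw [hXdef, gram hx hC one_ne_zero one_ne_zero, hU]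
    have : (fusion 11 x).filter (fun u => (1 : ZMod 11) * u = 1) = {1} := by
      ext u
      simp only [Finset.mem_filter, Finset.mem_singleton, one_mul]
      exact ⟨fun h => h.2, fun h => ⟨h ▸ one_mem_fusion, h⟩⟩
    rw [this]; norm_num
  have hn1 : (-1 : ZMod 11) ≠ 0 := neg_ne_zero.mpr one_ne_zero
  have hYY : ∑ χ, Y χ * Y χ = 6 := by
    rw [hYdef, gram hx hC hn1 hn1, hU]
    have : (fusion 11 x).filter (fun u => (-1 : ZMod 11) * u = -1) = {1} := by
      ext u
      simp only [Finset.mem_filter, Finset.mem_singleton, neg_one_mul, neg_inj]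
      exact ⟨fun h => h.2, fun h => ⟨h ▸ one_mem_fusion, h⟩⟩
    rw [this]; norm_num
  have hXY : ∑ χ, X χ * Y χ = 5 := by
    rw [hXdef, hYdef, gram hx hC one_ne_zero hn1, hU]
    have : (fusion 11 x).filter (fun u => (-1 : ZMod 11) * u = 1) = ∅ := by
      ext u
      simp only [Finset.mem_filter, Finset.notMem_empty, iff_false, neg_one_mul, not_and]
      intro hu h
      exact hneg (by rw [← h, neg_neg]; exact hu)
    rw [this]; norm_num
  set D : IrrCharacter G → ℤ := fun χ => X χ - Y χ with hD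
  have hDD : ∑ χ, D χ * D χ = 2 := by
    have : ∑ χ, D χ * D χ = ∑ χ, X χ * X χ - 2 * ∑ χ, X χ * Y χ + ∑ χ, Y χ * Y χ := by
      rw [Finset.mul_sum, ← Finset.sum_sub_distrib, ← Finset.sum_add_distrib]
      exact Finset.sum_congr rfl fun χ _ => by simp only [hD]; ring
    rw [this, hXX, hYY, hXY]; norm_num
  have hDc : ∀ χ, D (irrConj χ) = -D χ := fun χ => by
    simp only [hD, hXdef, hYdef, hwconj, neg_neg]; ring
  obtain ⟨χ₀, hχ₀⟩ : ∃ χ, D χ ≠ 0 := by
    by_contra h
    push Not at h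
    simp [h] at hDD
  have hne : irrConj χ₀ ≠ χ₀ := fun h => hχ₀ (by have := hDc χ₀; rw [h] at this; omega)
  have hrest : D χ₀ * D χ₀ = 1 ∧ ∀ χ, χ ≠ χ₀ → χ ≠ irrConj χ₀ → D χ = 0 := by
    have h1 : ∑ χ ∈ ({χ₀, irrConj χ₀} : Finset (IrrCharacter G)), D χ * D χ +
        ∑ χ ∈ Finset.univ \ {χ₀, irrConj χ₀}, D χ * D χ = 2 := by
      rw [add_comm, Finset.sum_sdiff (Finset.subset_univ _), hDD]
    rw [Finset.sum_pair hne.symm, hDc, neg_mul_neg] at h1
    have h2 : 1 ≤ D χ₀ * D χ₀ := by nlinarith [mul_self_pos.mpr hχ₀]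
    have h3 : 0 ≤ ∑ χ ∈ Finset.univ \ {χ₀, irrConj χ₀}, D χ * D χ :=
      Finset.sum_nonneg fun i _ => mul_self_nonneg _
    refine ⟨by omega, fun χ hχ hχ' => ?_⟩
    have := (Finset.sum_eq_zero_iff_of_nonneg fun i _ => mul_self_nonneg (D i)).mp
      (by omega : ∑ χ ∈ Finset.univ \ {χ₀, irrConj χ₀}, D χ * D χ = 0) χ (by simp [hχ, hχ'])
    exact mul_self_eq_zero.mp this
  refine ⟨{
    u := fun χ => -(X χ + Y χ), m := fun χ => multNat hx χ 0, χ₀ := χ₀, deg := ?_, val := ?_,
    bound := ?_, even := ?_, odd := ?_, conj_ne := hne, u_conj := ?_, u_trivial := ?_, sq := ?_,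
    orth := ?_, fix_sum := ?_ }⟩
  · intro χ d hd
    have h1 := degree_eq hx χ hd
    have h2 : ∑ k ∈ Finset.univ.erase (0 : ZMod 11), w hx k χ = 5 * (X χ + Y χ) := by
      rw [hun, Finset.sum_disjUnion, Finset.sum_image fun a _ b _ h => hinj h,
        Finset.sum_congr rfl (hwX χ), Finset.sum_congr rfl (hwY χ), Finset.sum_const,
        Finset.sum_const, hU]
      ring
    rw [h2] at h1
    push_cast at h1 ⊢
    linarith
  · intro χ
    rw [irr_inv, apply_eq_sum_w hx χ, map_sum]
    simp only [map_mul, map_intCast, conj_stdAddChar]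
    rw [← Finset.sum_add_distrib]
    simp only [← mul_add]
    rw [hsplit χ fun k => ZMod.stdAddChar k + ZMod.stdAddChar (-k)]
    simp only [neg_neg]
    rw [hψ, Finset.sum_congr rfl fun k _ => add_comm (ZMod.stdAddChar (-k) : ℂ) _, hψ]
    push_cast; ring
  · intro χ
    have h1 := hmult χ 1
    have h2 := hmult χ (-1)
    simp only [hXdef, hYdef]
    omega
  · intro χ h1 h2
    have := hrest.2 χ h1 h2
    simp only [hD] at this
    omega
  · have h := hrest.1
    simp only [hD] at h
    have : X χ₀ - Y χ₀ = 1 ∨ X χ₀ - Y χ₀ = -1 := mul_self_eq_one_iff.mp h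
    omega
  · intro χ
    simp only [hXdef, hYdef, hwconj, neg_neg]; ring
  · simp only [hXdef, hYdef, w_trivial hx one_ne_zero, w_trivial hx hn1]; norm_num
  · have : ∑ χ, -(X χ + Y χ) * -(X χ + Y χ) =
        ∑ χ, X χ * X χ + 2 * ∑ χ, X χ * Y χ + ∑ χ, Y χ * Y χ := by
      rw [Finset.mul_sum, ← Finset.sum_add_distrib, ← Finset.sum_add_distrib]
      exact Finset.sum_congr rfl fun χ _ => by ring
    rw [this, hXX, hYY, hXY]; norm_num
  · intro g hg
    have hnc : ∀ j : ZMod 11, j ≠ 0 → ¬ IsConj (xp 11 x j) g := by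
      intro j hj hc
      apply hg
      obtain ⟨c, hc⟩ := isConj_iff.mp hc
      rw [← hc, ← MulAut.conj_apply, MulEquiv.orderOf_eq]
      refine orderOf_eq_prime ?_ fun h => hj (xp_injective hx (h.trans xp_zero.symm))
      have h11 : x ^ 11 = 1 := orderOf_dvd_iff_pow_eq_one.mp (dvd_of_eq hx)
      rw [xp, ← pow_mul, mul_comm, pow_mul, h11, one_pow]
    have h1 := sum_apply_mul_w hx 1 hnc
    have h2 := sum_apply_mul_w hx (-1) hnc
    simp only [Int.cast_neg, Int.cast_add, mul_neg, mul_add, Finset.sum_neg_distrib,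
      Finset.sum_add_distrib, hXdef, hYdef, h1, h2, add_zero, neg_zero]
  · intro χ _
    rw [multNat_spec, mult, ← mul_assoc,
      show (11 : ℂ) * ((11 : ℕ) : ℂ)⁻¹ = 1 by norm_num, one_mul]
    simp only [zero_mul, neg_zero, AddChar.map_zero_eq_one, mul_one]
    let f : ZMod 11 → zpowers x := fun j => ⟨xp 11 x j, pow_mem (mem_zpowers x) _⟩
    have hf : Function.Bijective f := by
      rw [Fintype.bijective_iff_injective_and_card]
      refine ⟨fun a b h => xp_injective hx (congrArg Subtype.val h), ?_⟩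
      rw [ZMod.card, ← Nat.card_eq_fintype_card, Nat.card_zpowers, hx]
    exact (Fintype.sum_equiv (Equiv.ofBijective f hf) _ _ fun j => rfl).symm

namespace XCol

variable {x : G} (X : XCol x)

open scoped Classical in
/-- One character from the exceptional pair and all other nontrivial characters. -/
noncomputable def reps : List (IrrCharacter G) :=
  X.χ₀ :: (Finset.univ \ {trivialIrr G, X.χ₀, irrConj X.χ₀}).toList

omit [Fact (Nat.Prime 11)] in
/-- Sums over all characters through the representatives. -/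
theorem sum_reps (f : IrrCharacter G → ℤ) (hf : ∀ χ, f (irrConj χ) = f χ) :
    (X.reps.map fun χ => (1 + X.u χ % 2) * f χ).sum = ∑ χ, f χ - f (trivialIrr G) := by
  classical
  have h0 : trivialIrr G ≠ X.χ₀ := fun h => by
    have h1 := X.odd
    rw [← h, X.u_trivial] at h1
    norm_num at h1
  have h0' : trivialIrr G ≠ irrConj X.χ₀ := fun h => by
    have h1 := X.odd
    rw [← X.u_conj, ← h, X.u_trivial] at h1
    norm_num at h1
  have h2 := Finset.sum_sdiff (f := f)
    (Finset.subset_univ ({trivialIrr G, X.χ₀, irrConj X.χ₀} : Finset (IrrCharacter G)))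
  rw [Finset.sum_insert (by simp [h0, h0']), Finset.sum_pair X.conj_ne.symm, hf] at h2
  rw [reps, List.map_cons, List.sum_cons, X.odd, Finset.sum_map_toList,
    Finset.sum_congr rfl (g := f) fun χ hχ => ?_]
  · linarith
  · simp only [Finset.mem_sdiff, Finset.mem_univ, true_and, Finset.mem_insert,
      Finset.mem_singleton, not_or] at hχ
    rw [X.even χ hχ.2.1 hχ.2.2, add_zero, one_mul]

omit [Fact (Nat.Prime 11)] in
theorem mem_reps {χ : IrrCharacter G} (h : χ ∈ X.reps) : χ ≠ trivialIrr G := by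
  classical
  rcases List.mem_cons.mp h with rfl | h
  · intro h1
    have h2 := X.odd
    rw [h1, X.u_trivial] at h2
    norm_num at h2
  · intro h1
    simp [h1] at h

end XCol

end Cfsg.Agent.Lib.Recog95040
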