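import Mathlib
import Cfsg.Agent.Lib.Recog95040.XCol
import Cfsg.Agent.Lib.Recog95040.Items

/-!
From sums over irreducible characters to the checker.
-/

set_option autoImplicit false

namespace Cfsg.Agent.Lib.Recog95040

open Cfsg
open Cfsg.Agent.Lib.Chars

universe u

/-- The remainder in terms of sums of weights. -/
theorem rem_map {α : Type} (ps : List ((α → Int) × Int)) (L : List α) :
    Engine.rem (fun a => ps.map fun p => p.1 a) (ps.map fun p => p.2) L =
      ps.map fun p => p.2 - (L.map p.1).sum := by
  induction L generalizing ps with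
  | nil => simp [Engine.rem]
  | cons a L ih =>
    have h := ih (ps.map fun p => (p.1, p.2 - p.1 a))
    simp only [List.map_map, Function.comp_def] at h
    show Engine.rem (fun a => ps.map fun p => p.1 a)
      (Engine.subV (ps.map fun p => p.2) (ps.map fun p => p.1 a)) L = _
    have hsub : Engine.subV (ps.map fun p => p.2) (ps.map fun p => p.1 a) =
        ps.map fun p => p.2 - p.1 a := by
      unfold Engine.subV
      rw [List.zipWith_map, List.zipWith_self]
    rw [hsub, h]
    exact List.map_congr_left fun p _ => by rw [List.map_cons, List.sum_cons]; ring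

theorem sum_filter_of_zero {α : Type} (p : α → Bool) (f : α → Int) (L : List α)
    (h : ∀ a ∈ L, p a = false → f a = 0) : ((L.filter p).map f).sum = (L.map f).sum := by
  induction L with
  | nil => rfl
  | cons a L ih =>
    have hi := ih fun b hb => h b (List.mem_cons_of_mem _ hb)
    by_cases hp : p a = true
    · rw [List.filter_cons_of_pos hp, List.map_cons, List.map_cons, List.sum_cons, List.sum_cons,
        hi]
    · rw [List.filter_cons_of_neg hp, List.map_cons, List.sum_cons, hi,
        h a List.mem_cons_self (by simpa using hp), zero_add]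

theorem sum_filter_le {α : Type} (p : α → Bool) (f : α → Int) (L : List α)
    (h : ∀ a ∈ L, 0 ≤ f a) : ((L.filter p).map f).sum ≤ (L.map f).sum := by
  induction L with
  | nil => exact le_refl _
  | cons a L ih =>
    have hi := ih fun b hb => h b (List.mem_cons_of_mem _ hb)
    have ha := h a List.mem_cons_self
    by_cases hp : p a = true
    · rw [List.filter_cons_of_pos hp, List.map_cons, List.map_cons, List.sum_cons, List.sum_cons]
      omega
    · rw [List.filter_cons_of_neg hp, List.map_cons, List.sum_cons]
      omega

namespace XCol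

variable {G : Type u} [Group G] [Fintype G] {x : G} (X : XCol x)

/-- Sums of weights over the rows of the representatives. -/
theorem sum_items (item : IrrCharacter G → It) (hM : ∀ χ, (item χ).pr = X.u χ % 2)
    (g : It → Int) (f : IrrCharacter G → ℤ) (hfg : ∀ χ, g (item χ) = f χ)
    (hf : ∀ χ, f (irrConj χ) = f χ) :
    ((X.reps.map item).map fun e => e.M * g e).sum = ∑ χ, f χ - f (trivialIrr G) := by
  rw [← X.sum_reps f hf, List.map_map]
  congr 1
  exact List.map_congr_left fun χ _ => by
    simp only [Function.comp_apply, It.M, hM, hfg]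

/-- There is exactly one pair. -/
theorem sum_pr (item : IrrCharacter G → It) (hM : ∀ χ, (item χ).pr = X.u χ % 2) :
    ((X.reps.map item).map fun e => e.pr).sum = 1 := by
  classical
  rw [List.map_map, reps, List.map_cons, List.sum_cons, Function.comp_apply, hM, X.odd,
    List.sum_eq_zero, add_zero]
  intro z hz
  obtain ⟨χ, hχ, rfl⟩ := List.mem_map.mp hz
  simp only [Finset.mem_toList, Finset.mem_sdiff, Finset.mem_univ, true_and, Finset.mem_insert,
    Finset.mem_singleton, not_or] at hχ
  rw [Function.comp_apply, hM, X.even χ hχ.2.1 hχ.2.2]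

/-- The weight of one row is bounded by the sum. -/
theorem item_le (f : IrrCharacter G → ℤ) (hf0 : ∀ χ, 0 ≤ f χ)
    (hf : ∀ χ, f (irrConj χ) = f χ) {χ : IrrCharacter G} (hχ : χ ∈ X.reps) :
    (1 + X.u χ % 2) * f χ ≤ ∑ ψ, f ψ - f (trivialIrr G) := by
  rw [← X.sum_reps f hf]
  refine List.single_le_sum (fun z hz => ?_) _ (List.mem_map_of_mem hχ)
  obtain ⟨ψ, -, rfl⟩ := List.mem_map.mp hz
  exact mul_nonneg (by omega) (hf0 ψ)

end XCol

end Cfsg.Agent.Lib.Recog95040
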