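import Cfsg.Agent.Lib.Recog95040.Items

/-!
Certificate for a centralizer of order 1440.
-/

set_option autoImplicit false

namespace Cfsg.Agent.Lib.Recog95040.Cert

def items1440_0 : List (Int × Int × Int × Int × Int × Int) := [
  (6,1,1,2,-4,-2), (6,1,1,2,4,2), (11,0,0,2,2,-9), (11,0,0,2,0,-5), (11,0,0,2,-2,-1),
  (11,0,0,2,-4,3), (11,0,0,2,6,3), (11,0,0,2,-6,7), (11,0,0,2,4,7), (12,2,0,-1,-1,-8),
  (12,2,0,4,-6,-8), (12,2,0,4,4,-8), (12,2,0,-1,-3,-4), (12,2,0,4,2,-4), (12,2,0,-1,-5,0),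
  (12,2,0,-1,5,0), (12,2,0,4,0,0), (12,2,0,-1,3,4), (12,2,0,4,-2,4), (12,2,0,-1,1,8),
  (12,2,0,4,-4,8), (12,2,0,4,6,8), (15,-3,1,0,0,-5), (16,-1,1,2,4,-8), (16,-1,1,2,0,0),
  (16,-1,1,2,-4,8), (18,3,1,-4,-2,-6), (18,3,1,1,3,-6), (18,3,1,-4,2,6), (18,3,1,1,-3,6),
  (20,-4,0,0,0,0), (22,0,0,-1,-1,-18), (22,0,0,4,-6,-18), (22,0,0,4,4,-18), (22,0,0,-1,-3,-14),
  (22,0,0,4,2,-14), (22,0,0,-1,-5,-10), (22,0,0,-1,5,-10), (22,0,0,4,0,-10), (22,0,0,-1,3,-6),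
  (22,0,0,4,-2,-6), (22,0,0,-1,1,-2), (22,0,0,4,-4,-2), (22,0,0,4,6,-2), (22,0,0,-1,-1,2),
  (22,0,0,4,-6,2), (22,0,0,4,4,2), (22,0,0,-1,-3,6), (22,0,0,4,2,6), (22,0,0,-1,-5,10),
  (22,0,0,-1,5,10), (22,0,0,4,0,10), (22,0,0,-1,3,14), (22,0,0,4,-2,14), (22,0,0,-1,1,18),
  (22,0,0,4,-4,18), (22,0,0,4,6,18), (24,4,0,-2,0,-20), (24,4,0,3,-5,-20), (24,4,0,3,5,-20),
  (24,4,0,-2,-2,-16), (24,4,0,3,3,-16), (24,4,0,-2,-4,-12), (24,4,0,-2,6,-12), (24,4,0,3,1,-12),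
  (24,4,0,-2,-6,-8), (24,4,0,-2,4,-8), (24,4,0,3,-1,-8), (24,4,0,-2,2,-4), (24,4,0,3,-3,-4),
  (24,4,0,-2,0,0), (24,4,0,3,-5,0), (24,4,0,3,5,0), (24,4,0,-2,-2,4), (24,4,0,3,3,4),
  (24,4,0,-2,-4,8), (24,4,0,-2,6,8), (24,4,0,3,1,8), (24,4,0,-2,-6,12), (24,4,0,-2,4,12),
  (24,4,0,3,-1,12), (24,4,0,-2,2,16), (24,4,0,3,-3,16), (24,4,0,-2,0,20), (24,4,0,3,-5,20),
  (24,4,0,3,5,20), (27,-1,1,-1,-3,-9), (27,-1,1,4,2,-9), (32,-2,0,4,-2,-16), (32,-2,0,4,0,0),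
  (32,-2,0,4,2,16), (33,0,0,1,3,-31), (33,0,0,6,-2,-31), (33,0,0,-4,6,-27), (33,0,0,1,1,-27),
  (33,0,0,6,-4,-27), (33,0,0,6,6,-27), (33,0,0,-4,4,-23), (33,0,0,1,-1,-23), (33,0,0,6,-6,-23)]

def items1440_1 : List (Int × Int × Int × Int × Int × Int) := [
  (33,0,0,6,4,-23), (33,0,0,-4,2,-19), (33,0,0,1,-3,-19), (33,0,0,6,2,-19), (33,0,0,-4,0,-15),
  (33,0,0,1,-5,-15), (33,0,0,1,5,-15), (33,0,0,6,0,-15), (33,0,0,-4,-2,-11), (33,0,0,1,3,-11),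
  (33,0,0,6,-2,-11), (33,0,0,-4,-4,-7), (33,0,0,-4,6,-7), (33,0,0,1,1,-7), (33,0,0,6,-4,-7),
  (33,0,0,6,6,-7), (33,0,0,-4,-6,-3), (33,0,0,-4,4,-3), (33,0,0,1,-1,-3), (33,0,0,6,-6,-3),
  (33,0,0,6,4,-3), (33,0,0,-4,2,1), (33,0,0,1,-3,1), (33,0,0,6,2,1), (33,0,0,-4,0,5),
  (33,0,0,1,-5,5), (33,0,0,1,5,5), (33,0,0,6,0,5), (33,0,0,-4,-2,9), (33,0,0,1,3,9),
  (33,0,0,6,-2,9), (33,0,0,-4,-4,13), (33,0,0,-4,6,13), (33,0,0,1,1,13), (33,0,0,6,-4,13),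
  (33,0,0,6,6,13), (33,0,0,-4,-6,17), (33,0,0,-4,4,17), (33,0,0,1,-1,17), (33,0,0,6,-6,17),
  (33,0,0,6,4,17), (33,0,0,-4,2,21), (33,0,0,1,-3,21), (33,0,0,6,2,21), (33,0,0,-4,0,25),
  (33,0,0,1,-5,25), (33,0,0,1,5,25), (33,0,0,6,0,25), (33,0,0,-4,-2,29), (33,0,0,1,3,29),
  (33,0,0,6,-2,29), (40,3,1,0,0,-20), (40,3,1,0,0,0), (40,3,1,0,0,20), (44,0,0,-2,-2,-36),
  (44,0,0,3,3,-36), (44,0,0,-2,-4,-32), (44,0,0,-2,6,-32), (44,0,0,3,1,-32), (44,0,0,-2,-6,-28),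
  (44,0,0,-2,4,-28), (44,0,0,3,-1,-28), (44,0,0,-2,2,-24), (44,0,0,3,-3,-24), (44,0,0,-2,0,-20),
  (44,0,0,3,-5,-20), (44,0,0,3,5,-20), (44,0,0,-2,-2,-16), (44,0,0,3,3,-16), (44,0,0,-2,-4,-12),
  (44,0,0,-2,6,-12), (44,0,0,3,1,-12), (44,0,0,-2,-6,-8), (44,0,0,-2,4,-8), (44,0,0,3,-1,-8),
  (44,0,0,-2,2,-4), (44,0,0,3,-3,-4), (44,0,0,-2,0,0), (44,0,0,3,-5,0), (44,0,0,3,5,0),
  (44,0,0,-2,-2,4), (44,0,0,3,3,4), (44,0,0,-2,-4,8), (44,0,0,-2,6,8), (44,0,0,3,1,8),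
  (44,0,0,-2,-6,12), (44,0,0,-2,4,12), (44,0,0,3,-1,12), (44,0,0,-2,2,16), (44,0,0,3,-3,16),
  (44,0,0,-2,0,20), (44,0,0,3,-5,20), (44,0,0,3,5,20), (44,0,0,-2,-2,24), (44,0,0,3,3,24),
  (44,0,0,-2,-4,28), (44,0,0,-2,6,28), (44,0,0,3,1,28), (44,0,0,-2,-6,32), (44,0,0,-2,4,32)]

def items1440_2 : List (Int × Int × Int × Int × Int × Int) := [
  (44,0,0,3,-1,32), (44,0,0,-2,2,36), (44,0,0,3,-3,36), (45,2,0,0,0,-15), (48,-3,1,-4,2,-24),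
  (48,-3,1,1,-3,-24), (48,-3,1,-4,-2,-16), (48,-3,1,1,3,-16), (48,-3,1,-4,4,-8), (48,-3,1,1,-1,-8),
  (48,-3,1,-4,0,0), (48,-3,1,-4,-4,8), (48,-3,1,1,1,8), (48,-3,1,-4,2,16), (48,-3,1,1,-3,16),
  (48,-3,1,-4,-2,24), (48,-3,1,1,3,24), (54,-2,0,-2,-6,-18), (54,-2,0,-2,4,-18), (54,-2,0,3,-1,-18),
  (54,-2,0,-2,-4,18), (54,-2,0,-2,6,18), (54,-2,0,3,1,18), (55,0,0,0,0,-25), (55,0,0,0,0,-5),
  (55,0,0,0,0,15), (55,0,0,0,0,35), (60,-1,1,0,0,-20), (60,-1,1,0,0,0), (60,-1,1,0,0,20),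
  (66,0,0,-3,-3,-34), (66,0,0,2,2,-34), (66,0,0,-3,-5,-30), (66,0,0,-3,5,-30), (66,0,0,2,0,-30),
  (66,0,0,-3,3,-26), (66,0,0,2,-2,-26), (66,0,0,-3,1,-22), (66,0,0,2,-4,-22), (66,0,0,2,6,-22),
  (66,0,0,-3,-1,-18), (66,0,0,2,-6,-18), (66,0,0,2,4,-18), (66,0,0,-3,-3,-14), (66,0,0,2,2,-14),
  (66,0,0,-3,-5,-10), (66,0,0,-3,5,-10), (66,0,0,2,0,-10), (66,0,0,-3,3,-6), (66,0,0,2,-2,-6),
  (66,0,0,-3,1,-2), (66,0,0,2,-4,-2), (66,0,0,2,6,-2), (66,0,0,-3,-1,2), (66,0,0,2,-6,2),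
  (66,0,0,2,4,2), (66,0,0,-3,-3,6), (66,0,0,2,2,6), (66,0,0,-3,-5,10), (66,0,0,-3,5,10),
  (66,0,0,2,0,10), (66,0,0,-3,3,14), (66,0,0,2,-2,14), (66,0,0,-3,1,18), (66,0,0,2,-4,18),
  (66,0,0,2,6,18), (66,0,0,-3,-1,22), (66,0,0,2,-6,22), (66,0,0,2,4,22), (66,0,0,-3,-3,26),
  (66,0,0,2,2,26), (66,0,0,-3,-5,30), (66,0,0,-3,5,30), (66,0,0,2,0,30), (66,0,0,-3,3,34),
  (66,0,0,2,-2,34), (72,1,1,-1,-3,-24), (72,1,1,4,2,-24), (72,1,1,-1,1,-12), (72,1,1,4,-4,-12),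
  (72,1,1,4,0,0), (72,1,1,-1,-1,12), (72,1,1,4,4,12), (72,1,1,-1,3,24), (72,1,1,4,-2,24),
  (88,0,0,-4,-2,-36), (88,0,0,1,3,-36), (88,0,0,6,-2,-36), (88,0,0,-4,-4,-32), (88,0,0,-4,6,-32),
  (88,0,0,1,1,-32), (88,0,0,6,-4,-32), (88,0,0,6,6,-32), (88,0,0,-4,-6,-28), (88,0,0,-4,4,-28),
  (88,0,0,1,-1,-28), (88,0,0,6,-6,-28), (88,0,0,6,4,-28), (88,0,0,-4,2,-24), (88,0,0,1,-3,-24)]

def items1440_3 : List (Int × Int × Int × Int × Int × Int) := [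
  (88,0,0,6,2,-24), (88,0,0,-4,0,-20), (88,0,0,1,-5,-20), (88,0,0,1,5,-20), (88,0,0,6,0,-20),
  (88,0,0,-4,-2,-16), (88,0,0,1,3,-16), (88,0,0,6,-2,-16), (88,0,0,-4,-4,-12), (88,0,0,-4,6,-12),
  (88,0,0,1,1,-12), (88,0,0,6,-4,-12), (88,0,0,6,6,-12), (88,0,0,-4,-6,-8), (88,0,0,-4,4,-8),
  (88,0,0,1,-1,-8), (88,0,0,6,-6,-8), (88,0,0,6,4,-8), (88,0,0,-4,2,-4), (88,0,0,1,-3,-4),
  (88,0,0,6,2,-4), (88,0,0,-4,0,0), (88,0,0,1,-5,0), (88,0,0,1,5,0), (88,0,0,6,0,0),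
  (88,0,0,-4,-2,4), (88,0,0,1,3,4), (88,0,0,6,-2,4), (88,0,0,-4,-4,8), (88,0,0,-4,6,8),
  (88,0,0,1,1,8), (88,0,0,6,-4,8), (88,0,0,6,6,8), (88,0,0,-4,-6,12), (88,0,0,-4,4,12),
  (88,0,0,1,-1,12), (88,0,0,6,-6,12), (88,0,0,6,4,12), (88,0,0,-4,2,16), (88,0,0,1,-3,16),
  (88,0,0,6,2,16), (88,0,0,-4,0,20), (88,0,0,1,-5,20), (88,0,0,1,5,20), (88,0,0,6,0,20),
  (88,0,0,-4,-2,24), (88,0,0,1,3,24), (88,0,0,6,-2,24), (88,0,0,-4,-4,28), (88,0,0,-4,6,28),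
  (88,0,0,1,1,28), (88,0,0,6,-4,28), (88,0,0,6,6,28), (88,0,0,-4,-6,32), (88,0,0,-4,4,32),
  (88,0,0,1,-1,32), (88,0,0,6,-6,32), (88,0,0,6,4,32), (88,0,0,-4,2,36), (88,0,0,1,-3,36),
  (88,0,0,6,2,36), (90,4,0,0,0,-30), (90,4,0,0,0,30), (99,0,0,-2,-6,-33), (99,0,0,-2,4,-33),
  (99,0,0,3,-1,-33), (99,0,0,-2,-2,-21), (99,0,0,3,3,-21), (99,0,0,-2,2,-9), (99,0,0,3,-3,-9),
  (99,0,0,-2,-4,3), (99,0,0,-2,6,3), (99,0,0,3,1,3), (99,0,0,-2,0,15), (99,0,0,3,-5,15),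
  (99,0,0,3,5,15), (99,0,0,-2,-6,27), (99,0,0,-2,4,27), (99,0,0,3,-1,27), (108,-4,0,-4,-2,-36),
  (108,-4,0,1,3,-36), (108,-4,0,6,-2,-36), (108,-4,0,-4,0,0), (108,-4,0,1,-5,0), (108,-4,0,1,5,0),
  (108,-4,0,6,0,0), (108,-4,0,-4,2,36), (108,-4,0,1,-3,36), (108,-4,0,6,2,36), (110,0,0,0,0,-30),
  (110,0,0,0,0,-10), (110,0,0,0,0,10), (110,0,0,0,0,30), (120,-2,0,0,0,-20), (120,-2,0,0,0,0),
  (120,-2,0,0,0,20), (132,0,0,-6,-2,-36), (132,0,0,-1,3,-36), (132,0,0,4,-2,-36), (132,0,0,-6,-4,-32)]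

def items1440_4 : List (Int × Int × Int × Int × Int × Int) := [
  (132,0,0,-6,6,-32), (132,0,0,-1,1,-32), (132,0,0,4,-4,-32), (132,0,0,4,6,-32), (132,0,0,-6,-6,-28),
  (132,0,0,-6,4,-28), (132,0,0,-1,-1,-28), (132,0,0,4,-6,-28), (132,0,0,4,4,-28), (132,0,0,-6,2,-24),
  (132,0,0,-1,-3,-24), (132,0,0,4,2,-24), (132,0,0,-6,0,-20), (132,0,0,-1,-5,-20), (132,0,0,-1,5,-20),
  (132,0,0,4,0,-20), (132,0,0,-6,-2,-16), (132,0,0,-1,3,-16), (132,0,0,4,-2,-16), (132,0,0,-6,-4,-12),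
  (132,0,0,-6,6,-12), (132,0,0,-1,1,-12), (132,0,0,4,-4,-12), (132,0,0,4,6,-12), (132,0,0,-6,-6,-8),
  (132,0,0,-6,4,-8), (132,0,0,-1,-1,-8), (132,0,0,4,-6,-8), (132,0,0,4,4,-8), (132,0,0,-6,2,-4),
  (132,0,0,-1,-3,-4), (132,0,0,4,2,-4), (132,0,0,-6,0,0), (132,0,0,-1,-5,0), (132,0,0,-1,5,0),
  (132,0,0,4,0,0), (132,0,0,-6,-2,4), (132,0,0,-1,3,4), (132,0,0,4,-2,4), (132,0,0,-6,-4,8),
  (132,0,0,-6,6,8), (132,0,0,-1,1,8), (132,0,0,4,-4,8), (132,0,0,4,6,8), (132,0,0,-6,-6,12),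
  (132,0,0,-6,4,12), (132,0,0,-1,-1,12), (132,0,0,4,-6,12), (132,0,0,4,4,12), (132,0,0,-6,2,16),
  (132,0,0,-1,-3,16), (132,0,0,4,2,16), (132,0,0,-6,0,20), (132,0,0,-1,-5,20), (132,0,0,-1,5,20),
  (132,0,0,4,0,20), (132,0,0,-6,-2,24), (132,0,0,-1,3,24), (132,0,0,4,-2,24), (132,0,0,-6,-4,28),
  (132,0,0,-6,6,28), (132,0,0,-1,1,28), (132,0,0,4,-4,28), (132,0,0,4,6,28), (132,0,0,-6,-6,32),
  (132,0,0,-6,4,32), (132,0,0,-1,-1,32), (132,0,0,4,-6,32), (132,0,0,4,4,32), (132,0,0,-6,2,36),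
  (132,0,0,-1,-3,36), (132,0,0,4,2,36), (144,2,0,-2,2,-24), (144,2,0,3,-3,-24), (144,2,0,-2,0,0),
  (144,2,0,3,-5,0), (144,2,0,3,5,0), (144,2,0,-2,-2,24), (144,2,0,3,3,24), (160,1,1,0,0,0),
  (165,0,0,0,0,-35), (165,0,0,0,0,-15), (165,0,0,0,0,5), (165,0,0,0,0,25), (176,0,0,-3,1,-32),
  (176,0,0,2,-4,-32), (176,0,0,2,6,-32), (176,0,0,-3,-3,-24), (176,0,0,2,2,-24), (176,0,0,-3,3,-16),
  (176,0,0,2,-2,-16), (176,0,0,-3,-1,-8), (176,0,0,2,-6,-8), (176,0,0,2,4,-8), (176,0,0,-3,-5,0),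
  (176,0,0,-3,5,0), (176,0,0,2,0,0), (176,0,0,-3,1,8), (176,0,0,2,-4,8), (176,0,0,2,6,8)]

def items1440_5 : List (Int × Int × Int × Int × Int × Int) := [
  (176,0,0,-3,-3,16), (176,0,0,2,2,16), (176,0,0,-3,3,24), (176,0,0,2,-2,24), (176,0,0,-3,-1,32),
  (176,0,0,2,-6,32), (176,0,0,2,4,32), (180,-3,1,0,0,0), (192,-1,1,4,0,0), (198,0,0,-4,0,-30),
  (198,0,0,1,-5,-30), (198,0,0,1,5,-30), (198,0,0,6,0,-30), (198,0,0,-4,-6,-18), (198,0,0,-4,4,-18),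
  (198,0,0,1,-1,-18), (198,0,0,6,-6,-18), (198,0,0,6,4,-18), (198,0,0,-4,-2,-6), (198,0,0,1,3,-6),
  (198,0,0,6,-2,-6), (198,0,0,-4,2,6), (198,0,0,1,-3,6), (198,0,0,6,2,6), (198,0,0,-4,-4,18),
  (198,0,0,-4,6,18), (198,0,0,1,1,18), (198,0,0,6,-4,18), (198,0,0,6,6,18), (198,0,0,-4,0,30),
  (198,0,0,1,-5,30), (198,0,0,1,5,30), (198,0,0,6,0,30), (216,3,1,2,0,0), (220,0,0,0,0,-20),
  (220,0,0,0,0,0), (220,0,0,0,0,20), (240,-4,0,0,0,0), (264,0,0,-2,-2,-36), (264,0,0,3,3,-36),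
  (264,0,0,-2,-4,-32), (264,0,0,-2,6,-32), (264,0,0,3,1,-32), (264,0,0,-2,-6,-28), (264,0,0,-2,4,-28),
  (264,0,0,3,-1,-28), (264,0,0,-2,2,-24), (264,0,0,3,-3,-24), (264,0,0,-2,0,-20), (264,0,0,3,-5,-20),
  (264,0,0,3,5,-20), (264,0,0,-2,-2,-16), (264,0,0,3,3,-16), (264,0,0,-2,-4,-12), (264,0,0,-2,6,-12),
  (264,0,0,3,1,-12), (264,0,0,-2,-6,-8), (264,0,0,-2,4,-8), (264,0,0,3,-1,-8), (264,0,0,-2,2,-4),
  (264,0,0,3,-3,-4), (264,0,0,-2,0,0), (264,0,0,3,-5,0), (264,0,0,3,5,0), (264,0,0,-2,-2,4),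
  (264,0,0,3,3,4), (264,0,0,-2,-4,8), (264,0,0,-2,6,8), (264,0,0,3,1,8), (264,0,0,-2,-6,12),
  (264,0,0,-2,4,12), (264,0,0,3,-1,12), (264,0,0,-2,2,16), (264,0,0,3,-3,16), (264,0,0,-2,0,20),
  (264,0,0,3,-5,20), (264,0,0,3,5,20), (264,0,0,-2,-2,24), (264,0,0,3,3,24), (264,0,0,-2,-4,28),
  (264,0,0,-2,6,28), (264,0,0,3,1,28), (264,0,0,-2,-6,32), (264,0,0,-2,4,32), (264,0,0,3,-1,32),
  (264,0,0,-2,2,36), (264,0,0,3,-3,36), (288,4,0,-4,0,0), (288,4,0,6,0,0), (297,0,0,-6,-4,-27),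
  (297,0,0,-6,6,-27), (297,0,0,-1,1,-27), (297,0,0,4,-4,-27), (297,0,0,4,6,-27), (297,0,0,-6,-2,9),
  (297,0,0,-1,3,9), (297,0,0,4,-2,9)]

/-- Possible rows. -/
def items1440 : List It := ofRows (items1440_0 ++ items1440_1 ++ items1440_2 ++ items1440_3 ++ items1440_4 ++ items1440_5)

def proj1440_0 : List (Int × Int × Int × Int × Int × Int) := [
  (288,4,0,0,0,0), (240,-4,0,0,0,0), (216,3,1,0,0,0), (192,-1,1,0,0,0), (180,-3,1,0,0,0),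
  (160,1,1,0,0,0), (144,2,0,0,0,24), (144,2,0,0,0,0), (144,2,0,0,0,-24), (120,-2,0,0,0,20),
  (120,-2,0,0,0,0), (120,-2,0,0,0,-20), (108,-4,0,0,0,36), (108,-4,0,0,0,0), (108,-4,0,0,0,-36),
  (90,4,0,0,0,30), (90,4,0,0,0,-30), (72,1,1,0,0,24), (72,1,1,0,0,12), (72,1,1,0,0,0),
  (72,1,1,0,0,-12), (72,1,1,0,0,-24), (60,-1,1,0,0,20), (60,-1,1,0,0,0), (60,-1,1,0,0,-20),
  (54,-2,0,0,0,18), (54,-2,0,0,0,-18), (48,-3,1,0,0,24), (48,-3,1,0,0,16), (48,-3,1,0,0,8),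
  (48,-3,1,0,0,0), (48,-3,1,0,0,-8), (48,-3,1,0,0,-16), (48,-3,1,0,0,-24), (45,2,0,0,0,-15),
  (40,3,1,0,0,20), (40,3,1,0,0,0), (40,3,1,0,0,-20), (32,-2,0,0,0,16), (32,-2,0,0,0,0),
  (32,-2,0,0,0,-16), (27,-1,1,0,0,-9), (24,4,0,0,0,20), (24,4,0,0,0,16), (24,4,0,0,0,12),
  (24,4,0,0,0,8), (24,4,0,0,0,4), (24,4,0,0,0,0), (24,4,0,0,0,-4), (24,4,0,0,0,-8),
  (24,4,0,0,0,-12), (24,4,0,0,0,-16), (24,4,0,0,0,-20), (20,-4,0,0,0,0), (18,3,1,0,0,6),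
  (18,3,1,0,0,-6), (16,-1,1,0,0,8), (16,-1,1,0,0,0), (16,-1,1,0,0,-8), (15,-3,1,0,0,-5),
  (12,2,0,0,0,8), (12,2,0,0,0,4), (12,2,0,0,0,0), (12,2,0,0,0,-4), (12,2,0,0,0,-8),
  (6,1,1,0,0,2), (6,1,1,0,0,-2)]

/-- First stage rows. -/
def proj1440 : List It := ofRows (proj1440_0)

def sol1440a_0 : List (Int × Int × Int × Int × Int × Int) := [
  (144,2,0,0,0,24), (54,-2,0,0,0,18), (45,2,0,0,0,-15), (16,-1,1,0,0,-8), (120,-2,0,0,0,0)]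

/-- A solution of the first stage. -/
def sol1440a : List It := ofRows (sol1440a_0)

def sol1440b_0 : List (Int × Int × Int × Int × Int × Int) := [
  (32,-2,0,0,0,-16), (45,2,0,0,0,-15), (12,2,0,0,0,-4), (6,1,1,0,0,2), (32,-2,0,0,0,0)]

/-- A solution of the first stage. -/
def sol1440b : List It := ofRows (sol1440b_0)

def tree1440_0 : Engine.Tree := .B 3 (.C [0,10000000,0,116279,-4,0,0])
 (.B 5 (.B 2 (.C [0,1000,0,36,0,0,0])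
 (.B 7 (.C [-909091,10000000,12626,625000,-7,0,0])
 (.C [-138240,31680,1920,-31680,1,0,0])))
 (.B 12 (.L)
 (.B 7 (.B 2 (.C [-45454545,1000000000,631313,31250000,-329,0,0])
 (.B 5 (.B 7 (.B 3 (.L)
 (.C [-136363636,1000000000,1893939,31250000,986,0,0]))
 (.C [-138240,31680,1920,-31680,1,0,0]))
 (.C [-138240,31680,1920,31680,1,0,0])))
 (.B 10 (.B 3 (.C [-138240,95040,1920,95040,-1,0,0])
 (.B 6 (.B 9 (.B 3 (.L)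
 (.C [-204545455,1000000000,2840909,62500000,986,0,0]))
 (.C [-872727,10000000,12121,-200000,6,0,0]))
 (.C [-53215077605,1000000000000,739098300,12195121951,384947,0,0])))
 (.C [-103680,79200,1440,79200,-1,0,0])))))

def tree1440_1 : Engine.Tree := .B 2 (.C [0,10000000,0,-111111,-4,0,0])
 (.B 3 (.B 2 (.C [0,1000,0,36,0,0,0])
 (.B 7 (.C [-909091,10000000,12626,625000,-7,0,0])
 (.C [-138240,31680,1920,-31680,1,0,0])))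
 (.B 6 (.B 2 (.C [-138240,95040,1920,95040,-1,0,0])
 (.B 9 (.B 3 (.C [-909091,10000000,12626,-625000,-7,0,0])
 (.C [-138240,31680,1920,31680,1,0,0]))
 (.C [-138240,31680,1920,-31680,1,0,0])))
 (.B 8 (.B 3 (.B 3 (.B 3 (.L)
 (.C [-136363636,1000000000,1893939,31250000,986,0,0]))
 (.C [-1510490,10000000,20979,500000,6,0,0]))
 (.B 10 (.B 5 (.C [-909091,10000000,12626,-625000,-7,0,0])
 (.C [-872727,10000000,12121,200000,6,0,0]))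
 (.C [-53215077605,1000000000000,739098300,-12195121951,384947,0,0])))
 (.B 9 (.C [-196560,10000000,2730,-135135,-1,0,-13104])
 (.C [-6198347107,1000000000000,-103305785,-12500000000,-358701,0,0])))))

def tree1440_2 : Engine.Tree := .B 9 (.B 8 (.C [-7575758,10000000,-42929,-875000,17,0,0])
 (.B 3 (.C [-11363636364,1000000000000,-189393939,-33333333333,-986427,0,0])
 (.B 11 (.B 3 (.C [-258264,10000000,-4304,454545,-10,0,0])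
 (.B 6 (.C [-604800,102960,-10080,-102960,1,0,0])
 (.B 9 (.B 4 (.L)
 (.C [-172800,316800,-2880,316800,-7,0,0]))
 (.C [-63354,1,-1,0,1,0,0]))))
 (.B 10 (.C [-10000000,1147132,-157107,-873649,29,0,0])
 (.B 12 (.B 3 (.C [-208,1000,-3,42,0,0,0])
 (.B 5 (.C [-3110400,411840,-51840,-411840,7,0,0])
 (.C [-115200,1920,-1920,31680,1,0,0])))
 (.C [-172800,0,-2880,316800,-7,0,0]))))))
 (.B 4 (.B 6 (.B 3 (.C [-196,1000,-3,45,0,0,0])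
 (.C [-57600,42240,-960,-42240,-1,0,0]))
 (.C [-172800,316800,-2880,316800,-7,0,0]))
 (.B 11 (.B 11 (.B 3 (.C [-208,1000,-3,38,0,0,0])
 (.B 6 (.C [-3110400,411840,-51840,-411840,7,0,0])
 (.C [-126714,1,-1,31680,1,0,0])))
 (.B 10 (.C [-253434,1,-1,0,1,0,0])
 (.B 12 (.C [-230400,3840,-3840,0,1,0,0])
 (.C [-115200,0,-1920,95040,-1,0,0]))))
 (.C [-172800,-10137600,-2880,316800,-7,0,0])))

def tree1440_3 : Engine.Tree := .B 4 (.B 3 (.C [-71280,0,990,-990,1,0,0])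
 (.B 8 (.C [-6691680,1172160,38160,-1172160,7,0,0])
 (.B 7 (.C [-6691680,1172160,38160,1172160,7,0,0])
 (.B 3 (.C [-441919,10000000,-7365,-555556,-10,0,0])
 (.B 4 (.C [-37879,10000000,-631,333333,-10,0,0])
 (.B 8 (.C [-9982080,1647360,-152640,-1647360,17,0,0])
 (.B 6 (.C [-12746880,1647360,-198720,1647360,29,0,0])
 (.B 7 (.C [0,10000000,0,-333333,-11,0,0])
 (.B 5 (.C [0,-760336,0,1,-1,0,0])
 (.B 8 (.B 7 (.C [0,1,0,1,-1,0,0])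
 (.B 3 (.C [-131119,10000000,-2185,-384615,-10,0,0])
 (.B 5 (.B 5 (.L)
 (.C [0,1000,0,-125,0,0,0]))
 (.C [0,1000,0,-100,0,0,0]))))
 (.C [0,-253440,0,31680,-1,0,0])))))))))))
 (tree1440_2)

def tree1440_4 : Engine.Tree := .B 8 (.B 7 (.C [-6133248,101376,-101376,101376,25,0,0])
 (.B 5 (.C [-37879,10000000,-631,333333,-10,0,0])
 (.B 8 (.C [-253434,1,-1,0,1,0,0])
 (.B 7 (.B 8 (.C [-690,1000,-3,-62,0,0,0])
 (.B 11 (.B 1 (.L)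
 (.C [-56,1000,-3,0,0,0,0]))
 (.C [0,-1000000000000,0,8333333333,-1490600,0,0])))
 (.B 10 (.B 9 (.C [-3110400,411840,-51840,411840,7,0,0])
 (.C [-115200,1920,-1920,-31680,1,0,0]))
 (.C [-172800,0,-2880,-316800,-7,0,0]))))))
 (.B 8 (.C [-864000,0,-14400,-126720,1,0,0])
 (.B 4 (.C [-864000,126720,-14400,-126720,1,0,0])
 (.B 5 (.B 3 (.B 5 (.C [-196,1000,-3,-38,0,0,0])
 (.C [-37878788,1000000000,-631313,31250000,-329,0,0]))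
 (.C [-57600,42240,-960,-42240,-1,0,0]))
 (.B 7 (.B 5 (.B 9 (.C [-2083333,10000000,-34722,-625000,-1,0,0])
 (.C [-633600,0,-10560,10560,-1,0,0]))
 (.B 5 (.C [-253434,1,-1,0,1,0,0])
 (.B 8 (.C [-230400,3840,-3840,0,1,0,0])
 (.C [-115200,0,-1920,-95040,-1,0,0]))))
 (.C [-57600,-1351680,-960,-42240,-1,0,0])))))

def tree1440_5 : Engine.Tree := .B 4 (.C [-683171016,1000000000,2748178,-46980760,1153,-10021,0])
 (.B 9 (.C [-10000000,-2313352,69729,-1075298,18,0,-71318])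
 (.B 2 (.C [-1000,297,5,101,0,0,0])
 (.B 3 (.B 2 (.C [-248,1000,2,100,0,0,0])
 (.B 3 (.C [-18090,100000,251,1289,0,0,0])
 (.C [-64800,37620,900,-37620,-1,0,0])))
 (.B 10 (.C [-253450,1,1,-1,1,0,0])
 (.B 6 (.C [-1000,-255,7,121,0,0,0])
 (.B 7 (.C [-10000000,-5270862,78971,1337579,16,0,0])
 (.B 6 (.C [-11197440,-27371520,155520,3009600,-7,0,0])
 (.B 4 (.C [-138240,95040,1920,95040,-1,0,0])
 (.B 6 (.C [-135338345865,1000000000000,1879699248,0,489505,0,0])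
 (.B 8 (.C [-276480,3840,3840,0,1,0,0])
 (.B 6 (.C [-276480,3840,3840,0,1,0,0])
 (.B 11 (.C [0,0,0,10000000,-316,0,0])
 (.C [-409090909,-1000000000,5681818,-93750000,2959,0,0])))))))))))))

def tree1440_6 : Engine.Tree := .B 4 (.B 6 (.B 3 (.B 5 (.L)
 (.C [-45454545,1000000000,631313,31250000,-329,0,0]))
 (.B 6 (.C [-1244160,221760,17280,-221760,1,0,0])
 (.C [-872727,10000000,12121,200000,6,0,0])))
 (.C [-25920,43560,360,43560,-1,0,0]))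
 (.B 11 (.B 8 (.C [-103685760,16600320,596160,16600320,133,0,0])
 (.B 15 (.B 19 (.C [-4780800,1267200,25920,1267200,23,0,0])
 (.B 5 (.C [-1451520,269280,20160,269280,1,0,0])
 (.C [-10000000,0,62500,-2750000,65,0,0])))
 (.C [-1000000000,0,6250000,240625000,7595,0,0])))
 (.B 11 (.B 6 (.C [-25920,43560,360,43560,-1,0,0])
 (.C [-138240,31680,1920,31680,1,0,0]))
 (.B 13 (.B 6 (.B 7 (.B 2 (.L)
 (.B 3 (.L)
 (.C [0,10000000,0,-312500,-10,0,0])))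
 (.C [0,1000000000000,0,27777777778,-438412,0,0]))
 (.C [-138240,31680,1920,31680,1,0,0]))
 (.C [-25600,0,160,44000,-1,0,0]))))

def tree1440_7 : Engine.Tree := .B 4 (.B 3 (.B 2 (.B 2 (.L)
 (.B 8 (.L)
 (.C [-138240,31680,1920,-31680,1,0,0])))
 (.C [-1451520,269280,20160,-269280,1,0,0]))
 (.C [0,10000000,0,-151515,-5,0,0]))
 (.B 8 (.B 7 (.C [-11053440,13812480,25920,1267200,23,0,0])
 (.B 13 (.B 5 (.B 8 (.L)
 (.C [-138240,31680,1920,-31680,1,0,0]))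
 (.C [-6691680,1172160,38160,-1172160,7,0,0]))
 (.C [-1000000000,0,6250000,240625000,7595,0,0])))
 (.B 7 (.B 7 (.C [0,-760336,0,1,-1,0,0])
 (.B 9 (.B 3 (.C [0,1,0,-1,-1,0,0])
 (.B 6 (.C [-40909090909,1000000000000,568181818,50000000000,-986427,0,0])
 (.B 3 (.C [0,1000000000,0,-125000000,-3946,0,0])
 (.C [0,1000,0,125,0,0,0]))))
 (.C [0,-304128,0,-28512,-1,0,0])))
 (.C [-138240,-1943040,1920,-95040,-1,0,0])))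

def tree1440_8 : Engine.Tree := .B 8 (.B 9 (.B 4 (.B 3 (.L)
 (.B 6 (.L)
 (.C [-2708333,10000000,34722,0,39,0,0])))
 (.C [-5596416,-2078208,41472,1020096,5,0,0]))
 (.B 20 (.B 11 (.C [-91451,100000,259,-1142,0,0,0])
 (.B 4 (.C [-1244160,221760,17280,-221760,1,0,0])
 (.B 13 (.C [-20339,100000,282,-494,0,0,0])
 (.B 10 (.C [-253446,1,1,0,1,0,0])
 (.B 12 (.C [-253461,10,10,443498,-10,0,0])
 (.C [-10000000,0,62500,2750000,65,0,0]))))))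
 (.B 6 (.B 6 (.B 6 (.L)
 (.C [-69120,960,960,0,1,0,0]))
 (.C [-63368,1,1,1,1,0,0]))
 (.C [-1000000000,0,6250000,-240625000,7595,0,0]))))
 (.B 11 (.B 6 (.B 2 (.B 2 (.L)
 (.C [-1451520,269280,20160,-269280,1,0,0]))
 (.C [-1451520,269280,20160,-269280,1,0,0]))
 (.C [-5886000,712800,34560,-712800,-1,0,0]))
 (tree1440_7))

def tree1440_9 : Engine.Tree := .B 4 (.B 6 (.C [-110192837,1000000000,-1836547,0,478,0,0])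
 (.B 6 (.B 4 (.C [-7603320,33,-126722,33,33,0,0])
 (.C [0,1,0,31680,-1,0,0]))
 (.B 9 (.C [-172800,316800,-2880,316800,-7,0,0])
 (.B 3 (.C [-172800,316800,-2880,316800,-7,0,0])
 (.B 5 (.B 5 (.B 2 (.L)
 (.B 2 (.L)
 (.C [0,1000000000,0,-125000000,-3946,0,0])))
 (.C [0,1000,0,28,0,0,0]))
 (.C [0,1000,0,28,0,0,0]))))))
 (.B 11 (.C [-1000000000,890173410,-2890173,0,4014,0,0])
 (.B 11 (.B 3 (.C [-31620553,1000000000,439174,21739130,-229,0,0])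
 (.B 5 (.B 9 (.C [-25920,43560,360,43560,-1,0,0])
 (.B 5 (.B 2 (.L)
 (.C [-259200,87120,3600,-87120,1,0,0]))
 (.C [-63366,1,1,0,1,0,0])))
 (.C [-138240,31680,1920,31680,1,0,0])))
 (.B 13 (.B 3 (.C [-115200,95040,-1920,95040,-1,0,0])
 (.B 5 (.B 9 (.C [-25920,43560,360,43560,-1,0,0])
 (.B 5 (.B 2 (.L)
 (.C [-259200,87120,3600,-87120,1,0,0]))
 (.C [-63366,1,1,0,1,0,0])))
 (.C [-138240,31680,1920,31680,1,0,0])))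
 (.C [-100000,0,625,72188,-1,0,0]))))

def tree1440_10 : Engine.Tree := .B 9 (.B 6 (.B 4 (.C [-604800,102960,-10080,102960,1,0,0])
 (.B 7 (.B 7 (.L)
 (.C [-138240,31680,1920,31680,1,0,0]))
 (.C [-138240,31680,1920,31680,1,0,0])))
 (.B 4 (.B 4 (.B 2 (.L)
 (.B 5 (.L)
 (.C [-115200,31680,-1920,31680,1,0,0])))
 (.B 7 (.C [-1244160,221760,17280,-221760,1,0,0])
 (.B 10 (.B 10 (.L)
 (.C [-63368,1,1,-1,1,0,0]))
 (.C [-63368,1,1,-1,1,0,0]))))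
 (.B 16 (.B 20 (.B 9 (.L)
 (.C [-5000000,10000000,0,-555556,13,0,0]))
 (.C [-681818181818,1000000000000,1136363636,-2083333333,2696233,0,0]))
 (.C [-1000000000,0,6250000,240625000,7595,0,0]))))
 (tree1440_9)

def tree1440_11 : Engine.Tree := .B 7 (.B 7 (.C [0,-760336,0,1,-1,0,0])
 (.B 9 (.B 3 (.C [0,1,0,-1,-1,0,0])
 (.B 6 (.C [0,1,0,1,-1,0,0])
 (.C [-909091,10000000,12626,0,13,0,0])))
 (.B 5 (.C [0,1,0,1,-1,0,0])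
 (.C [-276480,0,-1440,-491040,-11,0,0]))))
 (.B 9 (.B 7 (.B 7 (.C [0,1,0,1,-1,0,0])
 (.B 3 (.C [-309917,10000000,4304,-454545,-10,0,0])
 (.C [-991736,10000000,13774,0,14,0,0])))
 (.C [-139577594123,1000000000000,1938577696,-45454545455,584549,0,0]))
 (.B 5 (.B 7 (.C [0,10000000,0,312500,-10,0,0])
 (.B 3 (.C [-37879,10000000,-631,-333333,-10,0,0])
 (.B 5 (.B 5 (.B 3 (.L)
 (.C [0,1000,0,125,0,0,0]))
 (.C [0,1000,0,-125,0,0,0]))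
 (.C [0,1000,0,-71,0,0,0]))))
 (.C [-100000,0,625,-72187,-1,0,0])))

def tree1440_12 : Engine.Tree := .B 7 (.C [-115200,95040,-1920,-95040,-1,0,0])
 (.B 7 (.B 3 (.B 6 (.L)
 (.C [0,10000000,0,-625000,-10,0,0]))
 (.C [-115200,31680,-1920,31680,1,0,0]))
 (.B 8 (.B 7 (.B 6 (.L)
 (.C [0,10000000,0,-625000,-10,0,0]))
 (.C [-115200,31680,-1920,-31680,1,0,0]))
 (.B 12 (.C [-96970,0,-505,100000,-2,0,0])
 (.B 8 (.C [0,0,0,-1,-1,0,0])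
 (.B 10 (.B 8 (.C [-50000,100000,0,-25000,-1,0,0])
 (.B 10 (.B 0 (.L)
 (.B 0 (.L)
 (.B 0 (.L)
 (.C [94,1000,-16,125,0,0,0]))))
 (.C [0,0,0,1000,0,0,0])))
 (.C [0,-253440,0,-31680,1,0,0]))))))

def tree1440_13 : Engine.Tree := .B 26 (.B 7 (.L)
 (.B 13 (.C [0,10000000,0,-312500,-10,0,0])
 (.B 6 (.L)
 (.B 15 (.C [-37879,10000000,-631,333333,-10,0,0])
 (.B 10 (.L)
 (.B 9 (.L)
 (.B 10 (.B 3 (.B 5 (.C [0,1000000000,0,125000000,-3946,0,0])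
 (.C [0,1000,0,-125,0,0,0]))
 (.C [0,1000,0,125,0,0,0]))
 (.C [-28800,15840,-480,15840,1,0,0]))))))))
 (.B 11 (.L)
 (.B 26 (.B 11 (.L)
 (.B 17 (.C [0,10000000,0,-312500,-10,0,0])
 (.B 11 (.L)
 (.B 15 (.B 6 (.B 6 (.C [0,1,0,1,-1,0,0])
 (.C [0,1000,0,-62,0,0,0]))
 (.C [0,1000,0,-62,0,0,0]))
 (.C [-25252525,1000000000,-420875,-20833333,438,0,0])))))
 (.C [-237600,475200,0,-601920,-23,0,0])))

def tree1440_14 : Engine.Tree := .B 18 (.B 10 (.B 2 (.C [-288600,10000000,-4810,238095,-3,0,0])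
 (.B 4 (.B 8 (.C [-25920,43560,360,43560,-1,0,0])
 (.C [-138240,31680,1920,-31680,1,0,0]))
 (.C [-727273,10000000,10101,166667,5,0,0])))
 (.B 12 (.B 2 (.C [-115200,95040,-1920,95040,-1,0,0])
 (.B 4 (.B 8 (.C [-25920,43560,360,43560,-1,0,0])
 (.C [-138240,31680,1920,-31680,1,0,0]))
 (.C [-138240,31680,1920,31680,1,0,0])))
 (.B 12 (.C [-276480,0,-1440,491040,-11,0,0])
 (.C [-10000000,0,-52083,3093750,65,0,0]))))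
 (.B 12 (.L)
 (.B 15 (.C [0,-760336,0,1,-1,0,0])
 (.B 10 (.C [0,1,0,1,-1,0,0])
 (.B 26 (.C [-68510,100000,-96,1282,0,0,0])
 (.B 25 (.C [-747,1000,-1,16,0,0,0])
 (.B 16 (.C [-9469697,1000000000,-157828,-15625000,-329,0,0])
 (.B 16 (.C [-730,1000,-1,-15,0,0,0])
 (tree1440_13))))))))

def tree1440_15 : Engine.Tree := .B 9 (.B 6 (.B 2 (.C [-604800,102960,-10080,102960,1,0,0])
 (.B 5 (.B 2 (.C [-253438,1,-1,1,1,0,0])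
 (.C [-172800,316800,-2880,-316800,-7,0,0]))
 (.B 8 (.C [-172800,63360,-2880,63360,1,0,0])
 (.C [-63354,1,-1,0,1,0,0]))))
 (.C [-57600,42240,-960,-42240,-1,0,0]))
 (.B 21 (.B 10 (.C [-1000000000,421917808,-4109589,-35159817,3488,0,0])
 (.B 8 (.C [-1000000000,890173410,-2890173,0,4014,0,0])
 (.B 7 (.B 7 (.C [-86400,-1900800,-1440,79200,-1,0,0])
 (.B 5 (.C [0,10000000,0,500000,-16,0,0])
 (tree1440_12)))
 (.B 9 (.B 7 (.B 7 (.C [0,10000000,0,625000,-20,0,0])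
 (.C [-1283422,10000000,17825,-294118,9,0,0]))
 (.C [-138240,31680,1920,-31680,1,0,0]))
 (.B 5 (.B 7 (.C [0,10000000,0,312500,-10,0,0])
 (.C [-113636364,1000000000,-1893939,-31250000,986,0,0]))
 (.C [-1000000000000,0,-5208333333,-773437500000,-8138021,0,0]))))))
 (.B 16 (.L)
 (tree1440_14)))

def tree1440_16 : Engine.Tree := .B 7 (.B 5 (tree1440_5)
 (.B 10 (.B 11 (.B 10 (.C [-939560439560,1000000000000,2747252747,-55555555556,563672,0,0])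
 (.B 5 (.C [-909091,10000000,12626,625000,-7,0,0])
 (.C [-5596416,-2078208,41472,1020096,5,0,0])))
 (.B 22 (.B 10 (.C [-872,1000,2,-8,0,0,0])
 (.B 12 (.C [-91451,100000,259,-1142,0,0,0])
 (.B 5 (.B 2 (.L)
 (.B 2 (.L)
 (.C [-909091,10000000,12626,-625000,-7,0,0])))
 (.C [-11197440,-27371520,155520,3009600,-7,0,0]))))
 (.B 7 (.C [-1244160,221760,17280,221760,1,0,0])
 (.C [-1000000000,0,6250000,-240625000,7595,0,0]))))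
 (.B 3 (.C [-1451520,-6842880,20160,269280,1,0,0])
 (tree1440_6))))
 (.B 8 (.B 4 (.C [-1296000,-3231360,18000,-150480,-1,0,0])
 (.B 9 (.C [-1296000,-3231360,18000,-150480,-1,0,0])
 (tree1440_8)))
 (.B 13 (tree1440_10)
 (.B 13 (.B 8 (.B 6 (.C [-345600,31680,-5760,-31680,1,0,0])
 (.C [-864000,1267200,1440,-79200,1,0,0]))
 (.B 11 (.C [-1000000000,421917808,-4109589,-35159817,3488,0,0])
 (.B 4 (.B 3 (.C [-110192837,1000000000,-1836547,0,478,0,0])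
 (.C [0,31680,0,-31680,-1,0,0]))
 (.B 8 (.C [-1000000000,890173410,-2890173,0,4014,0,0])
 (tree1440_11)))))
 (.B 19 (.L)
 (.B 24 (.C [-669978258,1000000000,-885303,-12195122,-153,0,0])
 (tree1440_15))))))

def tree1440_17 : Engine.Tree := .B 6 (.B 2 (.C [-960,0,-16,-16,-16,0,-95031])
 (.B 5 (.C [-10560000,0,-59840,-3736480,3,0,-299200])
 (.B 3 (.B 2 (.C [-71280,0,990,990,1,0,0])
 (.B 8 (.C [-6691680,1172160,38160,-1172160,7,0,0])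
 (.B 7 (.C [-578880,696960,1440,79200,1,0,0])
 (.B 3 (.C [0,10000000,0,-294118,-10,0,0])
 (.B 4 (.C [0,1,0,1,-1,0,0])
 (.B 6 (.C [-398880,538560,-2160,39600,1,0,0])
 (.B 5 (.C [0,-760336,0,1,-1,0,0])
 (.B 8 (.B 4 (.C [-172800,316800,-2880,-316800,-7,0,0])
 (.B 7 (.C [-172800,63360,-2880,63360,1,0,0])
 (.B 6 (.C [-59400,990,-990,990,1,0,0])
 (.C [0,1,0,-31680,1,0,0]))))
 (.C [-172800,0,-2880,-316800,-7,0,0])))))))))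
 (tree1440_4))))
 (.B 11 (.C [-67543,100000,-91,-820,0,0,0])
 (tree1440_16))

def tree1440_18 : Engine.Tree := .B 23 (.L)
 (.B 14 (.C [-677856042263,1000000000000,-926333553,8474576271,-250521,0,0])
 (.B 17 (.B 2 (.B 5 (.B 5 (.C [0,1000000000,0,125000000,-3946,0,0])
 (.C [0,1000,0,-125,0,0,0]))
 (.C [0,1000,0,-100,0,0,0]))
 (tree1440_0))
 (.B 18 (.B 4 (.B 3 (.B 5 (.C [0,1000000000,0,125000000,-3946,0,0])
 (.C [0,1000,0,-125,0,0,0]))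
 (.C [0,1000,0,125,0,0,0]))
 (tree1440_1))
 (.B 8 (.B 2 (.C [-960,0,-16,0,-16,0,-95029])
 (.B 3 (.C [-960,0,-16,16,-16,0,-95031])
 (.B 3 (.C [-2488320,0,2880,744480,1,0,-47520])
 (tree1440_3))))
 (.B 27 (.L)
 (tree1440_17))))))

/-- A certificate. -/
def tree1440 : Engine.Tree := .B 14 (.C [-872,1000,2,-7,0,0,0])
 (.B 12 (.C [-872,1000,2,7,0,0,0])
 (.B 19 (.C [0,8,0,8,-8,0,-47521])
 (.B 15 (.C [0,8,0,-8,-8,0,-47521])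
 (.B 29 (.L)
 (tree1440_18)))))

theorem gen1440_eq : gen 1440 = items1440 := by decide +kernel

theorem items1440_proj : items1440.all (fun e => decide (e.u = 0) || proj1440.contains e.proj) = true := by
  decide +kernel

theorem proj1440_ok : proj1440.all (fun a => (It.vec1 a).length == 7 &&
    Engine.nonneg [true, true, false, false, false, true, true] (It.vec1 a)) = true := by decide +kernel

theorem check1440 : Engine.check [true, true, false, false, false, true, true]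
    [false, false, false, false, false, true, true] It.vec1 (fun L => L.isPerm sol1440a || L.isPerm sol1440b) tree1440 proj1440
    [18, 1, -2, -2, -190080, 95039, 1439] [] = true := by decide +kernel

def rest1440a_0 : List (Int × Int × Int × Int × Int × Int) := [
  (11,0,0,2,2,-9), (11,0,0,2,0,-5), (11,0,0,2,-2,-1), (11,0,0,2,-4,3), (11,0,0,2,6,3),
  (11,0,0,2,-6,7), (11,0,0,2,4,7), (16,-1,1,2,4,-8), (22,0,0,-1,-1,-18), (22,0,0,4,-6,-18),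
  (22,0,0,4,4,-18), (22,0,0,-1,-3,-14), (22,0,0,4,2,-14), (22,0,0,-1,-5,-10), (22,0,0,-1,5,-10),
  (22,0,0,4,0,-10), (22,0,0,-1,3,-6), (22,0,0,4,-2,-6), (22,0,0,-1,1,-2), (22,0,0,4,-4,-2),
  (22,0,0,4,6,-2), (22,0,0,-1,-1,2), (22,0,0,4,-6,2), (22,0,0,4,4,2), (22,0,0,-1,-3,6),
  (22,0,0,4,2,6), (22,0,0,-1,-5,10), (22,0,0,-1,5,10), (22,0,0,4,0,10), (22,0,0,-1,3,14),
  (22,0,0,4,-2,14), (22,0,0,-1,1,18), (22,0,0,4,-4,18), (22,0,0,4,6,18), (33,0,0,1,3,-31),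
  (33,0,0,6,-2,-31), (33,0,0,-4,6,-27), (33,0,0,1,1,-27), (33,0,0,6,-4,-27), (33,0,0,6,6,-27),
  (33,0,0,-4,4,-23), (33,0,0,1,-1,-23), (33,0,0,6,-6,-23), (33,0,0,6,4,-23), (33,0,0,-4,2,-19),
  (33,0,0,1,-3,-19), (33,0,0,6,2,-19), (33,0,0,-4,0,-15), (33,0,0,1,-5,-15), (33,0,0,1,5,-15),
  (33,0,0,6,0,-15), (33,0,0,-4,-2,-11), (33,0,0,1,3,-11), (33,0,0,6,-2,-11), (33,0,0,-4,-4,-7),
  (33,0,0,-4,6,-7), (33,0,0,1,1,-7), (33,0,0,6,-4,-7), (33,0,0,6,6,-7), (33,0,0,-4,-6,-3),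
  (33,0,0,-4,4,-3), (33,0,0,1,-1,-3), (33,0,0,6,-6,-3), (33,0,0,6,4,-3), (33,0,0,-4,2,1),
  (33,0,0,1,-3,1), (33,0,0,6,2,1), (33,0,0,-4,0,5), (33,0,0,1,-5,5), (33,0,0,1,5,5),
  (33,0,0,6,0,5), (33,0,0,-4,-2,9), (33,0,0,1,3,9), (33,0,0,6,-2,9), (33,0,0,-4,-4,13),
  (33,0,0,-4,6,13), (33,0,0,1,1,13), (33,0,0,6,-4,13), (33,0,0,6,6,13), (33,0,0,-4,-6,17),
  (33,0,0,-4,4,17), (33,0,0,1,-1,17), (33,0,0,6,-6,17), (33,0,0,6,4,17), (33,0,0,-4,2,21),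
  (33,0,0,1,-3,21), (33,0,0,6,2,21), (33,0,0,-4,0,25), (33,0,0,1,-5,25), (33,0,0,1,5,25),
  (33,0,0,6,0,25), (33,0,0,-4,-2,29), (33,0,0,1,3,29), (33,0,0,6,-2,29), (44,0,0,-2,-2,-36),
  (44,0,0,3,3,-36), (44,0,0,-2,-4,-32), (44,0,0,-2,6,-32), (44,0,0,3,1,-32), (44,0,0,-2,-6,-28)]

def rest1440a_1 : List (Int × Int × Int × Int × Int × Int) := [
  (44,0,0,-2,4,-28), (44,0,0,3,-1,-28), (44,0,0,-2,2,-24), (44,0,0,3,-3,-24), (44,0,0,-2,0,-20),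
  (44,0,0,3,-5,-20), (44,0,0,3,5,-20), (44,0,0,-2,-2,-16), (44,0,0,3,3,-16), (44,0,0,-2,-4,-12),
  (44,0,0,-2,6,-12), (44,0,0,3,1,-12), (44,0,0,-2,-6,-8), (44,0,0,-2,4,-8), (44,0,0,3,-1,-8),
  (44,0,0,-2,2,-4), (44,0,0,3,-3,-4), (44,0,0,-2,0,0), (44,0,0,3,-5,0), (44,0,0,3,5,0),
  (44,0,0,-2,-2,4), (44,0,0,3,3,4), (44,0,0,-2,-4,8), (44,0,0,-2,6,8), (44,0,0,3,1,8),
  (44,0,0,-2,-6,12), (44,0,0,-2,4,12), (44,0,0,3,-1,12), (44,0,0,-2,2,16), (44,0,0,3,-3,16),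
  (44,0,0,-2,0,20), (44,0,0,3,-5,20), (44,0,0,3,5,20), (44,0,0,-2,-2,24), (44,0,0,3,3,24),
  (44,0,0,-2,-4,28), (44,0,0,-2,6,28), (44,0,0,3,1,28), (44,0,0,-2,-6,32), (44,0,0,-2,4,32),
  (44,0,0,3,-1,32), (44,0,0,-2,2,36), (44,0,0,3,-3,36), (45,2,0,0,0,-15), (54,-2,0,-2,-4,18),
  (54,-2,0,-2,6,18), (54,-2,0,3,1,18), (55,0,0,0,0,-25), (55,0,0,0,0,-5), (55,0,0,0,0,15),
  (55,0,0,0,0,35), (66,0,0,-3,-3,-34), (66,0,0,2,2,-34), (66,0,0,-3,-5,-30), (66,0,0,-3,5,-30),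
  (66,0,0,2,0,-30), (66,0,0,-3,3,-26), (66,0,0,2,-2,-26), (66,0,0,-3,1,-22), (66,0,0,2,-4,-22),
  (66,0,0,2,6,-22), (66,0,0,-3,-1,-18), (66,0,0,2,-6,-18), (66,0,0,2,4,-18), (66,0,0,-3,-3,-14),
  (66,0,0,2,2,-14), (66,0,0,-3,-5,-10), (66,0,0,-3,5,-10), (66,0,0,2,0,-10), (66,0,0,-3,3,-6),
  (66,0,0,2,-2,-6), (66,0,0,-3,1,-2), (66,0,0,2,-4,-2), (66,0,0,2,6,-2), (66,0,0,-3,-1,2),
  (66,0,0,2,-6,2), (66,0,0,2,4,2), (66,0,0,-3,-3,6), (66,0,0,2,2,6), (66,0,0,-3,-5,10),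
  (66,0,0,-3,5,10), (66,0,0,2,0,10), (66,0,0,-3,3,14), (66,0,0,2,-2,14), (66,0,0,-3,1,18),
  (66,0,0,2,-4,18), (66,0,0,2,6,18), (66,0,0,-3,-1,22), (66,0,0,2,-6,22), (66,0,0,2,4,22),
  (66,0,0,-3,-3,26), (66,0,0,2,2,26), (66,0,0,-3,-5,30), (66,0,0,-3,5,30), (66,0,0,2,0,30),
  (66,0,0,-3,3,34), (66,0,0,2,-2,34), (88,0,0,-4,-2,-36), (88,0,0,1,3,-36), (88,0,0,6,-2,-36)]

def rest1440a_2 : List (Int × Int × Int × Int × Int × Int) := [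
  (88,0,0,-4,-4,-32), (88,0,0,-4,6,-32), (88,0,0,1,1,-32), (88,0,0,6,-4,-32), (88,0,0,6,6,-32),
  (88,0,0,-4,-6,-28), (88,0,0,-4,4,-28), (88,0,0,1,-1,-28), (88,0,0,6,-6,-28), (88,0,0,6,4,-28),
  (88,0,0,-4,2,-24), (88,0,0,1,-3,-24), (88,0,0,6,2,-24), (88,0,0,-4,0,-20), (88,0,0,1,-5,-20),
  (88,0,0,1,5,-20), (88,0,0,6,0,-20), (88,0,0,-4,-2,-16), (88,0,0,1,3,-16), (88,0,0,6,-2,-16),
  (88,0,0,-4,-4,-12), (88,0,0,-4,6,-12), (88,0,0,1,1,-12), (88,0,0,6,-4,-12), (88,0,0,6,6,-12),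
  (88,0,0,-4,-6,-8), (88,0,0,-4,4,-8), (88,0,0,1,-1,-8), (88,0,0,6,-6,-8), (88,0,0,6,4,-8),
  (88,0,0,-4,2,-4), (88,0,0,1,-3,-4), (88,0,0,6,2,-4), (88,0,0,-4,0,0), (88,0,0,1,-5,0),
  (88,0,0,1,5,0), (88,0,0,6,0,0), (88,0,0,-4,-2,4), (88,0,0,1,3,4), (88,0,0,6,-2,4),
  (88,0,0,-4,-4,8), (88,0,0,-4,6,8), (88,0,0,1,1,8), (88,0,0,6,-4,8), (88,0,0,6,6,8),
  (88,0,0,-4,-6,12), (88,0,0,-4,4,12), (88,0,0,1,-1,12), (88,0,0,6,-6,12), (88,0,0,6,4,12),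
  (88,0,0,-4,2,16), (88,0,0,1,-3,16), (88,0,0,6,2,16), (88,0,0,-4,0,20), (88,0,0,1,-5,20),
  (88,0,0,1,5,20), (88,0,0,6,0,20), (88,0,0,-4,-2,24), (88,0,0,1,3,24), (88,0,0,6,-2,24),
  (88,0,0,-4,-4,28), (88,0,0,-4,6,28), (88,0,0,1,1,28), (88,0,0,6,-4,28), (88,0,0,6,6,28),
  (88,0,0,-4,-6,32), (88,0,0,-4,4,32), (88,0,0,1,-1,32), (88,0,0,6,-6,32), (88,0,0,6,4,32),
  (88,0,0,-4,2,36), (88,0,0,1,-3,36), (88,0,0,6,2,36), (99,0,0,-2,-6,-33), (99,0,0,-2,4,-33),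
  (99,0,0,3,-1,-33), (99,0,0,-2,-2,-21), (99,0,0,3,3,-21), (99,0,0,-2,2,-9), (99,0,0,3,-3,-9),
  (99,0,0,-2,-4,3), (99,0,0,-2,6,3), (99,0,0,3,1,3), (99,0,0,-2,0,15), (99,0,0,3,-5,15),
  (99,0,0,3,5,15), (99,0,0,-2,-6,27), (99,0,0,-2,4,27), (99,0,0,3,-1,27), (110,0,0,0,0,-30),
  (110,0,0,0,0,-10), (110,0,0,0,0,10), (110,0,0,0,0,30), (120,-2,0,0,0,0), (132,0,0,-6,-2,-36),
  (132,0,0,-1,3,-36), (132,0,0,4,-2,-36), (132,0,0,-6,-4,-32), (132,0,0,-6,6,-32), (132,0,0,-1,1,-32)]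

def rest1440a_3 : List (Int × Int × Int × Int × Int × Int) := [
  (132,0,0,4,-4,-32), (132,0,0,4,6,-32), (132,0,0,-6,-6,-28), (132,0,0,-6,4,-28), (132,0,0,-1,-1,-28),
  (132,0,0,4,-6,-28), (132,0,0,4,4,-28), (132,0,0,-6,2,-24), (132,0,0,-1,-3,-24), (132,0,0,4,2,-24),
  (132,0,0,-6,0,-20), (132,0,0,-1,-5,-20), (132,0,0,-1,5,-20), (132,0,0,4,0,-20), (132,0,0,-6,-2,-16),
  (132,0,0,-1,3,-16), (132,0,0,4,-2,-16), (132,0,0,-6,-4,-12), (132,0,0,-6,6,-12), (132,0,0,-1,1,-12),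
  (132,0,0,4,-4,-12), (132,0,0,4,6,-12), (132,0,0,-6,-6,-8), (132,0,0,-6,4,-8), (132,0,0,-1,-1,-8),
  (132,0,0,4,-6,-8), (132,0,0,4,4,-8), (132,0,0,-6,2,-4), (132,0,0,-1,-3,-4), (132,0,0,4,2,-4),
  (132,0,0,-6,0,0), (132,0,0,-1,-5,0), (132,0,0,-1,5,0), (132,0,0,4,0,0), (132,0,0,-6,-2,4),
  (132,0,0,-1,3,4), (132,0,0,4,-2,4), (132,0,0,-6,-4,8), (132,0,0,-6,6,8), (132,0,0,-1,1,8),
  (132,0,0,4,-4,8), (132,0,0,4,6,8), (132,0,0,-6,-6,12), (132,0,0,-6,4,12), (132,0,0,-1,-1,12),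
  (132,0,0,4,-6,12), (132,0,0,4,4,12), (132,0,0,-6,2,16), (132,0,0,-1,-3,16), (132,0,0,4,2,16),
  (132,0,0,-6,0,20), (132,0,0,-1,-5,20), (132,0,0,-1,5,20), (132,0,0,4,0,20), (132,0,0,-6,-2,24),
  (132,0,0,-1,3,24), (132,0,0,4,-2,24), (132,0,0,-6,-4,28), (132,0,0,-6,6,28), (132,0,0,-1,1,28),
  (132,0,0,4,-4,28), (132,0,0,4,6,28), (132,0,0,-6,-6,32), (132,0,0,-6,4,32), (132,0,0,-1,-1,32),
  (132,0,0,4,-6,32), (132,0,0,4,4,32), (132,0,0,-6,2,36), (132,0,0,-1,-3,36), (132,0,0,4,2,36),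
  (144,2,0,-2,-2,24), (144,2,0,3,3,24), (165,0,0,0,0,-35), (165,0,0,0,0,-15), (165,0,0,0,0,5),
  (165,0,0,0,0,25), (176,0,0,-3,1,-32), (176,0,0,2,-4,-32), (176,0,0,2,6,-32), (176,0,0,-3,-3,-24),
  (176,0,0,2,2,-24), (176,0,0,-3,3,-16), (176,0,0,2,-2,-16), (176,0,0,-3,-1,-8), (176,0,0,2,-6,-8),
  (176,0,0,2,4,-8), (176,0,0,-3,-5,0), (176,0,0,-3,5,0), (176,0,0,2,0,0), (176,0,0,-3,1,8),
  (176,0,0,2,-4,8), (176,0,0,2,6,8), (176,0,0,-3,-3,16), (176,0,0,2,2,16), (176,0,0,-3,3,24),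
  (176,0,0,2,-2,24), (176,0,0,-3,-1,32), (176,0,0,2,-6,32), (176,0,0,2,4,32), (198,0,0,-4,0,-30)]

def rest1440a_4 : List (Int × Int × Int × Int × Int × Int) := [
  (198,0,0,1,-5,-30), (198,0,0,1,5,-30), (198,0,0,6,0,-30), (198,0,0,-4,-6,-18), (198,0,0,-4,4,-18),
  (198,0,0,1,-1,-18), (198,0,0,6,-6,-18), (198,0,0,6,4,-18), (198,0,0,-4,-2,-6), (198,0,0,1,3,-6),
  (198,0,0,6,-2,-6), (198,0,0,-4,2,6), (198,0,0,1,-3,6), (198,0,0,6,2,6), (198,0,0,-4,-4,18),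
  (198,0,0,-4,6,18), (198,0,0,1,1,18), (198,0,0,6,-4,18), (198,0,0,6,6,18), (198,0,0,-4,0,30),
  (198,0,0,1,-5,30), (198,0,0,1,5,30), (198,0,0,6,0,30), (220,0,0,0,0,-20), (220,0,0,0,0,0),
  (220,0,0,0,0,20), (264,0,0,-2,-2,-36), (264,0,0,3,3,-36), (264,0,0,-2,-4,-32), (264,0,0,-2,6,-32),
  (264,0,0,3,1,-32), (264,0,0,-2,-6,-28), (264,0,0,-2,4,-28), (264,0,0,3,-1,-28), (264,0,0,-2,2,-24),
  (264,0,0,3,-3,-24), (264,0,0,-2,0,-20), (264,0,0,3,-5,-20), (264,0,0,3,5,-20), (264,0,0,-2,-2,-16),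
  (264,0,0,3,3,-16), (264,0,0,-2,-4,-12), (264,0,0,-2,6,-12), (264,0,0,3,1,-12), (264,0,0,-2,-6,-8),
  (264,0,0,-2,4,-8), (264,0,0,3,-1,-8), (264,0,0,-2,2,-4), (264,0,0,3,-3,-4), (264,0,0,-2,0,0),
  (264,0,0,3,-5,0), (264,0,0,3,5,0), (264,0,0,-2,-2,4), (264,0,0,3,3,4), (264,0,0,-2,-4,8),
  (264,0,0,-2,6,8), (264,0,0,3,1,8), (264,0,0,-2,-6,12), (264,0,0,-2,4,12), (264,0,0,3,-1,12),
  (264,0,0,-2,2,16), (264,0,0,3,-3,16), (264,0,0,-2,0,20), (264,0,0,3,-5,20), (264,0,0,3,5,20),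
  (264,0,0,-2,-2,24), (264,0,0,3,3,24), (264,0,0,-2,-4,28), (264,0,0,-2,6,28), (264,0,0,3,1,28),
  (264,0,0,-2,-6,32), (264,0,0,-2,4,32), (264,0,0,3,-1,32), (264,0,0,-2,2,36), (264,0,0,3,-3,36),
  (297,0,0,-6,-4,-27), (297,0,0,-6,6,-27), (297,0,0,-1,1,-27), (297,0,0,4,-4,-27), (297,0,0,4,6,-27),
  (297,0,0,-6,-2,9), (297,0,0,-1,3,9), (297,0,0,4,-2,9)]

/-- Rows compatible with the solution of the first stage. -/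
def rest1440a : List It := ofRows (rest1440a_0 ++ rest1440a_1 ++ rest1440a_2 ++ rest1440a_3 ++ rest1440a_4)


/-- A certificate. -/
def tree1440a : Engine.Tree := .C [-812372,-2120654976,-3254114688,-276607980,43900369920,43900369920,14536648,27416872,-34082272,682930512,-5374769664,-196718808,-55036344,3009594624,2365583424,1987816272,-143681]

theorem rest1440a_eq : (items1440.filter fun e => decide (e.u = 0) || sol1440a.contains e.proj) = rest1440a := by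
  decide +kernel

theorem rest1440a_ok : rest1440a.all (fun a => (It.vec a).length == 17 &&
    Engine.nonneg [true, true, true, true, true, true] (It.vec a)) = true := by decide +kernel

theorem check1440a : Engine.check [true, true, true, true, true, true]
    [false, false, false, false, false, false, false, false, false, false, false, false, false, false, false, false, false] It.vec (fun _ => false) tree1440a rest1440a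
    [95039, 36, 36, 1439, 18, 1, -2, -2, -1, -2, -4, -2, -2, -4, -4, -2, -190080] [] = true := by decide +kernel

def rest1440b_0 : List (Int × Int × Int × Int × Int × Int) := [
  (6,1,1,2,4,2), (11,0,0,2,2,-9), (11,0,0,2,0,-5), (11,0,0,2,-2,-1), (11,0,0,2,-4,3),
  (11,0,0,2,6,3), (11,0,0,2,-6,7), (11,0,0,2,4,7), (12,2,0,-1,-3,-4), (12,2,0,4,2,-4),
  (22,0,0,-1,-1,-18), (22,0,0,4,-6,-18), (22,0,0,4,4,-18), (22,0,0,-1,-3,-14), (22,0,0,4,2,-14),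
  (22,0,0,-1,-5,-10), (22,0,0,-1,5,-10), (22,0,0,4,0,-10), (22,0,0,-1,3,-6), (22,0,0,4,-2,-6),
  (22,0,0,-1,1,-2), (22,0,0,4,-4,-2), (22,0,0,4,6,-2), (22,0,0,-1,-1,2), (22,0,0,4,-6,2),
  (22,0,0,4,4,2), (22,0,0,-1,-3,6), (22,0,0,4,2,6), (22,0,0,-1,-5,10), (22,0,0,-1,5,10),
  (22,0,0,4,0,10), (22,0,0,-1,3,14), (22,0,0,4,-2,14), (22,0,0,-1,1,18), (22,0,0,4,-4,18),
  (22,0,0,4,6,18), (32,-2,0,4,-2,-16), (32,-2,0,4,0,0), (33,0,0,1,3,-31), (33,0,0,6,-2,-31),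
  (33,0,0,-4,6,-27), (33,0,0,1,1,-27), (33,0,0,6,-4,-27), (33,0,0,6,6,-27), (33,0,0,-4,4,-23),
  (33,0,0,1,-1,-23), (33,0,0,6,-6,-23), (33,0,0,6,4,-23), (33,0,0,-4,2,-19), (33,0,0,1,-3,-19),
  (33,0,0,6,2,-19), (33,0,0,-4,0,-15), (33,0,0,1,-5,-15), (33,0,0,1,5,-15), (33,0,0,6,0,-15),
  (33,0,0,-4,-2,-11), (33,0,0,1,3,-11), (33,0,0,6,-2,-11), (33,0,0,-4,-4,-7), (33,0,0,-4,6,-7),
  (33,0,0,1,1,-7), (33,0,0,6,-4,-7), (33,0,0,6,6,-7), (33,0,0,-4,-6,-3), (33,0,0,-4,4,-3),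
  (33,0,0,1,-1,-3), (33,0,0,6,-6,-3), (33,0,0,6,4,-3), (33,0,0,-4,2,1), (33,0,0,1,-3,1),
  (33,0,0,6,2,1), (33,0,0,-4,0,5), (33,0,0,1,-5,5), (33,0,0,1,5,5), (33,0,0,6,0,5),
  (33,0,0,-4,-2,9), (33,0,0,1,3,9), (33,0,0,6,-2,9), (33,0,0,-4,-4,13), (33,0,0,-4,6,13),
  (33,0,0,1,1,13), (33,0,0,6,-4,13), (33,0,0,6,6,13), (33,0,0,-4,-6,17), (33,0,0,-4,4,17),
  (33,0,0,1,-1,17), (33,0,0,6,-6,17), (33,0,0,6,4,17), (33,0,0,-4,2,21), (33,0,0,1,-3,21),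
  (33,0,0,6,2,21), (33,0,0,-4,0,25), (33,0,0,1,-5,25), (33,0,0,1,5,25), (33,0,0,6,0,25),
  (33,0,0,-4,-2,29), (33,0,0,1,3,29), (33,0,0,6,-2,29), (44,0,0,-2,-2,-36), (44,0,0,3,3,-36)]

def rest1440b_1 : List (Int × Int × Int × Int × Int × Int) := [
  (44,0,0,-2,-4,-32), (44,0,0,-2,6,-32), (44,0,0,3,1,-32), (44,0,0,-2,-6,-28), (44,0,0,-2,4,-28),
  (44,0,0,3,-1,-28), (44,0,0,-2,2,-24), (44,0,0,3,-3,-24), (44,0,0,-2,0,-20), (44,0,0,3,-5,-20),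
  (44,0,0,3,5,-20), (44,0,0,-2,-2,-16), (44,0,0,3,3,-16), (44,0,0,-2,-4,-12), (44,0,0,-2,6,-12),
  (44,0,0,3,1,-12), (44,0,0,-2,-6,-8), (44,0,0,-2,4,-8), (44,0,0,3,-1,-8), (44,0,0,-2,2,-4),
  (44,0,0,3,-3,-4), (44,0,0,-2,0,0), (44,0,0,3,-5,0), (44,0,0,3,5,0), (44,0,0,-2,-2,4),
  (44,0,0,3,3,4), (44,0,0,-2,-4,8), (44,0,0,-2,6,8), (44,0,0,3,1,8), (44,0,0,-2,-6,12),
  (44,0,0,-2,4,12), (44,0,0,3,-1,12), (44,0,0,-2,2,16), (44,0,0,3,-3,16), (44,0,0,-2,0,20),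
  (44,0,0,3,-5,20), (44,0,0,3,5,20), (44,0,0,-2,-2,24), (44,0,0,3,3,24), (44,0,0,-2,-4,28),
  (44,0,0,-2,6,28), (44,0,0,3,1,28), (44,0,0,-2,-6,32), (44,0,0,-2,4,32), (44,0,0,3,-1,32),
  (44,0,0,-2,2,36), (44,0,0,3,-3,36), (45,2,0,0,0,-15), (55,0,0,0,0,-25), (55,0,0,0,0,-5),
  (55,0,0,0,0,15), (55,0,0,0,0,35), (66,0,0,-3,-3,-34), (66,0,0,2,2,-34), (66,0,0,-3,-5,-30),
  (66,0,0,-3,5,-30), (66,0,0,2,0,-30), (66,0,0,-3,3,-26), (66,0,0,2,-2,-26), (66,0,0,-3,1,-22),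
  (66,0,0,2,-4,-22), (66,0,0,2,6,-22), (66,0,0,-3,-1,-18), (66,0,0,2,-6,-18), (66,0,0,2,4,-18),
  (66,0,0,-3,-3,-14), (66,0,0,2,2,-14), (66,0,0,-3,-5,-10), (66,0,0,-3,5,-10), (66,0,0,2,0,-10),
  (66,0,0,-3,3,-6), (66,0,0,2,-2,-6), (66,0,0,-3,1,-2), (66,0,0,2,-4,-2), (66,0,0,2,6,-2),
  (66,0,0,-3,-1,2), (66,0,0,2,-6,2), (66,0,0,2,4,2), (66,0,0,-3,-3,6), (66,0,0,2,2,6),
  (66,0,0,-3,-5,10), (66,0,0,-3,5,10), (66,0,0,2,0,10), (66,0,0,-3,3,14), (66,0,0,2,-2,14),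
  (66,0,0,-3,1,18), (66,0,0,2,-4,18), (66,0,0,2,6,18), (66,0,0,-3,-1,22), (66,0,0,2,-6,22),
  (66,0,0,2,4,22), (66,0,0,-3,-3,26), (66,0,0,2,2,26), (66,0,0,-3,-5,30), (66,0,0,-3,5,30),
  (66,0,0,2,0,30), (66,0,0,-3,3,34), (66,0,0,2,-2,34), (88,0,0,-4,-2,-36), (88,0,0,1,3,-36)]

def rest1440b_2 : List (Int × Int × Int × Int × Int × Int) := [
  (88,0,0,6,-2,-36), (88,0,0,-4,-4,-32), (88,0,0,-4,6,-32), (88,0,0,1,1,-32), (88,0,0,6,-4,-32),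
  (88,0,0,6,6,-32), (88,0,0,-4,-6,-28), (88,0,0,-4,4,-28), (88,0,0,1,-1,-28), (88,0,0,6,-6,-28),
  (88,0,0,6,4,-28), (88,0,0,-4,2,-24), (88,0,0,1,-3,-24), (88,0,0,6,2,-24), (88,0,0,-4,0,-20),
  (88,0,0,1,-5,-20), (88,0,0,1,5,-20), (88,0,0,6,0,-20), (88,0,0,-4,-2,-16), (88,0,0,1,3,-16),
  (88,0,0,6,-2,-16), (88,0,0,-4,-4,-12), (88,0,0,-4,6,-12), (88,0,0,1,1,-12), (88,0,0,6,-4,-12),
  (88,0,0,6,6,-12), (88,0,0,-4,-6,-8), (88,0,0,-4,4,-8), (88,0,0,1,-1,-8), (88,0,0,6,-6,-8),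
  (88,0,0,6,4,-8), (88,0,0,-4,2,-4), (88,0,0,1,-3,-4), (88,0,0,6,2,-4), (88,0,0,-4,0,0),
  (88,0,0,1,-5,0), (88,0,0,1,5,0), (88,0,0,6,0,0), (88,0,0,-4,-2,4), (88,0,0,1,3,4),
  (88,0,0,6,-2,4), (88,0,0,-4,-4,8), (88,0,0,-4,6,8), (88,0,0,1,1,8), (88,0,0,6,-4,8),
  (88,0,0,6,6,8), (88,0,0,-4,-6,12), (88,0,0,-4,4,12), (88,0,0,1,-1,12), (88,0,0,6,-6,12),
  (88,0,0,6,4,12), (88,0,0,-4,2,16), (88,0,0,1,-3,16), (88,0,0,6,2,16), (88,0,0,-4,0,20),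
  (88,0,0,1,-5,20), (88,0,0,1,5,20), (88,0,0,6,0,20), (88,0,0,-4,-2,24), (88,0,0,1,3,24),
  (88,0,0,6,-2,24), (88,0,0,-4,-4,28), (88,0,0,-4,6,28), (88,0,0,1,1,28), (88,0,0,6,-4,28),
  (88,0,0,6,6,28), (88,0,0,-4,-6,32), (88,0,0,-4,4,32), (88,0,0,1,-1,32), (88,0,0,6,-6,32),
  (88,0,0,6,4,32), (88,0,0,-4,2,36), (88,0,0,1,-3,36), (88,0,0,6,2,36), (99,0,0,-2,-6,-33),
  (99,0,0,-2,4,-33), (99,0,0,3,-1,-33), (99,0,0,-2,-2,-21), (99,0,0,3,3,-21), (99,0,0,-2,2,-9),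
  (99,0,0,3,-3,-9), (99,0,0,-2,-4,3), (99,0,0,-2,6,3), (99,0,0,3,1,3), (99,0,0,-2,0,15),
  (99,0,0,3,-5,15), (99,0,0,3,5,15), (99,0,0,-2,-6,27), (99,0,0,-2,4,27), (99,0,0,3,-1,27),
  (110,0,0,0,0,-30), (110,0,0,0,0,-10), (110,0,0,0,0,10), (110,0,0,0,0,30), (132,0,0,-6,-2,-36),
  (132,0,0,-1,3,-36), (132,0,0,4,-2,-36), (132,0,0,-6,-4,-32), (132,0,0,-6,6,-32), (132,0,0,-1,1,-32)]

def rest1440b_3 : List (Int × Int × Int × Int × Int × Int) := [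
  (132,0,0,4,-4,-32), (132,0,0,4,6,-32), (132,0,0,-6,-6,-28), (132,0,0,-6,4,-28), (132,0,0,-1,-1,-28),
  (132,0,0,4,-6,-28), (132,0,0,4,4,-28), (132,0,0,-6,2,-24), (132,0,0,-1,-3,-24), (132,0,0,4,2,-24),
  (132,0,0,-6,0,-20), (132,0,0,-1,-5,-20), (132,0,0,-1,5,-20), (132,0,0,4,0,-20), (132,0,0,-6,-2,-16),
  (132,0,0,-1,3,-16), (132,0,0,4,-2,-16), (132,0,0,-6,-4,-12), (132,0,0,-6,6,-12), (132,0,0,-1,1,-12),
  (132,0,0,4,-4,-12), (132,0,0,4,6,-12), (132,0,0,-6,-6,-8), (132,0,0,-6,4,-8), (132,0,0,-1,-1,-8),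
  (132,0,0,4,-6,-8), (132,0,0,4,4,-8), (132,0,0,-6,2,-4), (132,0,0,-1,-3,-4), (132,0,0,4,2,-4),
  (132,0,0,-6,0,0), (132,0,0,-1,-5,0), (132,0,0,-1,5,0), (132,0,0,4,0,0), (132,0,0,-6,-2,4),
  (132,0,0,-1,3,4), (132,0,0,4,-2,4), (132,0,0,-6,-4,8), (132,0,0,-6,6,8), (132,0,0,-1,1,8),
  (132,0,0,4,-4,8), (132,0,0,4,6,8), (132,0,0,-6,-6,12), (132,0,0,-6,4,12), (132,0,0,-1,-1,12),
  (132,0,0,4,-6,12), (132,0,0,4,4,12), (132,0,0,-6,2,16), (132,0,0,-1,-3,16), (132,0,0,4,2,16),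
  (132,0,0,-6,0,20), (132,0,0,-1,-5,20), (132,0,0,-1,5,20), (132,0,0,4,0,20), (132,0,0,-6,-2,24),
  (132,0,0,-1,3,24), (132,0,0,4,-2,24), (132,0,0,-6,-4,28), (132,0,0,-6,6,28), (132,0,0,-1,1,28),
  (132,0,0,4,-4,28), (132,0,0,4,6,28), (132,0,0,-6,-6,32), (132,0,0,-6,4,32), (132,0,0,-1,-1,32),
  (132,0,0,4,-6,32), (132,0,0,4,4,32), (132,0,0,-6,2,36), (132,0,0,-1,-3,36), (132,0,0,4,2,36),
  (165,0,0,0,0,-35), (165,0,0,0,0,-15), (165,0,0,0,0,5), (165,0,0,0,0,25), (176,0,0,-3,1,-32),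
  (176,0,0,2,-4,-32), (176,0,0,2,6,-32), (176,0,0,-3,-3,-24), (176,0,0,2,2,-24), (176,0,0,-3,3,-16),
  (176,0,0,2,-2,-16), (176,0,0,-3,-1,-8), (176,0,0,2,-6,-8), (176,0,0,2,4,-8), (176,0,0,-3,-5,0),
  (176,0,0,-3,5,0), (176,0,0,2,0,0), (176,0,0,-3,1,8), (176,0,0,2,-4,8), (176,0,0,2,6,8),
  (176,0,0,-3,-3,16), (176,0,0,2,2,16), (176,0,0,-3,3,24), (176,0,0,2,-2,24), (176,0,0,-3,-1,32),
  (176,0,0,2,-6,32), (176,0,0,2,4,32), (198,0,0,-4,0,-30), (198,0,0,1,-5,-30), (198,0,0,1,5,-30)]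

def rest1440b_4 : List (Int × Int × Int × Int × Int × Int) := [
  (198,0,0,6,0,-30), (198,0,0,-4,-6,-18), (198,0,0,-4,4,-18), (198,0,0,1,-1,-18), (198,0,0,6,-6,-18),
  (198,0,0,6,4,-18), (198,0,0,-4,-2,-6), (198,0,0,1,3,-6), (198,0,0,6,-2,-6), (198,0,0,-4,2,6),
  (198,0,0,1,-3,6), (198,0,0,6,2,6), (198,0,0,-4,-4,18), (198,0,0,-4,6,18), (198,0,0,1,1,18),
  (198,0,0,6,-4,18), (198,0,0,6,6,18), (198,0,0,-4,0,30), (198,0,0,1,-5,30), (198,0,0,1,5,30),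
  (198,0,0,6,0,30), (220,0,0,0,0,-20), (220,0,0,0,0,0), (220,0,0,0,0,20), (264,0,0,-2,-2,-36),
  (264,0,0,3,3,-36), (264,0,0,-2,-4,-32), (264,0,0,-2,6,-32), (264,0,0,3,1,-32), (264,0,0,-2,-6,-28),
  (264,0,0,-2,4,-28), (264,0,0,3,-1,-28), (264,0,0,-2,2,-24), (264,0,0,3,-3,-24), (264,0,0,-2,0,-20),
  (264,0,0,3,-5,-20), (264,0,0,3,5,-20), (264,0,0,-2,-2,-16), (264,0,0,3,3,-16), (264,0,0,-2,-4,-12),
  (264,0,0,-2,6,-12), (264,0,0,3,1,-12), (264,0,0,-2,-6,-8), (264,0,0,-2,4,-8), (264,0,0,3,-1,-8),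
  (264,0,0,-2,2,-4), (264,0,0,3,-3,-4), (264,0,0,-2,0,0), (264,0,0,3,-5,0), (264,0,0,3,5,0),
  (264,0,0,-2,-2,4), (264,0,0,3,3,4), (264,0,0,-2,-4,8), (264,0,0,-2,6,8), (264,0,0,3,1,8),
  (264,0,0,-2,-6,12), (264,0,0,-2,4,12), (264,0,0,3,-1,12), (264,0,0,-2,2,16), (264,0,0,3,-3,16),
  (264,0,0,-2,0,20), (264,0,0,3,-5,20), (264,0,0,3,5,20), (264,0,0,-2,-2,24), (264,0,0,3,3,24),
  (264,0,0,-2,-4,28), (264,0,0,-2,6,28), (264,0,0,3,1,28), (264,0,0,-2,-6,32), (264,0,0,-2,4,32),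
  (264,0,0,3,-1,32), (264,0,0,-2,2,36), (264,0,0,3,-3,36), (297,0,0,-6,-4,-27), (297,0,0,-6,6,-27),
  (297,0,0,-1,1,-27), (297,0,0,4,-4,-27), (297,0,0,4,6,-27), (297,0,0,-6,-2,9), (297,0,0,-1,3,9),
  (297,0,0,4,-2,9)]

/-- Rows compatible with the solution of the first stage. -/
def rest1440b : List It := ofRows (rest1440b_0 ++ rest1440b_1 ++ rest1440b_2 ++ rest1440b_3 ++ rest1440b_4)


/-- A certificate. -/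
def tree1440b : Engine.Tree := .C [-576,-1088930304,-407860992,-209088,8136437760,8136437760,-1989504,-1216512,25344,-1061441280,-1332866304,30526848,18678528,10349982720,-8136437760,8511624000,162769]

theorem rest1440b_eq : (items1440.filter fun e => decide (e.u = 0) || sol1440b.contains e.proj) = rest1440b := by
  decide +kernel

theorem rest1440b_ok : rest1440b.all (fun a => (It.vec a).length == 17 &&
    Engine.nonneg [true, true, true, true, true, true] (It.vec a)) = true := by decide +kernel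

theorem check1440b : Engine.check [true, true, true, true, true, true]
    [false, false, false, false, false, false, false, false, false, false, false, false, false, false, false, false, false] It.vec (fun _ => false) tree1440b rest1440b
    [95039, 36, 36, 1439, 18, 1, -2, -2, -1, -2, -4, -2, -2, -4, -4, -2, -190080] [] = true := by decide +kernel

end Cfsg.Agent.Lib.Recog95040.Cert
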