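import Cfsg.Agent.Lib.Recog95040.Items

/-!
Certificate for a centralizer of order 40.
-/

set_option autoImplicit false

namespace Cfsg.Agent.Lib.Recog95040.Cert

def items40_0 : List (Int × Int × Int × Int × Int × Int) := [
  (6,1,1,2,-4,-2), (6,1,1,2,4,2), (11,0,0,2,0,-5), (11,0,0,2,-2,-1), (11,0,0,2,-4,3),
  (11,0,0,2,6,3), (12,2,0,-1,-3,-4), (12,2,0,4,2,-4), (12,2,0,-1,-5,0), (12,2,0,-1,5,0),
  (12,2,0,4,0,0), (12,2,0,-1,3,4), (12,2,0,4,-2,4), (16,-1,1,2,2,-4), (16,-1,1,2,0,0),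
  (16,-1,1,2,-2,4), (18,3,1,-4,-4,-2), (18,3,1,1,1,-2), (18,3,1,-4,4,2), (18,3,1,1,-1,2),
  (20,-4,0,0,0,0), (22,0,0,-1,3,-6), (22,0,0,4,-2,-6), (22,0,0,-1,1,-2), (22,0,0,4,-4,-2),
  (22,0,0,4,6,-2), (22,0,0,-1,-1,2), (22,0,0,4,-6,2), (22,0,0,4,4,2), (22,0,0,-1,-3,6),
  (22,0,0,4,2,6), (24,4,0,-2,2,-4), (24,4,0,3,-3,-4), (24,4,0,-2,0,0), (24,4,0,3,-5,0),
  (24,4,0,3,5,0), (24,4,0,-2,-2,4), (24,4,0,3,3,4), (27,-1,1,-1,3,-1), (27,-1,1,4,-2,-1),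
  (27,-1,1,-1,1,3), (27,-1,1,4,-4,3), (32,-2,0,4,2,-4), (32,-2,0,4,0,0), (32,-2,0,4,-2,4),
  (33,0,0,-4,-6,-3), (33,0,0,-4,4,-3), (33,0,0,1,-1,-3), (33,0,0,6,-6,-3), (33,0,0,6,4,-3),
  (33,0,0,-4,2,1), (33,0,0,1,-3,1), (33,0,0,6,2,1), (33,0,0,-4,0,5), (33,0,0,1,-5,5),
  (33,0,0,1,5,5), (33,0,0,6,0,5), (40,3,1,0,0,0), (44,0,0,-2,2,-4), (44,0,0,3,-3,-4),
  (44,0,0,-2,0,0), (44,0,0,3,-5,0), (44,0,0,3,5,0), (44,0,0,-2,-2,4), (44,0,0,3,3,4),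
  (45,2,0,0,0,5), (48,-3,1,-4,2,-4), (48,-3,1,1,-3,-4), (48,-3,1,-4,0,0), (48,-3,1,-4,-2,4),
  (48,-3,1,1,3,4), (54,-2,0,-2,-2,-6), (54,-2,0,3,3,-6), (54,-2,0,-2,-4,-2), (54,-2,0,-2,6,-2),
  (54,-2,0,3,1,-2), (54,-2,0,-2,-6,2), (54,-2,0,-2,4,2), (54,-2,0,3,-1,2), (54,-2,0,-2,2,6),
  (54,-2,0,3,-3,6), (55,0,0,0,0,-5), (60,-1,1,0,0,0), (66,0,0,-3,3,-6), (66,0,0,2,-2,-6),
  (66,0,0,-3,1,-2), (66,0,0,2,-4,-2), (66,0,0,2,6,-2), (66,0,0,-3,-1,2), (66,0,0,2,-6,2),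
  (66,0,0,2,4,2), (66,0,0,-3,-3,6), (66,0,0,2,2,6), (72,1,1,-1,-3,-4), (72,1,1,4,2,-4),
  (72,1,1,4,0,0), (72,1,1,-1,3,4), (72,1,1,4,-2,4), (88,0,0,-4,2,-4), (88,0,0,1,-3,-4)]

def items40_1 : List (Int × Int × Int × Int × Int × Int) := [
  (88,0,0,6,2,-4), (88,0,0,-4,0,0), (88,0,0,1,-5,0), (88,0,0,1,5,0), (88,0,0,6,0,0),
  (88,0,0,-4,-2,4), (88,0,0,1,3,4), (88,0,0,6,-2,4), (99,0,0,-2,0,-5), (99,0,0,3,-5,-5),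
  (99,0,0,3,5,-5), (99,0,0,-2,-2,-1), (99,0,0,3,3,-1), (99,0,0,-2,-4,3), (99,0,0,-2,6,3),
  (99,0,0,3,1,3), (108,-4,0,-4,2,-4), (108,-4,0,1,-3,-4), (108,-4,0,6,2,-4), (108,-4,0,-4,0,0),
  (108,-4,0,1,-5,0), (108,-4,0,1,5,0), (108,-4,0,6,0,0), (108,-4,0,-4,-2,4), (108,-4,0,1,3,4),
  (108,-4,0,6,-2,4), (120,-2,0,0,0,0), (132,0,0,-6,2,-4), (132,0,0,-1,-3,-4), (132,0,0,4,2,-4),
  (132,0,0,-6,0,0), (132,0,0,-1,-5,0), (132,0,0,-1,5,0), (132,0,0,4,0,0), (132,0,0,-6,-2,4),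
  (132,0,0,-1,3,4), (132,0,0,4,-2,4), (144,2,0,-2,2,-4), (144,2,0,3,-3,-4), (144,2,0,-2,0,0),
  (144,2,0,3,-5,0), (144,2,0,3,5,0), (144,2,0,-2,-2,4), (144,2,0,3,3,4), (160,1,1,0,0,0),
  (165,0,0,0,0,5), (176,0,0,-3,-3,-4), (176,0,0,2,2,-4), (176,0,0,-3,-5,0), (176,0,0,-3,5,0),
  (176,0,0,2,0,0), (176,0,0,-3,3,4), (176,0,0,2,-2,4), (180,-3,1,0,0,0), (192,-1,1,4,0,0),
  (198,0,0,-4,-2,-6), (198,0,0,1,3,-6), (198,0,0,6,-2,-6), (198,0,0,-4,-4,-2), (198,0,0,-4,6,-2),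
  (198,0,0,1,1,-2), (198,0,0,6,-4,-2), (198,0,0,6,6,-2), (198,0,0,-4,-6,2), (198,0,0,-4,4,2),
  (198,0,0,1,-1,2), (198,0,0,6,-6,2), (198,0,0,6,4,2), (198,0,0,-4,2,6), (198,0,0,1,-3,6),
  (198,0,0,6,2,6), (216,3,1,-3,-3,-4), (216,3,1,2,2,-4), (216,3,1,2,0,0), (216,3,1,-3,3,4),
  (216,3,1,2,-2,4), (220,0,0,0,0,0), (240,-4,0,0,0,0), (264,0,0,-2,2,-4), (264,0,0,3,-3,-4),
  (264,0,0,-2,0,0), (264,0,0,3,-5,0), (264,0,0,3,5,0), (264,0,0,-2,-2,4), (264,0,0,3,3,4),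
  (288,4,0,-4,2,-4), (288,4,0,6,2,-4), (288,4,0,-4,0,0), (288,4,0,6,0,0), (288,4,0,-4,-2,4),
  (288,4,0,6,-2,4), (297,0,0,-6,-6,-3), (297,0,0,-6,4,-3), (297,0,0,-1,-1,-3), (297,0,0,4,-6,-3),
  (297,0,0,4,4,-3), (297,0,0,-6,2,1), (297,0,0,-1,-3,1), (297,0,0,4,2,1), (297,0,0,-6,0,5)]

def items40_2 : List (Int × Int × Int × Int × Int × Int) := [
  (297,0,0,-1,-5,5), (297,0,0,-1,5,5), (297,0,0,4,0,5)]

/-- Possible rows. -/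
def items40 : List It := ofRows (items40_0 ++ items40_1 ++ items40_2)

def proj40_0 : List (Int × Int × Int × Int × Int × Int) := [
  (288,4,0,0,0,4), (288,4,0,0,0,0), (288,4,0,0,0,-4), (240,-4,0,0,0,0), (216,3,1,0,0,4),
  (216,3,1,0,0,0), (216,3,1,0,0,-4), (192,-1,1,0,0,0), (180,-3,1,0,0,0), (160,1,1,0,0,0),
  (144,2,0,0,0,4), (144,2,0,0,0,0), (144,2,0,0,0,-4), (120,-2,0,0,0,0), (108,-4,0,0,0,4),
  (108,-4,0,0,0,0), (108,-4,0,0,0,-4), (72,1,1,0,0,4), (72,1,1,0,0,0), (72,1,1,0,0,-4),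
  (60,-1,1,0,0,0), (54,-2,0,0,0,6), (54,-2,0,0,0,2), (54,-2,0,0,0,-2), (54,-2,0,0,0,-6),
  (48,-3,1,0,0,4), (48,-3,1,0,0,0), (48,-3,1,0,0,-4), (45,2,0,0,0,5), (40,3,1,0,0,0),
  (32,-2,0,0,0,4), (32,-2,0,0,0,0), (32,-2,0,0,0,-4), (27,-1,1,0,0,3), (27,-1,1,0,0,-1),
  (24,4,0,0,0,4), (24,4,0,0,0,0), (24,4,0,0,0,-4), (20,-4,0,0,0,0), (18,3,1,0,0,2),
  (18,3,1,0,0,-2), (16,-1,1,0,0,4), (16,-1,1,0,0,0), (16,-1,1,0,0,-4), (12,2,0,0,0,4),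
  (12,2,0,0,0,0), (12,2,0,0,0,-4), (6,1,1,0,0,2), (6,1,1,0,0,-2)]

/-- First stage rows. -/
def proj40 : List It := ofRows (proj40_0)


/-- A certificate. -/
def tree40 : Engine.Tree := .B 25 (.L)
 (.B 40 (.C [0,100000,0,16667,7,0,0])
 (.B 41 (.C [0,100000,0,-10000,7,0,0])
 (.B 26 (.L)
 (.B 21 (.C [0,-1000,0,321,0,0,0])
 (.B 23 (.C [0,0,0,-1000,0,0,0])
 (.B 28 (.B 18 (.C [0,0,0,0,-28,0,-100000])
 (.B 16 (.C [0,0,0,-846,0,0,-1000])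
 (.B 18 (.C [-115440,10000000,1603,0,-45,0,0])
 (.B 17 (.C [-6349,100000,88,-7143,0,0,0])
 (.B 10 (.C [0,0,0,-10000000,2841,0,0])
 (.C [-40909,-100000,568,-66667,-23,0,-92235]))))))
 (.C [-228800,0,1430,186340,-31,0,-28050])))))))

theorem gen40_eq : gen 40 = items40 := by decide +kernel

theorem items40_proj : items40.all (fun e => decide (e.u = 0) || proj40.contains e.proj) = true := by
  decide +kernel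

theorem proj40_ok : proj40.all (fun a => (It.vec1 a).length == 7 &&
    Engine.nonneg [true, true, false, false, false, true, true] (It.vec1 a)) = true := by decide +kernel

theorem check40 : Engine.check [true, true, false, false, false, true, true]
    [false, false, false, false, false, true, true] It.vec1 (fun _ => false) tree40 proj40
    [18, 1, -2, -2, -190080, 95039, 39] [] = true := by decide +kernel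

end Cfsg.Agent.Lib.Recog95040.Cert
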