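/-
Simple groups of order 95040: the Sylow 11-subgroups (1728 of them, self-centralizing, normalizer of
order 55), subgroups of order divisible by 11, no subgroup of index 11, and the number of Sylow
5-subgroups.
-/
import Mathlib
import Cfsg.Prelude.Def_Sporadic
import Cfsg.Agent.Lib.SmallGroups.PrimeSylow
import Cfsg.Agent.Lib.SmallGroups.ElemCentral
import Cfsg.Agent.Lib.SmallGroups.InvolutionParity
import Cfsg.Agent.Lib.Order7920.Tools

set_option autoImplicit false
set_option linter.style.haveILetI false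

namespace Cfsg.Agent.Lib.Recog95040

open Subgroup MulAction Cfsg Cfsg.Agent.Lib.SmallGroups
open Cfsg.Agent.Lib.Order7920 (exists_mem_orderOf exists_sylow_eq card_sylow_subgroup
  relIndex_mul_card_inf card_subgroupOf dvd_card_of_free dvd_card_moved card_fixedBy_add_moved
  card_fixedBy_modEq smul_mk_eq_iff dvd_card_of_index smul_fixedBy_compl)

universe u

variable {G : Type u} [Group G] [Finite G]

theorem eleven_not_comm (hG : IsM12 G) : ¬ IsMulCommutative G := by
  haveI := hG.1
  exact not_isMulCommutative_of_not_prime (by rw [hG.2]; norm_num)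

theorem eq_top_of_card (hG : IsM12 G) {H : Subgroup G} (h : Nat.card H = 95040) : H = ⊤ :=
  eq_top_of_card_eq H (h.trans hG.2.symm)

theorem index_mul (hG : IsM12 G) (H : Subgroup G) : Nat.card H * H.index = 95040 := by
  rw [card_mul_index, hG.2]

theorem eq_one_of_fix_all' (hG : IsM12 G) {H : Subgroup G} (hH : H ≠ ⊤) {g : G}
    (h : ∀ a : G ⧸ H, g • a = a) : g = 1 := by
  haveI := hG.1
  refine toPermHom_injective hH ?_
  rw [map_one]
  exact Equiv.ext h

theorem ne_one_of_order {x : G} {p : ℕ} [hp : Fact p.Prime] (hx : orderOf x = p) : x ≠ 1 := by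
  rintro rfl
  rw [orderOf_one] at hx
  exact hp.out.ne_one hx.symm

/-- Normalizer, centralizer and Sylow number for a prime dividing the order to the first power. -/
theorem normalizer_prime (hG : IsM12 G) {p m : ℕ} [Fact p.Prime] (hm : 95040 = p ^ 1 * m)
    (hm' : ¬ p ∣ m) {y : G} (hy : orderOf y = p) :
    ∃ (e : ℕ) (Y : Sylow p G), (Y : Subgroup G) = zpowers y ∧ Nat.card (Y : Subgroup G) = p ∧
      centralizer ({y} : Set G) = centralizer ((Y : Subgroup G) : Set G) ∧
      e ∣ p - 1 ∧ e ≠ 1 ∧ p ∣ Nat.card (centralizer ({y} : Set G)) ∧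
      Nat.card (normalizer ((zpowers y : Subgroup G) : Set G)) =
        e * Nat.card (centralizer ({y} : Set G)) ∧
      e * Nat.card (centralizer ({y} : Set G)) * Nat.card (Sylow p G) = 95040 := by
  haveI := hG.1
  have hP : ∀ Q : Sylow p G, Nat.card (Q : Subgroup G) = p := fun Q => by
    rw [card_sylow_eq (k := 1) (m := m) Q (by rw [hG.2, hm]) hm', pow_one]
  obtain ⟨Y, hY, -⟩ := existsUnique_sylow_of_orderOf default (hP _) hy
  obtain ⟨e, he, he1, hd, hN⟩ := exists_card_normalizer_eq_of_simple (eleven_not_comm hG) Y (hP Y)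
  have hC : centralizer ({y} : Set G) = centralizer ((Y : Subgroup G) : Set G) :=
    centralizer_eq_of_prime (hP Y) (hY ▸ mem_zpowers y) (ne_one_of_order hy)
  refine ⟨e, Y, hY, hP Y, hC, he, he1, hC ▸ hd, ?_, ?_⟩
  · rw [← hY, hC, hN]
  · rw [hC, ← hN, card_normalizer_sylow_mul, hG.2]

omit [Finite G] in
/-- The centralizer of an element lies in the normalizer of the group it generates. -/
theorem centralizer_le_normalizer_zpowers (x : G) :
    centralizer ({x} : Set G) ≤ normalizer ((zpowers x : Subgroup G) : Set G) := by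
  intro g hg
  rw [mem_normalizer_iff_map_conj_eq, MonoidHom.map_zpowers]
  congr 1
  show g * x * g⁻¹ = x
  rw [mem_centralizer_singleton_iff.mp hg, mul_inv_cancel_right]

omit [Finite G] in
/-- Order times relative index. -/
theorem card_mul_relIndex_eq {H K : Subgroup G} (h : H ≤ K) :
    Nat.card H * H.relIndex K = Nat.card K := by
  rw [← relIndex_bot_left (H := H), ← relIndex_bot_left (H := K)]
  exact relIndex_mul_relIndex _ _ _ bot_le h

/-- Elements of a subgroup normalize the images of its normal subgroups. -/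
theorem mem_normalizer_map {H : Subgroup G} {Q0 : Subgroup H} (hn : Q0.Normal) {x : G}
    (hx : x ∈ H) : x ∈ normalizer ((Q0.map H.subtype : Subgroup G) : Set G) := by
  rw [mem_normalizer_iff_map_conj_eq]
  refine eq_of_le_of_card_ge ?_ (le_of_eq (card_map_of_injective (MulAut.conj x).injective).symm)
  rintro _ ⟨_, ⟨v, hv, rfl⟩, rfl⟩
  exact ⟨⟨x, hx⟩ * v * ⟨x, hx⟩⁻¹, hn.conj_mem v hv _, rfl⟩

/-- Sylow congruence inside a subgroup. -/
theorem relIndex_normalizer_mod {p : ℕ} [hp : Fact p.Prime] {K : Subgroup G} {x : G}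
    (hx : orderOf x = p) (hxK : x ∈ K) (hp2 : ¬ p ^ 2 ∣ Nat.card G) :
    (normalizer ((zpowers x : Subgroup G) : Set G)).relIndex K % p = 1 := by
  have h := card_sylow_subgroup (p := p) (k := 1) (M := K) (H := zpowers x)
    (zpowers_le.mpr hxK) (by rw [Nat.card_zpowers, hx, pow_one])
    (fun hd => hp2 (hd.trans (card_subgroup_dvd_card K)))
  have hmod := card_sylow_modEq_one p K
  rw [h] at hmod
  rw [hmod, Nat.one_mod_eq_one.mpr hp.out.ne_one]

/-- Fixed points of a conjugation: the congruence for a normalized subgroup. -/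
theorem card_inf_centralizer_mod {R : Subgroup G} {x : G} {p : ℕ} [hp : Fact p.Prime]
    (hx : orderOf x = p) (hn : x ∈ normalizer (R : Set G)) :
    Nat.card (R ⊓ centralizer ({x} : Set G) : Subgroup G) % p = Nat.card R % p := by
  letI : MulAction (normalizer (R : Set G)) R :=
    { smul := fun g v => ⟨g * v * g⁻¹, (mem_normalizer_iff.mp g.2 _).mp v.2⟩
      one_smul := fun v => Subtype.ext (by show (1 : G) * v * (1 : G)⁻¹ = v; simp)
      mul_smul := fun g h v => Subtype.ext (by
        show ((g : G) * h) * v * ((g : G) * h)⁻¹ = g * (h * v * (h : G)⁻¹) * (g : G)⁻¹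
        group) }
  set g : normalizer (R : Set G) := ⟨x, hn⟩
  have hg : g ^ p = 1 := Subtype.ext (by
    rw [Subgroup.coe_pow, Subgroup.coe_one, ← hx, pow_orderOf_eq_one])
  rw [← card_fixedBy_modEq (X := R) hg]
  congr 1
  exact Nat.card_congr
    { toFun := fun v => ⟨⟨v.1, v.2.1⟩, Subtype.ext (by
        show x * v.1 * x⁻¹ = v.1
        rw [← (mem_centralizer_singleton_iff.mp v.2.2), mul_inv_cancel_right])⟩
      invFun := fun v => ⟨v.1.1, v.1.2, mem_centralizer_singleton_iff.mpr
        (by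
          have h : x * v.1.1 * x⁻¹ = v.1.1 := congrArg Subtype.val v.2
          exact (mul_inv_eq_iff_eq_mul.mp h).symm)⟩
      left_inv := fun v => rfl
      right_inv := fun v => rfl }

/-- An element of prime order normalizing a group of coprime order normalizes one of its Sylow
subgroups. -/
theorem exists_normalized_sylow {Q : Subgroup G} {x : G} {p q : ℕ} [hp : Fact p.Prime]
    [Fact q.Prime] (hx : orderOf x = p) (hn : x ∈ normalizer (Q : Set G))
    (hpQ : ¬ p ∣ Nat.card Q) :
    ∃ R : Subgroup G, R ≤ Q ∧ Nat.card R = q ^ (Nat.card Q).factorization q ∧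
      x ∈ normalizer (R : Set G) := by
  classical
  open scoped Pointwise in
  set g : MulAut G := MulAut.conj x with hg
  open scoped Pointwise in
  let S : Set (Subgroup G) := {R | R ≤ Q ∧ Nat.card R = q ^ (Nat.card Q).factorization q}
  have hS : Nat.card S = Nat.card (Sylow q Q) := by
    refine (Nat.card_congr (Equiv.ofBijective
      (fun P : Sylow q Q => (⟨(P : Subgroup Q).map Q.subtype, map_subtype_le _,
        by rw [card_map_of_injective Q.subtype_injective, P.card_eq_multiplicity]⟩ : S))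
      ⟨fun P P' h => Sylow.ext (map_injective Q.subtype_injective (congrArg Subtype.val h)),
        fun R => ?_⟩)).symm
    refine ⟨Sylow.ofCard (R.1.subgroupOf Q) ?_, Subtype.ext ?_⟩
    · rw [card_subgroupOf, inf_eq_left.mpr R.2.1, R.2.2]
    · simp [Sylow.coe_ofCard, map_subgroupOf_eq_of_le R.2.1]
  open scoped Pointwise in
  have key : ∀ R : Subgroup G, g • R = R ↔ x ∈ normalizer (R : Set G) := fun R => by
    rw [mem_normalizer_iff_map_conj_eq]
    rfl
  open scoped Pointwise in
  have hinv : ∀ R ∈ S, g • R ∈ S := by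
    intro R hR
    refine ⟨?_, ?_⟩
    · have := (key Q).mpr hn
      exact this ▸ pointwise_smul_le_pointwise_smul_iff.mpr hR.1
    · rw [← hR.2]
      exact (Nat.card_congr (Subgroup.equivSMul g R).toEquiv).symm
  open scoped Pointwise in
  by_contra hno
  push Not at hno
  have hd := dvd_card_of_free (X := Subgroup G) (g := g) (p := p)
    (by rw [hg, ← map_pow, ← hx, pow_orderOf_eq_one, map_one]) (S := S) hinv
    (fun R hR e => hno R hR.1 hR.2 ((key R).mp e))
  rw [hS] at hd
  obtain ⟨P⟩ := (inferInstance : Nonempty (Sylow q Q))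
  exact hpQ (hd.trans (P.card_dvd_index.trans (index_dvd_card _)))

/-- A subgroup of index 12 forces elements of order 11 to be self-centralizing. -/
theorem centralizer_of_index_twelve (hG : IsM12 G) {H : Subgroup G} (hH : H.index = 12)
    {x : G} (hx : orderOf x = 11) : Nat.card (centralizer ({x} : Set G)) = 11 := by
  haveI := hG.1
  haveI : Fact (Nat.Prime 11) := ⟨by norm_num⟩
  obtain ⟨e, P, hP, hPc, hC, -, -, h11, -, -⟩ :=
    normalizer_prime hG (p := 11) (m := 8640) (by norm_num) (by norm_num) hx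
  have hHt : H ≠ ⊤ := by
    rintro rfl
    rw [index_top] at hH
    omega
  haveI : FaithfulSMul G (G ⧸ H) :=
    ⟨fun h => toPermHom_injective hHt (Equiv.ext fun a => h a)⟩
  have hcard : Nat.card (G ⧸ H) = 12 := hH
  have hf : Nat.card (fixedPoints (P : Subgroup G) (G ⧸ H)) = 1 := by
    have hmod := P.2.card_modEq_card_fixedPoints (G ⧸ H)
    rw [hcard] at hmod
    replace hmod : 12 % 11 = Nat.card (fixedPoints (P : Subgroup G) (G ⧸ H)) % 11 := hmod
    have hle : Nat.card (fixedPoints (P : Subgroup G) (G ⧸ H)) < 12 := by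
      rw [← hcard]
      have hxP : x ∈ (P : Subgroup G) := hP ▸ mem_zpowers x
      obtain ⟨a, ha⟩ : ∃ a : G ⧸ H, x • a ≠ a := by
        by_contra hall
        push Not at hall
        exact ne_one_of_order hx (eq_one_of_fix_all' hG hHt hall)
      exact Finite.card_subtype_lt (p := fun b => b ∈ fixedPoints (P : Subgroup G) (G ⧸ H))
        (fun h => ha (h ⟨x, hxP⟩))
    omega
  have := card_centralizer_dvd P hPc hf (k := 1) (by rw [hcard])
  rw [← hC] at this
  simpa using Nat.dvd_antisymm (by simpa using this) h11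

/-- An element of order 11 has a unique fixed point on the cosets of a subgroup containing its
normalizer. -/
theorem fixed_eq_base (hG : IsM12 G) {M : Subgroup G} {x : G} (hx : orderOf x = 11)
    (hNM : normalizer ((zpowers x : Subgroup G) : Set G) ≤ M) (a : G ⧸ M) (ha : x • a = a) :
    a = ((1 : G) : G ⧸ M) := by
  haveI : Fact (Nat.Prime 11) := ⟨by norm_num⟩
  rw [← QuotientGroup.out_eq' a, smul_mk_eq_iff] at ha
  set z := a.out⁻¹ * x * a.out with hz
  have hzo : orderOf z = 11 := by
    rw [hz, show a.out⁻¹ * x * a.out = MulAut.conj a.out⁻¹ x by simp, MulEquiv.orderOf_eq, hx]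
  have hxM : x ∈ M := hNM (le_normalizer (mem_zpowers x))
  have h2 : ¬ 11 ^ (1 + 1) ∣ Nat.card M := fun h => by
    have := h.trans (card_subgroup_dvd_card M)
    rw [hG.2] at this
    norm_num at this
  have hsy : ∀ {w : G}, orderOf w = 11 → w ∈ M →
      ∃ Q : Sylow 11 M, (Q : Subgroup M) = (zpowers w).subgroupOf M := fun {w} hw hwM =>
    exists_sylow_eq (k := 1) (by rw [card_subgroupOf, inf_eq_left.mpr (zpowers_le.mpr hwM),
      Nat.card_zpowers, hw, pow_one]) h2
  obtain ⟨Q₁, hQ₁⟩ := hsy hx hxM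
  obtain ⟨Q₂, hQ₂⟩ := hsy hzo ha
  obtain ⟨m, hm⟩ := exists_smul_eq M Q₁ Q₂
  have hmem : (m : G) * x * (m : G)⁻¹ ∈ zpowers z := by
    have h1 : (⟨x, hxM⟩ : M) ∈ (Q₁ : Subgroup M) := by
      rw [hQ₁, mem_subgroupOf]; exact mem_zpowers x
    have h3 : m * ⟨x, hxM⟩ * m⁻¹ ∈ ((m • Q₁ : Sylow 11 M) : Subgroup M) := by
      open scoped Pointwise in
      exact Subgroup.smul_mem_pointwise_smul _ (MulAut.conj m) _ h1
    rw [hm, hQ₂, mem_subgroupOf] at h3
    exact h3
  have hgN : a.out * (m : G) ∈ normalizer ((zpowers x : Subgroup G) : Set G) := by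
    rw [mem_normalizer_iff_map_conj_eq, MonoidHom.map_zpowers]
    refine eq_of_le_of_card_ge ?_ ?_
    · rw [zpowers_le]
      obtain ⟨n, hn⟩ := mem_zpowers_iff.mp hmem
      refine mem_zpowers_iff.mpr ⟨n, ?_⟩
      show x ^ n = a.out * m * x * (a.out * m)⁻¹
      calc x ^ n = a.out * (z ^ n) * a.out⁻¹ := by
            rw [show z = a.out⁻¹ * x * a.out⁻¹⁻¹ by rw [inv_inv, hz], conj_zpow]; group
        _ = a.out * (m * x * (m : G)⁻¹) * a.out⁻¹ := by rw [hn]
        _ = a.out * m * x * (a.out * m)⁻¹ := by group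
    · rw [Nat.card_zpowers, Nat.card_zpowers]
      exact (MulEquiv.orderOf_eq (MulAut.conj (a.out * (m : G))) x).ge
  have hout : a.out ∈ M := by
    have := M.mul_mem (hNM hgN) (M.inv_mem m.2)
    rwa [mul_inv_cancel_right] at this
  conv_lhs => rw [← QuotientGroup.out_eq' a]
  rw [QuotientGroup.eq, mul_one]
  exact M.inv_mem hout

/-- No group of order 8 commutes with an element of order 11 having one fixed point among 45. -/
theorem false_of_index_fortyFive (hG : IsM12 G) {M : Subgroup G} (hM : M.index = 45) {x : G}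
    (hx : orderOf x = 11) (hNM : normalizer ((zpowers x : Subgroup G) : Set G) ≤ M)
    {D : Subgroup G} (hD : Nat.card D = 8) (hDx : ∀ d ∈ D, Commute x d) : False := by
  haveI := hG.1
  haveI : Fact (Nat.Prime 11) := ⟨by norm_num⟩
  haveI : Fact (Nat.Prime 2) := ⟨Nat.prime_two⟩
  have hMt : M ≠ ⊤ := by
    rintro rfl
    rw [index_top] at hM
    omega
  set a0 : G ⧸ M := ((1 : G) : G ⧸ M) with ha0
  have hxM : x ∈ M := hNM (le_normalizer (mem_zpowers x))
  have hxa : x • a0 = a0 := by
    rw [ha0, smul_mk_eq_iff]; simpa using hxM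
  have hfix : ∀ d ∈ D, d • a0 = a0 := fun d hd => fixed_eq_base hG hx hNM _ (by
    rw [smul_smul, (hDx d hd).eq, mul_smul, hxa])
  have hcard : Nat.card (G ⧸ M) = 45 := hM
  have hinv : ∀ d ∈ D, orderOf d = 2 → ∀ a : G ⧸ M, d • a = a → a = a0 := by
    intro d hd hd2 a ha
    have h11 := dvd_card_moved (X := G ⧸ M) (p := 11) (by rw [← hx, pow_orderOf_eq_one])
      (hDx d hd) (fun b hb => by rw [fixed_eq_base hG hx hNM b hb]; exact hfix d hd)
    have hpos : 0 < Nat.card {b : G ⧸ M | d • b ≠ b} := by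
      by_contra hc
      refine ne_one_of_order hd2 (eq_one_of_fix_all' hG hMt fun b => ?_)
      by_contra hb
      haveI : Nonempty {b : G ⧸ M | d • b ≠ b} := ⟨⟨b, hb⟩⟩
      exact hc Nat.card_pos
    have h4 := card_fixedBy_mod_four (eleven_not_comm hG) (X := G ⧸ M) hd2
    have hsum := card_fixedBy_add_moved (X := G ⧸ M) d
    rw [hcard] at h4 hsum
    obtain ⟨j, hj⟩ := h11
    have h1 : Nat.card (fixedBy (G ⧸ M) d) = 1 := by
      haveI : Nonempty (fixedBy (G ⧸ M) d) := ⟨⟨a0, hfix d hd⟩⟩
      have : 0 < Nat.card (fixedBy (G ⧸ M) d) := Nat.card_pos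
      omega
    obtain ⟨hsub, -⟩ := Nat.card_eq_one_iff_unique.mp h1
    exact congrArg Subtype.val (hsub.elim (⟨a, ha⟩ : fixedBy (G ⧸ M) d) ⟨a0, hfix d hd⟩)
  let S := {a : G ⧸ M // a ≠ a0}
  letI : MulAction D S :=
    { smul := fun d a => ⟨(d : G) • a.1, fun e => a.2 (smul_left_cancel (d : G)
        (e.trans (hfix d d.2).symm))⟩
      one_smul := fun a => Subtype.ext (one_smul G a.1)
      mul_smul := fun c d a => Subtype.ext (mul_smul (c : G) (d : G) a.1) }
  have hfree : ∀ a : S, stabilizer D a = ⊥ := by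
    intro a
    rw [eq_bot_iff]
    intro d hd
    rw [mem_bot]
    by_contra hd1
    have h2 : 2 ∣ orderOf d := by
      have h8 := _root_.orderOf_dvd_natCard d
      rw [hD, show 8 = 2 ^ 3 by norm_num] at h8
      obtain ⟨k, -, hk⟩ := (Nat.dvd_prime_pow Nat.prime_two).mp h8
      rw [hk]
      refine dvd_pow_self 2 fun hk0 => hd1 ?_
      rwa [hk0, pow_zero, orderOf_eq_one_iff] at hk
    have hu := orderOf_pow_orderOf_div (orderOf_pos d).ne' h2
    have hu' := pow_mem hd (orderOf d / 2)
    rw [mem_stabilizer_iff] at hu'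
    refine a.2 (hinv _ ((d ^ (orderOf d / 2) : D)).2 ?_ a.1 (congrArg Subtype.val hu'))
    rwa [Subgroup.orderOf_coe]
  have hS : Nat.card S = 44 := by
    classical
    haveI := Fintype.ofFinite (G ⧸ M)
    rw [Nat.card_eq_fintype_card, Fintype.card_subtype_compl, Fintype.card_subtype_eq,
      ← Nat.card_eq_fintype_card, hcard]
  have := dvd_card_of_index (G := D) (X := S) (n := 8) fun a => by
    rw [hfree, index_bot, hD]
  rw [hS] at this
  omega

/-- A group of order 6, 12 or 30 has a normal Sylow subgroup. -/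
theorem exists_sylow_count_one {A : Type*} [Group A] [Finite A]
    (h : Nat.card A = 6 ∨ Nat.card A = 12 ∨ Nat.card A = 30) :
    ∃ q a : ℕ, q.Prime ∧ 0 < a ∧ q ^ a ∣ Nat.card A ∧
      ((q = 3 ∧ a = 1) ∨ (q = 2 ∧ a = 2) ∨ (q = 5 ∧ a = 1)) ∧
      ∀ R R' : Subgroup A, Nat.card R = q ^ a → Nat.card R' = q ^ a → R = R' := by
  haveI : Fact (Nat.Prime 3) := ⟨Nat.prime_three⟩
  haveI : Fact (Nat.Prime 5) := ⟨Nat.prime_five⟩
  haveI : Fact (Nat.Prime 2) := ⟨Nat.prime_two⟩
  have huniq : ∀ q a : ℕ, q.Prime → ¬ q ^ (a + 1) ∣ Nat.card A → Nat.card (Sylow q A) = 1 →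
      ∀ R R' : Subgroup A, Nat.card R = q ^ a → Nat.card R' = q ^ a → R = R' := by
    intro q a hq hd h1 R R' hR hR'
    haveI : Fact q.Prime := ⟨hq⟩
    obtain ⟨P, hP⟩ := exists_sylow_eq hR hd
    obtain ⟨P', hP'⟩ := exists_sylow_eq hR' hd
    rw [← hP, ← hP', (Nat.card_eq_one_iff_unique.mp h1).1.elim P P']
  by_cases h3 : Nat.card (Sylow 3 A) = 1
  · refine ⟨3, 1, Nat.prime_three, one_pos, ?_, Or.inl ⟨rfl, rfl⟩,
      huniq 3 1 Nat.prime_three ?_ h3⟩ <;> rcases h with h | h | h <;> rw [h] <;> norm_num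
  have P3 : Sylow 3 A := default
  have hP3 : Nat.card (P3 : Subgroup A) = 3 := by
    rcases h with h | h | h
    · rw [card_sylow_eq (k := 1) (m := 2) P3 (by rw [h]; norm_num) (by norm_num), pow_one]
    · rw [card_sylow_eq (k := 1) (m := 4) P3 (by rw [h]; norm_num) (by norm_num), pow_one]
    · rw [card_sylow_eq (k := 1) (m := 10) P3 (by rw [h]; norm_num) (by norm_num), pow_one]
  have hm3 := card_sylow_modEq_one 3 A
  replace hm3 : Nat.card (Sylow 3 A) % 3 = 1 := hm3
  have hd3 : Nat.card (Sylow 3 A) * 3 ∣ Nat.card A := by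
    have h1 := (P3 : Subgroup A).card_mul_index
    rw [hP3, mul_comm] at h1
    rw [← h1]
    exact Nat.mul_dvd_mul_right P3.card_dvd_index 3
  have hcount := card_orderOf_eq_prime P3 hP3
  rcases h with h | h | h <;> rw [h] at hd3
  · have := Nat.le_of_dvd (by norm_num) hd3
    omega
  · have h4 : Nat.card (Sylow 3 A) = 4 := by
      have := Nat.le_of_dvd (by norm_num) hd3
      omega
    refine ⟨2, 2, Nat.prime_two, two_pos, by rw [h]; norm_num, Or.inr (Or.inl ⟨rfl, rfl⟩),
      fun R R' hR hR' => SetLike.coe_injective ?_⟩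
    have hall : ∀ T : Subgroup A, Nat.card T = 2 ^ 2 → (T : Set A) = {g | ¬ orderOf g = 3} := by
      intro T hT
      refine Set.eq_of_subset_of_ncard_le (fun g hg hg3 => ?_) ?_
      · have := Subgroup.orderOf_dvd_natCard T hg
        rw [hg3, hT] at this
        norm_num at this
      · have h8 : {g : A | orderOf g = 3}.ncard = 8 := by
          rw [← Nat.card_coe_set_eq]
          exact hcount.trans (by rw [h4])
        have hc := Set.ncard_add_ncard_compl {g : A | orderOf g = 3}
        rw [Set.compl_setOf, h8, h] at hc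
        rw [← Nat.card_coe_set_eq (T : Set A), SetLike.coe_sort_coe, hT]
        omega
    rw [hall R hR, hall R' hR']
  · refine ⟨5, 1, Nat.prime_five, one_pos, by rw [h]; norm_num, Or.inr (Or.inr ⟨rfl, rfl⟩),
      huniq 5 1 Nat.prime_five (by rw [h]; norm_num) ?_⟩
    have P5 : Sylow 5 A := default
    have hP5 : Nat.card (P5 : Subgroup A) = 5 := by
      rw [card_sylow_eq (k := 1) (m := 6) P5 (by rw [h]; norm_num) (by norm_num), pow_one]
    have hm5 := card_sylow_modEq_one 5 A
    replace hm5 : Nat.card (Sylow 5 A) % 5 = 1 := hm5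
    have hcount5 := card_orderOf_eq_prime P5 hP5
    have hsum := card_add_card_le (G := A) (p := fun g => orderOf g = 3)
      (q := fun g => orderOf g = 5) (fun g a b => by omega) (r := fun _ => True)
      (fun g _ => trivial) (fun g _ => trivial)
    rw [Nat.card_congr (Equiv.subtypeUnivEquiv fun _ => trivial), h, hcount, hcount5] at hsum
    have := Nat.le_of_dvd (by norm_num) hd3
    omega

/-- A subgroup containing the normalizer of an element of order 11. -/
theorem over_normalizer_eleven (hG : IsM12 G) {x : G} (hx : orderOf x = 11) {M : Subgroup G}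
    (hNM : normalizer ((zpowers x : Subgroup G) : Set G) ≤ M) :
    ∃ m, m % 11 = 1 ∧ Nat.card (normalizer ((zpowers x : Subgroup G) : Set G)) * m = Nat.card M ∧
      m * M.index = (normalizer ((zpowers x : Subgroup G) : Set G)).index := by
  haveI : Fact (Nat.Prime 11) := ⟨by norm_num⟩
  refine ⟨_, relIndex_normalizer_mod hx (hNM (le_normalizer (mem_zpowers x)))
    (by rw [hG.2]; norm_num), card_mul_relIndex_eq hNM, relIndex_mul_index hNM⟩

/-- There are not 144 Sylow 11-subgroups. -/
theorem not_144 (hG : IsM12 G) [Fact (Nat.Prime 11)] : Nat.card (Sylow 11 G) ≠ 144 := by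
  intro hn
  haveI := hG.1
  obtain ⟨x, hx⟩ := exists_prime_orderOf_dvd_card' (G := G) 11 (by rw [hG.2]; norm_num)
  obtain ⟨e, P, hP, hPc, hC, he, he1, ⟨c, hc⟩, hN, hmul⟩ :=
    normalizer_prime hG (p := 11) (m := 8640) (by norm_num) (by norm_num) hx
  set N := normalizer ((zpowers x : Subgroup G) : Set G) with hNdef
  set C := centralizer ({x} : Set G) with hCdef
  rw [hn, hc] at hmul
  have hN660 : Nat.card N = 660 := by rw [hN, hc]; omega
  have hc' : c = 6 ∨ c = 12 ∨ c = 30 := by
    have h1 : e ∈ Nat.divisors 10 := Nat.mem_divisors.mpr ⟨he, by norm_num⟩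
    rw [show Nat.divisors 10 = {1, 2, 5, 10} by decide] at h1
    simp only [Finset.mem_insert, Finset.mem_singleton] at h1
    rcases h1 with rfl | rfl | rfl | rfl <;> omega
  -- the complement of the Sylow subgroup in its centralizer
  have hPC : zpowers x ≤ C := zpowers_le.mpr (mem_centralizer_singleton_iff.mpr rfl)
  have hC11 : ¬ 11 ^ (1 + 1) ∣ Nat.card C := fun h => by
    have := h.trans (card_subgroup_dvd_card C)
    rw [hG.2] at this
    norm_num at this
  obtain ⟨PC, hPCeq⟩ := exists_sylow_eq (G := C) (p := 11) (H := (zpowers x).subgroupOf C) (k := 1)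
    (by rw [card_subgroupOf, inf_eq_left.mpr hPC, Nat.card_zpowers, hx, pow_one]) hC11
  have hNC : normalizer ((PC : Subgroup C) : Set C) ≤ centralizer ((PC : Subgroup C) : Set C) := by
    intro g _
    refine mem_centralizer_iff.mpr fun v hv => Subtype.ext ?_
    rw [hPCeq, SetLike.mem_coe, mem_subgroupOf, mem_zpowers_iff] at hv
    obtain ⟨n, hn'⟩ := hv
    show (v : G) * g = g * v
    rw [← hn']
    exact ((show Commute x (g : G) from (mem_centralizer_singleton_iff.mp g.2).symm).zpow_left n).eq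
  have hcompl := MonoidHom.ker_transferSylow_isComplement' PC hNC
  set K0 := (MonoidHom.transferSylow PC hNC).ker with hK0
  have hcK := hcompl.card_mul
  rw [hPCeq, card_subgroupOf, inf_eq_left.mpr hPC, Nat.card_zpowers, hx, hc] at hcK
  have hK0c : Nat.card K0 = c := by omega
  obtain ⟨q, a, hq, ha, hqa, hqa', huniq⟩ := exists_sylow_count_one (A := K0) (by omega)
  haveI : Fact q.Prime := ⟨hq⟩
  obtain ⟨R0, hR0⟩ := Sylow.exists_subgroup_card_pow_prime q hqa
  set R := (R0.map K0.subtype).map C.subtype with hR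
  have hRc : Nat.card R = q ^ a := by
    rw [hR, card_map_of_injective C.subtype_injective,
      card_map_of_injective K0.subtype_injective, hR0]
  have hinK : ∀ g : C, g ^ c = 1 → g ∈ K0 := by
    intro g hg
    rw [← QuotientGroup.eq_one_iff (N := K0), ← orderOf_eq_one_iff]
    refine Nat.eq_one_of_dvd_coprimes (a := c) (b := 11) ?_ ?_ ?_
    · rcases hc' with rfl | rfl | rfl <;> norm_num
    · refine orderOf_dvd_of_pow_eq_one ?_
      rw [← QuotientGroup.mk_pow, hg]; rfl
    · have hidx : K0.index = 11 := by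
        have := K0.card_mul_index
        rw [hK0c, hc] at this
        rcases hc' with rfl | rfl | rfl <;> omega
      refine (_root_.orderOf_dvd_natCard _).trans (dvd_of_eq ?_)
      rw [← index_eq_card, hidx]
  have hCN : C ≤ N := centralizer_le_normalizer_zpowers x
  have hNnorm : ∀ g ∈ N, ∀ v ∈ C, g * v * g⁻¹ ∈ C := by
    intro g hg v hv
    obtain ⟨n, hn'⟩ := mem_zpowers_iff.mp
      ((mem_normalizer_iff.mp (N.inv_mem hg) x).mp (mem_zpowers x))
    rw [inv_inv] at hn'
    refine mem_centralizer_singleton_iff.mpr ?_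
    have hcm : Commute v (x ^ n) :=
      (show Commute v x from mem_centralizer_singleton_iff.mp hv).zpow_right n
    calc g * v * g⁻¹ * x = g * (v * (g⁻¹ * x * g)) * g⁻¹ := by group
      _ = g * ((g⁻¹ * x * g) * v) * g⁻¹ := by rw [← hn', hcm.eq]
      _ = x * (g * v * g⁻¹) := by group
  have hNR : N ≤ normalizer (R : Set G) := by
    intro g hg
    rw [mem_normalizer_iff_map_conj_eq]
    have hle : R.map (MulAut.conj g).toMonoidHom ≤ K0.map C.subtype := by
      rintro _ ⟨_, ⟨v, ⟨r, -, rfl⟩, rfl⟩, rfl⟩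
      refine ⟨⟨g * (r : C) * g⁻¹, hNnorm g hg _ (r : C).2⟩, hinK _ (Subtype.ext ?_), rfl⟩
      rw [Subgroup.coe_pow, conj_pow, ← Subgroup.coe_pow, ← hK0c, ← Subgroup.coe_pow,
        pow_card_eq_one']
      simp
    have hRle : R ≤ K0.map C.subtype := map_mono (map_subtype_le R0)
    set e1 := K0.equivMapOfInjective C.subtype C.subtype_injective
    have key : ∀ T : Subgroup G, T ≤ K0.map C.subtype → Nat.card T = q ^ a → T = R := by
      intro T hT hTc
      have hback : ∀ T : Subgroup G, T ≤ K0.map C.subtype →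
          ((((T.comap C.subtype).comap K0.subtype)).map K0.subtype).map C.subtype = T := by
        intro T hT
        ext v
        constructor
        · rintro ⟨_, ⟨w, hw, rfl⟩, rfl⟩
          exact hw
        · intro hv
          obtain ⟨w, hw, rfl⟩ := hT hv
          exact ⟨w, ⟨⟨w, hw⟩, hv, rfl⟩, rfl⟩
      have hcard : Nat.card ((T.comap C.subtype).comap K0.subtype) = q ^ a := by
        rw [← hTc]
        conv_rhs => rw [← hback T hT]
        rw [card_map_of_injective C.subtype_injective, card_map_of_injective K0.subtype_injective]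
      rw [hR, ← hback T hT, huniq _ R0 hcard hR0]
    exact key _ hle (by rw [← hRc]; exact card_map_of_injective (MulAut.conj g).injective)
  set M := normalizer (R : Set G) with hM
  have hMt : M ≠ ⊤ := by
    refine normalizer_ne_top (fun hb => ?_) (fun ht => ?_)
    · rw [hb, card_bot] at hRc
      rcases hqa' with ⟨rfl, rfl⟩ | ⟨rfl, rfl⟩ | ⟨rfl, rfl⟩ <;> norm_num at hRc
    · rw [ht, card_top, hG.2] at hRc
      rcases hqa' with ⟨rfl, rfl⟩ | ⟨rfl, rfl⟩ | ⟨rfl, rfl⟩ <;> norm_num at hRc
  obtain ⟨m, hm, hmc, -⟩ := over_normalizer_eleven hG hx (hNR : N ≤ M)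
  rw [← hNdef, hN660] at hmc
  have hM144 : m ∣ 144 := by
    refine Nat.dvd_of_mul_dvd_mul_left (by norm_num : 0 < 660) ?_
    rw [hmc, show 660 * 144 = 95040 by norm_num, ← hG.2]
    exact card_subgroup_dvd_card M
  have hmem : m ∈ (Nat.divisors 144).filter (fun d => d % 11 = 1) :=
    Finset.mem_filter.mpr ⟨Nat.mem_divisors.mpr ⟨hM144, by norm_num⟩, hm⟩
  rw [show (Nat.divisors 144).filter (fun d => d % 11 = 1) = {1, 12, 144} by decide +kernel]
    at hmem
  simp only [Finset.mem_insert, Finset.mem_singleton] at hmem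
  rcases hmem with rfl | rfl | rfl
  · have hsucc : ∀ h : q ^ (a + 1) ∣ Nat.card G, q ^ (a + 1) ∣ Nat.card M := fun h =>
      Sylow.prime_pow_dvd_card_normalizer h hRc
    rw [mul_one] at hmc
    rw [hG.2, ← hmc] at hsucc
    rcases hqa' with ⟨rfl, rfl⟩ | ⟨rfl, rfl⟩ | ⟨rfl, rfl⟩
    · exact absurd (hsucc (by norm_num)) (by norm_num)
    · exact absurd (hsucc (by norm_num)) (by norm_num)
    · obtain ⟨Q, hQ⟩ := exists_sylow_eq (G := G) (p := 5) (H := R) (k := 1) hRc
        (by rw [hG.2]; norm_num)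
      have hq' := card_normalizer_sylow_mul Q
      rw [hQ, ← hM, ← hmc, hG.2] at hq'
      have h5 := card_sylow_modEq_one 5 G
      replace h5 : Nat.card (Sylow 5 G) % 5 = 1 := h5
      omega
  · have hidx := index_mul hG M
    rw [← hmc] at hidx
    have := centralizer_of_index_twelve hG (H := M) (by omega) hx
    rw [← hCdef, hc] at this
    omega
  · exact hMt (eq_top_of_card hG hmc.symm)

/-- There are not 540 Sylow 11-subgroups. -/
theorem not_540 (hG : IsM12 G) [Fact (Nat.Prime 11)] : Nat.card (Sylow 11 G) ≠ 540 := by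
  intro hn
  haveI := hG.1
  haveI : Fact (Nat.Prime 2) := ⟨Nat.prime_two⟩
  obtain ⟨x, hx⟩ := exists_prime_orderOf_dvd_card' (G := G) 11 (by rw [hG.2]; norm_num)
  obtain ⟨e, P, hP, hPc, hC, he, he1, ⟨c, hc⟩, hN, hmul⟩ :=
    normalizer_prime hG (p := 11) (m := 8640) (by norm_num) (by norm_num) hx
  set N := normalizer ((zpowers x : Subgroup G) : Set G) with hNdef
  set C := centralizer ({x} : Set G) with hCdef
  rw [hn, hc] at hmul
  have h1 : e ∈ Nat.divisors 10 := Nat.mem_divisors.mpr ⟨he, by norm_num⟩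
  rw [show Nat.divisors 10 = {1, 2, 5, 10} by decide] at h1
  simp only [Finset.mem_insert, Finset.mem_singleton] at h1
  have hN176 : Nat.card N = 176 := by rw [hN, hc]; omega
  have hC88 : Nat.card C = 88 := by
    rw [hc]; rcases h1 with rfl | rfl | rfl | rfl <;> omega
  obtain ⟨S0, hS0⟩ := Sylow.exists_subgroup_card_pow_prime (G := N) 2 (n := 4)
    (by rw [hN176]; norm_num)
  set S := S0.map N.subtype with hSdef
  have hS : Nat.card S = 16 := by
    rw [hSdef, card_map_of_injective N.subtype_injective, hS0]; norm_num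
  have hSN : S ≤ N := map_subtype_le S0
  have hCN : C ≤ N := centralizer_le_normalizer_zpowers x
  have hrel : C.relIndex N = 2 := by
    have := card_mul_relIndex_eq hCN
    rw [hC88, hN176] at this
    omega
  set K := S ⊓ C with hKdef
  have hK : Nat.card K = 8 := by
    have h2 : Nat.card K ∣ Nat.gcd 16 88 :=
      Nat.dvd_gcd (hS ▸ card_dvd_of_le inf_le_left) (hC88 ▸ card_dvd_of_le inf_le_right)
    have h3 : C.relIndex S ≤ 2 := hrel ▸ relIndex_le_of_le_right hSN (by omega)
    have h4 := relIndex_mul_card_inf C S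
    rw [inf_comm, ← hKdef, hS] at h4
    have h5 := Nat.le_of_dvd (by norm_num) h2
    rw [show Nat.gcd 16 88 = 8 by norm_num] at h5
    nlinarith
  have hKx : ∀ d ∈ K, Commute x d := fun d hd =>
    (mem_centralizer_singleton_iff.mp hd.2).symm
  have hSK : S ≤ normalizer (K : Set G) := by
    refine fun g hg => mem_normalizer_iff.mpr fun v => ?_
    have key : ∀ g ∈ S, ∀ v ∈ K, g * v * g⁻¹ ∈ K := by
      intro g hg v hv
      refine ⟨S.mul_mem (S.mul_mem hg hv.1) (S.inv_mem hg), ?_⟩
      obtain ⟨n, hn'⟩ := mem_zpowers_iff.mp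
        ((mem_normalizer_iff.mp (N.inv_mem (hSN hg)) x).mp (mem_zpowers x))
      rw [inv_inv] at hn'
      refine mem_centralizer_singleton_iff.mpr ?_
      have hcm : Commute v (x ^ n) := (hKx v hv).symm.zpow_right n
      calc g * v * g⁻¹ * x = g * (v * (g⁻¹ * x * g)) * g⁻¹ := by group
        _ = g * ((g⁻¹ * x * g) * v) * g⁻¹ := by rw [← hn', hcm.eq]
        _ = x * (g * v * g⁻¹) := by group
    refine ⟨key g hg v, fun h => ?_⟩
    have := key g⁻¹ (S.inv_mem hg) _ h
    rwa [show g⁻¹ * (g * v * g⁻¹) * g⁻¹⁻¹ = v by group] at this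
  have hcentral : ∀ w ∈ K, w ≠ 1 → (∀ s ∈ S, Commute s w) → centralizer ({w} : Set G) ≤ N := by
    intro w hw hw1 hws
    set M := centralizer ({w} : Set G)
    have hsup : zpowers x ⊔ S = N := by
      refine eq_of_le_of_card_ge (sup_le le_normalizer hSN) ?_
      rw [hN176]
      refine Nat.le_of_dvd Nat.card_pos ?_
      refine (Nat.Coprime.mul_dvd_of_dvd_of_dvd (by norm_num : Nat.Coprime 11 16) ?_ ?_ :
        11 * 16 ∣ _)
      · rw [← hx, ← Nat.card_zpowers]; exact card_dvd_of_le le_sup_left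
      · rw [← hS]; exact card_dvd_of_le le_sup_right
    have hNM : N ≤ M := by
      rw [← hsup, sup_le_iff, zpowers_le]
      exact ⟨mem_centralizer_singleton_iff.mpr (hKx w hw).eq,
        fun s hs => mem_centralizer_singleton_iff.mpr (hws s hs).eq⟩
    obtain ⟨m, hm, hmc, -⟩ := over_normalizer_eleven hG hx (hNM : N ≤ M)
    rw [← hNdef, hN176] at hmc
    have hm540 : m ∣ 540 := by
      refine Nat.dvd_of_mul_dvd_mul_left (by norm_num : 0 < 176) ?_
      rw [hmc, show 176 * 540 = 95040 by norm_num, ← hG.2]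
      exact card_subgroup_dvd_card M
    have hmem : m ∈ (Nat.divisors 540).filter (fun d => d % 11 = 1) :=
      Finset.mem_filter.mpr ⟨Nat.mem_divisors.mpr ⟨hm540, by norm_num⟩, hm⟩
    rw [show (Nat.divisors 540).filter (fun d => d % 11 = 1) = {1, 12, 45, 540} by decide +kernel]
      at hmem
    simp only [Finset.mem_insert, Finset.mem_singleton] at hmem
    have hidx := index_mul hG M
    rw [← hmc] at hidx
    rcases hmem with rfl | rfl | rfl | rfl
    · exact (eq_of_le_of_card_ge hNM (by omega)).ge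
    · exact (false_of_index_fortyFive hG (M := M) (by omega) hx hNM hK hKx).elim
    · have := centralizer_of_index_twelve hG (H := M) (by omega) hx
      rw [← hCdef, hC88] at this
      omega
    · exact (centralizer_ne_top (eleven_not_comm hG) hw1 (eq_top_of_card hG hmc.symm)).elim
  -- a larger 2-group normalizing `S`
  obtain ⟨u0, hu0, hu0S⟩ : ∃ u ∈ normalizer (S : Set G), u ∉ S ∧ orderOf u ∣ 2 ^ 6 := by
    have h32 : 2 ^ (4 + 1) ∣ Nat.card (normalizer (S : Set G)) :=
      Sylow.prime_pow_dvd_card_normalizer (by rw [hG.2]; norm_num) (by rw [hS]; norm_num)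
    obtain ⟨T0, hT0⟩ := Sylow.exists_subgroup_card_pow_prime 2 h32
    by_contra hno
    push Not at hno
    have hle : T0.map (normalizer (S : Set G)).subtype ≤ S := by
      rintro _ ⟨v, hv, rfl⟩
      by_contra hvS
      refine hno v v.2 hvS ?_
      have := Subgroup.orderOf_dvd_natCard T0 hv
      rw [hT0, ← Subgroup.orderOf_coe v] at this
      exact this.trans (by norm_num)
    have := card_le_of_le hle
    rw [card_map_of_injective (normalizer (S : Set G)).subtype_injective, hT0, hS] at this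
    norm_num at this
  obtain ⟨hu0S, hu0o⟩ := hu0S
  -- the least power of `u0` outside `S`
  obtain ⟨u, hu, huS, hu2⟩ : ∃ u ∈ normalizer (S : Set G), u ∉ S ∧ u ^ 2 ∈ S := by
    have hex : ∃ j, u0 ^ 2 ^ j ∈ S := ⟨6, by rw [orderOf_dvd_iff_pow_eq_one.mp hu0o]; exact S.one_mem⟩
    classical
    have hj := Nat.find_spec hex
    obtain ⟨i, hi⟩ : ∃ i, Nat.find hex = i + 1 := by
      refine ⟨Nat.find hex - 1, ?_⟩
      have : Nat.find hex ≠ 0 := fun h0 => hu0S (by rw [h0] at hj; simpa using hj)
      omega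
    refine ⟨u0 ^ 2 ^ i, pow_mem hu0 _, Nat.find_min hex (by omega), ?_⟩
    rw [← pow_mul, ← pow_succ, ← hi]
    exact hj
  have huSS : ∀ v ∈ S, u * v * u⁻¹ ∈ S := fun v hv => (mem_normalizer_iff.mp hu v).mp hv
  -- an involution of `K`, central in `S` and fixed by `u`
  let I : Subgroup G := K ⊓ K.map (MulAut.conj u).toMonoidHom
  have hIS : S ≤ normalizer (I : Set G) := by
    have h2 : S ≤ normalizer ((K.map (MulAut.conj u).toMonoidHom : Subgroup G) : Set G) := by
      have key : ∀ g ∈ S, ∀ v ∈ K.map (MulAut.conj u).toMonoidHom,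
          g * v * g⁻¹ ∈ K.map (MulAut.conj u).toMonoidHom := by
        rintro g hg _ ⟨v, hv, rfl⟩
        have hu' : u⁻¹ * g * u ∈ S := (mem_normalizer_iff''.mp hu g).mp hg
        refine ⟨(u⁻¹ * g * u) * v * (u⁻¹ * g * u)⁻¹, (mem_normalizer_iff.mp (hSK hu') v).mp hv, ?_⟩
        show u * _ * u⁻¹ = g * (u * v * u⁻¹) * g⁻¹
        group
      refine fun g hg => mem_normalizer_iff.mpr fun v => ⟨key g hg v, fun h => ?_⟩
      have := key g⁻¹ (S.inv_mem hg) _ h
      rwa [show g⁻¹ * (g * v * g⁻¹) * g⁻¹⁻¹ = v by group] at this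
    intro g hg
    refine mem_normalizer_iff.mpr fun v => ?_
    exact and_congr (mem_normalizer_iff.mp (hSK hg) v) (mem_normalizer_iff.mp (h2 hg) v)
  have hIne : I ≠ ⊥ := by
    intro hbot
    have h2 : Nat.card (K.map (MulAut.conj u).toMonoidHom) = 8 := by
      rw [← hK]; exact card_map_of_injective (MulAut.conj u).injective
    have h3 : K.map (MulAut.conj u).toMonoidHom ≤ S := by
      rintro _ ⟨v, hv, rfl⟩
      exact huSS v hv.1
    have h4 := relIndex_mul_card_inf (K.map (MulAut.conj u).toMonoidHom) K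
    rw [inf_comm] at h4
    change _ * Nat.card I = _ at h4
    rw [hbot, card_bot, mul_one, hK] at h4
    have h5 : K.relIndex S * Nat.card (K ⊓ S : Subgroup G) = Nat.card S := relIndex_mul_card_inf K S
    rw [inf_eq_left.mpr (inf_le_left : K ≤ S), hK, hS] at h5
    have h6 := relIndex_le_of_le_right (H := K.map (MulAut.conj u).toMonoidHom)
      (inf_le_left : K ≤ S) (by
        have := card_mul_relIndex_eq h3
        intro h0
        rw [h0, h2, hS] at this
        omega)
    have h7 := card_mul_relIndex_eq h3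
    rw [h2, hS] at h7
    rw [← hKdef] at h6
    omega
  -- central involution in `I`
  obtain ⟨w, hwI, hw1, hw2, hws⟩ : ∃ w ∈ I, w ≠ 1 ∧ w ^ 2 = 1 ∧ ∀ s ∈ S, Commute s w := by
    letI : MulAction S I :=
      { smul := fun g v => ⟨g * v * (g : G)⁻¹, (mem_normalizer_iff.mp (hIS g.2) _).mp v.2⟩
        one_smul := fun v => Subtype.ext (by show (1 : G) * v * (1 : G)⁻¹ = v; simp)
        mul_smul := fun g h v => Subtype.ext (by
          show ((g : G) * h) * v * ((g : G) * h)⁻¹ = g * (h * v * (h : G)⁻¹) * (g : G)⁻¹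
          group) }
    have hSp : IsPGroup 2 S := IsPGroup.of_card (n := 4) (by rw [hS]; norm_num)
    have hI2 : 2 ∣ Nat.card I := by
      have h8 : Nat.card I ∣ 2 ^ 3 := by
        rw [show (2 : ℕ) ^ 3 = 8 by norm_num, ← hK]; exact card_dvd_of_le inf_le_left
      obtain ⟨k, -, hk⟩ := (Nat.dvd_prime_pow Nat.prime_two).mp h8
      rw [hk]
      refine dvd_pow_self 2 fun hk0 => hIne ?_
      exact eq_bot_of_card_eq _ (by rw [hk, hk0, pow_zero])
    have hfp : 2 ∣ Nat.card (fixedPoints S I) :=
      Nat.modEq_zero_iff_dvd.mp ((hSp.card_modEq_card_fixedPoints I).symm.trans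
        (Nat.modEq_zero_iff_dvd.mpr hI2))
    haveI : Nontrivial (fixedPoints S I) := by
      haveI : Nonempty (fixedPoints S I) :=
        ⟨⟨1, fun g => Subtype.ext (by show (g : G) * 1 * (g : G)⁻¹ = 1; simp)⟩⟩
      rw [← Finite.one_lt_card_iff_nontrivial]
      have := Nat.le_of_dvd Nat.card_pos hfp
      omega
    obtain ⟨⟨v, hv⟩, hne⟩ := exists_ne
      (⟨1, fun g => Subtype.ext (by show (g : G) * 1 * (g : G)⁻¹ = 1; simp)⟩ : fixedPoints S I)
    have hv1 : (v : G) ≠ 1 := fun h => hne (Subtype.ext (Subtype.ext h))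
    have hvc : ∀ s ∈ S, Commute s (v : G) := fun s hs =>
      mul_inv_eq_iff_eq_mul.mp (congrArg Subtype.val (hv ⟨s, hs⟩))
    have hord : orderOf (v : G) ∣ 2 ^ 4 := by
      rw [show (2 : ℕ) ^ 4 = 16 by norm_num, ← hS]
      exact Subgroup.orderOf_dvd_natCard S v.2.1.1
    obtain ⟨k, -, hk⟩ := (Nat.dvd_prime_pow Nat.prime_two).mp hord
    have h2 : 2 ∣ orderOf (v : G) := by
      rw [hk]
      refine dvd_pow_self 2 fun hk0 => hv1 ?_
      rwa [hk0, pow_zero, orderOf_eq_one_iff] at hk
    have ho := orderOf_pow_orderOf_div (orderOf_pos (v : G)).ne' h2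
    refine ⟨(v : G) ^ (orderOf (v : G) / 2), pow_mem v.2 _, fun h => ?_, ?_,
      fun s hs => (hvc s hs).pow_right _⟩
    · rw [h, orderOf_one] at ho; omega
    · conv_lhs => arg 2; rw [← ho]
      rw [pow_orderOf_eq_one]
  have hwS : w ∈ S := hwI.1.1
  have hconjI : ∀ v ∈ I, (∀ s ∈ S, Commute s v) → u * v * u⁻¹ ∈ I := by
    intro v hv hvs
    obtain ⟨v', hv', hvv⟩ := hv.2
    change u * v' * u⁻¹ = v at hvv
    refine ⟨?_, ⟨v, hv.1, rfl⟩⟩
    have h : u * v * u⁻¹ = u ^ 2 * v' * (u ^ 2)⁻¹ := by rw [← hvv, pow_two]; group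
    rw [h]
    exact (mem_normalizer_iff.mp (hSK hu2) v').mp hv'
  have hconjc : ∀ v, (∀ s ∈ S, Commute s v) → ∀ s ∈ S, Commute s (u * v * u⁻¹) := by
    intro v hvs s hs
    have h := hvs _ ((mem_normalizer_iff''.mp hu s).mp hs)
    show s * (u * v * u⁻¹) = u * v * u⁻¹ * s
    calc s * (u * v * u⁻¹) = u * ((u⁻¹ * s * u) * v) * u⁻¹ := by group
      _ = u * (v * (u⁻¹ * s * u)) * u⁻¹ := by rw [h.eq]
      _ = u * v * u⁻¹ * s := by group
  obtain ⟨z, hzK, hz1, hzs, hzu⟩ : ∃ z ∈ K, z ≠ 1 ∧ (∀ s ∈ S, Commute s z) ∧ Commute u z := by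
    set w' := u * w * u⁻¹ with hw'
    have hback : u * w' * u⁻¹ = w := by
      rw [hw', show u * (u * w * u⁻¹) * u⁻¹ = u ^ 2 * w * (u ^ 2)⁻¹ by rw [pow_two]; group,
        (hws _ hu2).eq, mul_inv_cancel_right]
    by_cases hww : w' = w
    · exact ⟨w, hwI.1, hw1, hws, mul_inv_eq_iff_eq_mul.mp hww⟩
    · have hc' := hconjc w hws
      refine ⟨w * w', K.mul_mem hwI.1 (hconjI w hwI hws).1, fun h => hww ?_,
        fun s hs => (hws s hs).mul_right (hc' s hs), ?_⟩
      · rw [eq_inv_of_mul_eq_one_right h]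
        exact (eq_inv_of_mul_eq_one_left (by rw [← pow_two, hw2])).symm
      · refine mul_inv_eq_iff_eq_mul.mp ?_
        calc u * (w * w') * u⁻¹ = w' * (u * w' * u⁻¹) := by rw [hw']; group
          _ = w' * w := by rw [hback]
          _ = w * w' := (hc' w hwS).eq.symm
  have huN : u ∈ N := hcentral z hzK hz1 hzs (mem_centralizer_singleton_iff.mpr hzu.eq)
  -- a 2-subgroup of `N` properly containing `S`
  set T := S ⊔ zpowers u with hT
  have hTN : T ≤ N := sup_le hSN (zpowers_le.mpr huN)
  have huS2 : IsPGroup 2 (zpowers u) := by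
    have h1 : orderOf (u ^ 2) ∣ 2 ^ 4 := by
      rw [show (2 : ℕ) ^ 4 = 16 by norm_num, ← hS]
      exact Subgroup.orderOf_dvd_natCard S hu2
    have h2 : orderOf u ∣ 2 ^ 5 := by
      refine orderOf_dvd_of_pow_eq_one ?_
      rw [pow_succ', pow_mul]
      exact orderOf_dvd_iff_pow_eq_one.mp h1
    obtain ⟨k, -, hk⟩ := (Nat.dvd_prime_pow Nat.prime_two).mp h2
    exact IsPGroup.of_card (n := k) (by rw [Nat.card_zpowers, hk])
  have hTp : IsPGroup 2 T :=
    (IsPGroup.of_card (p := 2) (n := 4) (by rw [hS]; norm_num)).to_sup_of_normal_left' huS2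
      (zpowers_le.mpr hu)
  obtain ⟨k, hk⟩ := hTp.exists_card_eq
  have h176 : 2 ^ k ∣ 11 * 2 ^ 4 := by
    rw [← hk, show 11 * 2 ^ 4 = 176 by norm_num, ← hN176]; exact card_dvd_of_le hTN
  have h24 : 2 ^ k ∣ 2 ^ 4 :=
    (Nat.Coprime.pow_left k (by norm_num : Nat.Coprime 2 11)).dvd_of_dvd_mul_left h176
  have hle : Nat.card T ≤ Nat.card S := by
    rw [hS, hk]; exact Nat.le_of_dvd (by norm_num) h24
  exact huS ((eq_of_le_of_card_ge (le_sup_left : S ≤ T) hle).symm ▸
    (le_sup_right : zpowers u ≤ T) (mem_zpowers u))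

/-- There are 1728 Sylow 11-subgroups. -/
theorem card_sylow_eleven (hG : IsM12 G) [Fact (Nat.Prime 11)] :
    Nat.card (Sylow 11 G) = 1728 := by
  haveI := hG.1
  have hmem := card_sylow_mem (eleven_not_comm hG) (p := 11) (k := 1) (m := 8640)
    (by rw [hG.2]; norm_num) (by norm_num) one_ne_zero
  rw [show (Nat.divisors 8640).filter (fun d => d % 11 = 1 ∧ d ≠ 1) =
    {12, 45, 144, 320, 540, 1728} by decide +kernel] at hmem
  simp only [Finset.mem_insert, Finset.mem_singleton] at hmem
  obtain ⟨x, hx⟩ := exists_prime_orderOf_dvd_card' (G := G) 11 (by rw [hG.2]; norm_num)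
  obtain ⟨e, P, hP, hPc, hC, he, he1, ⟨c, hc⟩, hN, hmul⟩ :=
    normalizer_prime hG (p := 11) (m := 8640) (by norm_num) (by norm_num) hx
  have h1 : e ∈ Nat.divisors 10 := Nat.mem_divisors.mpr ⟨he, by norm_num⟩
  rw [show Nat.divisors 10 = {1, 2, 5, 10} by decide] at h1
  simp only [Finset.mem_insert, Finset.mem_singleton] at h1
  rw [hc] at hmul
  rcases hmem with h | h | h | h | h | h
  · exfalso
    have hb := card_centralizer_dvd_of_card_sylow (eleven_not_comm hG) P hPc (k := 1) (by rw [h])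
    rw [← hC, hc] at hb
    have := Nat.le_of_dvd (by norm_num) hb
    rw [h] at hmul
    simp only [Nat.factorial_one, mul_one] at this
    rcases h1 with rfl | rfl | rfl | rfl <;> omega
  · exfalso
    have hb := card_centralizer_dvd_of_card_sylow (eleven_not_comm hG) P hPc (k := 4) (by rw [h])
    rw [← hC, hc, show Nat.factorial 4 = 24 by rfl] at hb
    have := Nat.le_of_dvd (by norm_num) hb
    rw [h] at hmul
    rcases h1 with rfl | rfl | rfl | rfl <;> omega
  · exact absurd h (not_144 hG)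
  · exfalso
    rw [h] at hmul
    rcases h1 with rfl | rfl | rfl | rfl <;> omega
  · exact absurd h (not_540 hG)
  · exact h

/-- Elements of order 11 are self-centralizing. -/
theorem card_centralizer_eleven (hG : IsM12 G) {x : G} (hx : orderOf x = 11) :
    Nat.card (centralizer ({x} : Set G)) = 11 := by
  haveI : Fact (Nat.Prime 11) := ⟨by norm_num⟩
  obtain ⟨e, P, hP, hPc, hC, he, he1, ⟨c, hc⟩, hN, hmul⟩ :=
    normalizer_prime hG (p := 11) (m := 8640) (by norm_num) (by norm_num) hx
  rw [card_sylow_eleven hG, hc] at hmul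
  have h1 : e ∈ Nat.divisors 10 := Nat.mem_divisors.mpr ⟨he, by norm_num⟩
  rw [show Nat.divisors 10 = {1, 2, 5, 10} by decide] at h1
  simp only [Finset.mem_insert, Finset.mem_singleton] at h1
  rw [hc]
  rcases h1 with rfl | rfl | rfl | rfl <;> omega

/-- The normalizer of a subgroup of order 11 has order 55. -/
theorem card_normalizer_eleven (hG : IsM12 G) {x : G} (hx : orderOf x = 11) :
    Nat.card (normalizer ((zpowers x : Subgroup G) : Set G)) = 55 := by
  haveI : Fact (Nat.Prime 11) := ⟨by norm_num⟩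
  obtain ⟨e, P, hP, hPc, hC, he, he1, -, hN, hmul⟩ :=
    normalizer_prime hG (p := 11) (m := 8640) (by norm_num) (by norm_num) hx
  rw [← hN, card_sylow_eleven hG] at hmul
  omega

/-- A centralizer contains an element of order 11 only if it is the centralizer of one. -/
theorem not_eleven_dvd_centralizer (hG : IsM12 G) {g : G} (hg : g ≠ 1) (h11 : ¬ orderOf g = 11) :
    ¬ 11 ∣ Nat.card (centralizer ({g} : Set G)) := by
  intro h
  haveI : Fact (Nat.Prime 11) := ⟨by norm_num⟩
  obtain ⟨x, hx, hx11⟩ := exists_mem_orderOf 11 h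
  have hc := card_centralizer_eleven hG hx11
  have hmem : g ∈ centralizer ({x} : Set G) :=
    mem_centralizer_singleton_iff.mpr (mem_centralizer_singleton_iff.mp hx).symm
  have := Subgroup.orderOf_dvd_natCard _ hmem
  rw [hc] at this
  rcases (Nat.dvd_prime (by norm_num)).mp this with h1 | h1
  · exact hg (orderOf_eq_one_iff.mp h1)
  · exact h11 h1

/-- An element of order 11 acts fixed-point-freely on the groups of order prime to 11 it
normalizes. -/
theorem card_eq_one_of_normalized (hG : IsM12 G) {x : G} (hx : orderOf x = 11) {q a : ℕ}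
    (hq : q.Prime) {R : Subgroup G} (hR : Nat.card R = q ^ a) (hq11 : q ≠ 11)
    (hn : x ∈ normalizer (R : Set G)) : a = 0 := by
  haveI : Fact (Nat.Prime 11) := ⟨by norm_num⟩
  have h := card_inf_centralizer_mod hx hn
  have hco : (Nat.card R).Coprime 11 := by
    rw [hR]
    exact Nat.Coprime.pow_left a ((Nat.coprime_primes hq (by norm_num)).mpr hq11)
  have h1 : Nat.card (R ⊓ centralizer ({x} : Set G) : Subgroup G) = 1 :=
    Nat.eq_one_of_dvd_coprimes hco (card_dvd_of_le inf_le_left)
      (card_centralizer_eleven hG hx ▸ card_dvd_of_le inf_le_right)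
  rw [h1, hR] at h
  have hdvd : q ^ a ∣ 95040 := by rw [← hR, ← hG.2]; exact card_subgroup_dvd_card R
  by_contra ha
  have hq' : q ∈ Nat.primeFactors 95040 :=
    Nat.mem_primeFactors.mpr ⟨hq, (dvd_pow_self q ha).trans hdvd, by norm_num⟩
  have h235 : q = 2 ∨ q = 3 ∨ q = 5 := by
    have hprod : q ∣ 2 ^ 6 * (3 ^ 3 * (5 * 11)) := by
      norm_num only
      exact (dvd_pow_self q ha).trans hdvd
    rcases hq.dvd_mul.mp hprod with h | h
    · exact Or.inl ((Nat.prime_dvd_prime_iff_eq hq Nat.prime_two).mp (hq.dvd_of_dvd_pow h))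
    rcases hq.dvd_mul.mp h with h | h
    · exact Or.inr (Or.inl ((Nat.prime_dvd_prime_iff_eq hq Nat.prime_three).mp (hq.dvd_of_dvd_pow h)))
    rcases hq.dvd_mul.mp h with h | h
    · exact Or.inr (Or.inr ((Nat.prime_dvd_prime_iff_eq hq Nat.prime_five).mp h))
    · exact absurd ((Nat.prime_dvd_prime_iff_eq hq (by norm_num)).mp h) hq11
  have ha7 : a < 7 := by
    by_contra hc
    have := (pow_dvd_pow q (not_lt.mp hc)).trans hdvd
    rcases h235 with rfl | rfl | rfl <;> norm_num at this
  rcases h235 with rfl | rfl | rfl <;> interval_cases a <;>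
    first | omega | (norm_num at h) | (norm_num at hdvd)

/-- Subgroups of order divisible by 11. -/
theorem card_subgroup_of_eleven_dvd (hG : IsM12 G) (H : Subgroup G) (h : 11 ∣ Nat.card H) :
    Nat.card H = 11 ∨ Nat.card H = 55 ∨ Nat.card H = 660 ∨ Nat.card H = 7920 ∨
      Nat.card H = 95040 := by
  haveI : Fact (Nat.Prime 11) := ⟨by norm_num⟩
  obtain ⟨x, hxH, hx⟩ := exists_mem_orderOf 11 h
  set N := normalizer ((zpowers x : Subgroup G) : Set G) with hN
  have hmod := relIndex_normalizer_mod hx hxH (by rw [hG.2]; norm_num)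
  have hmul := relIndex_mul_card_inf N H
  have hxNH : zpowers x ≤ N ⊓ H := le_inf le_normalizer (zpowers_le.mpr hxH)
  have hi : Nat.card (N ⊓ H : Subgroup G) = 11 ∨ Nat.card (N ⊓ H : Subgroup G) = 55 := by
    have h1 : Nat.card (N ⊓ H : Subgroup G) ∣ 55 :=
      card_normalizer_eleven hG hx ▸ card_dvd_of_le inf_le_left
    have h2 := card_dvd_of_le hxNH
    rw [Nat.card_zpowers, hx] at h2
    have h3 : Nat.card (N ⊓ H : Subgroup G) ∈ Nat.divisors 55 :=
      Nat.mem_divisors.mpr ⟨h1, by norm_num⟩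
    rw [show Nat.divisors 55 = {1, 5, 11, 55} by decide] at h3
    simp only [Finset.mem_insert, Finset.mem_singleton] at h3
    omega
  set n := N.relIndex H with hn
  have hH : Nat.card H ∣ 95040 := hG.2 ▸ card_subgroup_dvd_card H
  rcases hi with hi | hi
  · left
    rw [hi] at hmul
    -- Burnside: the normalizer in `H` is the Sylow subgroup itself
    have hPH : zpowers x ≤ H := zpowers_le.mpr hxH
    obtain ⟨PH, hPHeq⟩ := exists_sylow_eq (G := H) (p := 11) (H := (zpowers x).subgroupOf H)
      (k := 1) (by rw [card_subgroupOf, inf_eq_left.mpr hPH, Nat.card_zpowers, hx, pow_one])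
      (fun h2 => by
        have := h2.trans (card_subgroup_dvd_card H)
        rw [hG.2] at this
        norm_num at this)
    have heq : N ⊓ H = zpowers x :=
      (eq_of_le_of_card_ge hxNH (by rw [hi, Nat.card_zpowers, hx])).symm
    have hNC : normalizer ((PH : Subgroup H) : Set H) ≤ centralizer ((PH : Subgroup H) : Set H) := by
      intro g hg
      rw [hPHeq, ← subgroupOf_normalizer_eq hPH, mem_subgroupOf] at hg
      have hgz : (g : G) ∈ zpowers x := heq ▸ ⟨hg, g.2⟩
      refine mem_centralizer_iff.mpr fun v hv => Subtype.ext ?_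
      rw [hPHeq, SetLike.mem_coe, mem_subgroupOf] at hv
      show (v : G) * g = g * v
      obtain ⟨i, hi'⟩ := mem_zpowers_iff.mp hgz
      obtain ⟨j, hj'⟩ := mem_zpowers_iff.mp hv
      rw [← hi', ← hj']
      exact (Commute.zpow_zpow (Commute.refl x) j i).eq
    have hcompl := MonoidHom.ker_transferSylow_isComplement' PH hNC
    set Q0 := (MonoidHom.transferSylow PH hNC).ker with hQ0
    have hcQ := hcompl.card_mul
    rw [hPHeq, card_subgroupOf, inf_eq_left.mpr hPH, Nat.card_zpowers, hx, ← hmul] at hcQ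
    have hQ0n : Q0.Normal := MonoidHom.normal_ker _
    set Q := Q0.map H.subtype
    have hQc : Nat.card Q = n := by
      rw [card_map_of_injective H.subtype_injective]; omega
    have hxQ : x ∈ normalizer (Q : Set G) := mem_normalizer_map hQ0n hxH
    have hQ11 : ¬ 11 ∣ Nat.card Q := by
      rw [hQc]
      omega
    suffices hn1 : n = 1 by omega
    by_contra hne
    obtain ⟨q, hq, hqn⟩ := Nat.exists_prime_and_dvd hne
    haveI : Fact q.Prime := ⟨hq⟩
    obtain ⟨R, hRQ, hRc, hxR⟩ := exists_normalized_sylow (q := q) hx hxQ hQ11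
    have h0 := card_eq_one_of_normalized hG hx hq hRc (fun h => hQ11 (hQc ▸ h ▸ hqn)) hxR
    have hpos : 0 < (Nat.card Q).factorization q :=
      hq.factorization_pos_of_dvd Nat.card_pos.ne' (hQc ▸ hqn)
    omega
  · rw [hi] at hmul
    have hn1728 : n ∣ 1728 := by
      refine Nat.dvd_of_mul_dvd_mul_right (by norm_num : 0 < 55) ?_
      rw [hmul]
      exact hH.trans (by norm_num)
    have hmem : n ∈ (Nat.divisors 1728).filter (fun d => d % 11 = 1) :=
      Finset.mem_filter.mpr ⟨Nat.mem_divisors.mpr ⟨hn1728, by norm_num⟩, hmod⟩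
    rw [show (Nat.divisors 1728).filter (fun d => d % 11 = 1) = {1, 12, 144, 1728} by
      decide +kernel] at hmem
    simp only [Finset.mem_insert, Finset.mem_singleton] at hmem
    omega

/-- Seven-fold transitivity from a 5-cycle in degree 11 is impossible. -/
theorem false_of_five_cycle (hG : IsM12 G) {X : Type*} [MulAction G X] [IsPretransitive G X]
    (hX : Nat.card X = 11) {y : G} (hy : orderOf y = 5) (hf : Nat.card (fixedBy X y) = 6) :
    False := by
  haveI : Finite X := Nat.finite_of_card_ne_zero (by omega)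
  set s : Set X := fixedBy X y with hs
  have hsn : s.ncard = 5 + 1 := by rw [← Nat.card_coe_set_eq]; exact hf
  haveI : IsPreprimitive G X := IsPreprimitive.of_prime_card (by rw [hX]; norm_num)
  have hcardc : Nat.card (SubMulAction.ofFixingSubgroup G s) = 5 := by
    have h1 : sᶜ.ncard = 5 := by
      have := Set.ncard_add_ncard_compl s
      rw [hsn, hX] at this
      omega
    rw [← h1, ← Nat.card_coe_set_eq]
    rfl
  set g : fixingSubgroup G s := ⟨y, fun a => a.2⟩ with hg
  haveI : IsPretransitive (fixingSubgroup G s) (SubMulAction.ofFixingSubgroup G s) := by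
    refine ⟨fun a b => ?_⟩
    have hgo : orderOf g = 5 := by rw [← hy, ← Subgroup.orderOf_coe]
    have hdvd : Nat.card (orbit (zpowers g) a) ∣ 5 := by
      rw [Nat.card_congr (orbitEquivQuotientStabilizer (zpowers g) a), ← index_eq_card,
        ← hgo, ← Nat.card_zpowers]
      exact index_dvd_card _
    have hne : Nat.card (orbit (zpowers g) a) ≠ 1 := by
      intro h1
      obtain ⟨hsub, -⟩ := Nat.card_eq_one_iff_unique.mp h1
      have h2 := congrArg Subtype.val (hsub.elim
        (⟨(⟨g, mem_zpowers g⟩ : zpowers g) • a, mem_orbit _ _⟩ : orbit (zpowers g) a)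
        ⟨a, mem_orbit_self _⟩)
      exact a.2 (congrArg Subtype.val h2)
    have h5 : Nat.card (orbit (zpowers g) a) = 5 :=
      ((Nat.dvd_prime (by norm_num)).mp hdvd).resolve_left hne
    have huniv : orbit (zpowers g) a = Set.univ := by
      rw [Set.eq_univ_iff_ncard, ← Nat.card_coe_set_eq, h5, hcardc]
    obtain ⟨k, hk⟩ := (huniv.symm ▸ Set.mem_univ b : b ∈ orbit (zpowers g) a)
    exact ⟨k, hk⟩
  have hprim : IsPreprimitive (fixingSubgroup G s) (SubMulAction.ofFixingSubgroup G s) :=
    IsPreprimitive.of_prime_card (by rw [hcardc]; norm_num)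
  haveI h7 : IsMultiplyPreprimitive G X (5 + 2) :=
    (inferInstance : IsPreprimitive G X).isMultiplyPreprimitive hsn (by rw [hX]; norm_num) hprim
  have h7' : IsMultiplyPretransitive G X 7 := IsMultiplyPreprimitive.isMultiplyPretransitive ..
  obtain ⟨t, -, ht⟩ := Set.exists_subset_card_eq (s := (Set.univ : Set X)) (n := 7)
    (by rw [Set.ncard_univ, hX]; norm_num)
  have hidx7 := h7'.index_of_fixingSubgroup_mul ht
  rw [hX] at hidx7
  norm_num [Nat.factorial] at hidx7
  have hd := (fixingSubgroup G t).index_dvd_card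
  rw [hG.2, show (fixingSubgroup G t).index = 1663200 by omega] at hd
  norm_num at hd

/-- There is no subgroup of index 11. -/
theorem no_index_eleven (hG : IsM12 G) (H : Subgroup G) : H.index ≠ 11 := by
  intro hidx
  haveI := hG.1
  haveI : Fact (Nat.Prime 11) := ⟨by norm_num⟩
  haveI : Fact (Nat.Prime 5) := ⟨by norm_num⟩
  haveI : Fact (Nat.Prime 2) := ⟨Nat.prime_two⟩
  have hHt : H ≠ ⊤ := by
    rintro rfl
    rw [index_top] at hidx
    omega
  have hX : Nat.card (G ⧸ H) = 11 := hidx
  haveI : FaithfulSMul G (G ⧸ H) :=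
    ⟨fun h => toPermHom_injective hHt (Equiv.ext fun a => h a)⟩
  obtain ⟨y, hy⟩ := exists_prime_orderOf_dvd_card' (G := G) 5 (by rw [hG.2]; norm_num)
  obtain ⟨e, Y, hY, hYc, hC, he, he1, hd5, hN, hmul⟩ :=
    normalizer_prime hG (p := 5) (m := 19008) (by norm_num) (by norm_num) hy
  have hy5 : y ^ 5 = 1 := by rw [← hy, pow_orderOf_eq_one]
  have hmod := card_fixedBy_modEq (X := G ⧸ H) (p := 5) hy5
  rw [hX] at hmod
  have hlt : Nat.card (fixedBy (G ⧸ H) y) < 11 := by
    obtain ⟨a, ha⟩ : ∃ a : G ⧸ H, y • a ≠ a := by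
      by_contra hall
      push Not at hall
      exact ne_one_of_order hy (eq_one_of_fix_all' hG hHt hall)
    rw [← hX]
    exact Finite.card_subtype_lt (p := fun b => b ∈ fixedBy (G ⧸ H) y) ha
  rcases (by omega : Nat.card (fixedBy (G ⧸ H) y) = 1 ∨ Nat.card (fixedBy (G ⧸ H) y) = 6) with
    hf | hf
  · -- two cycles of length five: the centralizer is too small
    have hfP : Nat.card (fixedPoints (Y : Subgroup G) (G ⧸ H)) = 1 := by
      rw [← hf]
      refine Nat.card_congr (Equiv.subtypeEquivRight fun a => ⟨fun h => ?_, fun h u => ?_⟩)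
      · exact h ⟨y, hY ▸ mem_zpowers y⟩
      · obtain ⟨i, hi⟩ := mem_zpowers_iff.mp (hY ▸ u.2 : (u : G) ∈ zpowers y)
        change (u : G) • a = a
        rw [← hi]
        exact (stabilizer G a).zpow_mem (show y ∈ stabilizer G a from h) i
    have hb := card_centralizer_dvd Y hYc hfP (k := 2) (by rw [hX])
    rw [← hC] at hb
    norm_num [Nat.factorial] at hb
    have h2 : ¬ 2 ∣ Nat.card (centralizer ({y} : Set G)) := by
      intro h
      obtain ⟨w, hw, hw2⟩ := exists_mem_orderOf 2 h
      have hc : Commute y w := (mem_centralizer_singleton_iff.mp hw).symm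
      obtain ⟨hsub, ⟨a0⟩⟩ := Nat.card_eq_one_iff_unique.mp hf
      have hfix : ∀ a : G ⧸ H, y • a = a → w • a = a := by
        intro a ha
        have h2 : y • w • a = w • a := by rw [smul_smul, hc.eq, mul_smul, ha]
        exact congrArg Subtype.val (hsub.elim (⟨w • a, h2⟩ : fixedBy _ y) ⟨a, ha⟩)
      obtain ⟨j, hj⟩ := dvd_card_moved (X := G ⧸ H) (p := 5) hy5 hc hfix
      have hsum := card_fixedBy_add_moved (X := G ⧸ H) w
      have h4 := card_fixedBy_mod_four (eleven_not_comm hG) (X := G ⧸ H) hw2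
      rw [hX] at hsum h4
      have hpos : 0 < Nat.card {b : G ⧸ H | w • b ≠ b} := by
        by_contra hc
        refine ne_one_of_order hw2 (eq_one_of_fix_all' hG hHt fun b => ?_)
        by_contra hb
        haveI : Nonempty {b : G ⧸ H | w • b ≠ b} := ⟨⟨b, hb⟩⟩
        exact hc Nat.card_pos
      haveI : Nonempty (fixedBy (G ⧸ H) w) := ⟨⟨a0.1, hfix a0.1 a0.2⟩⟩
      have : 0 < Nat.card (fixedBy (G ⧸ H) w) := Nat.card_pos
      omega
    have hC5 : Nat.card (centralizer ({y} : Set G)) = 5 := by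
      have h3 : Nat.card (centralizer ({y} : Set G)) ∈ Nat.divisors 10 :=
        Nat.mem_divisors.mpr ⟨hb, by norm_num⟩
      rw [show Nat.divisors 10 = {1, 2, 5, 10} by decide] at h3
      simp only [Finset.mem_insert, Finset.mem_singleton] at h3
      omega
    rw [hC5] at hmul
    have h5 := card_sylow_modEq_one 5 G
    replace h5 : Nat.card (Sylow 5 G) % 5 = 1 := h5
    have h6 : e ∈ Nat.divisors 4 := Nat.mem_divisors.mpr ⟨he, by norm_num⟩
    rw [show Nat.divisors 4 = {1, 2, 4} by decide] at h6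
    simp only [Finset.mem_insert, Finset.mem_singleton] at h6
    rcases h6 with rfl | rfl | rfl <;> omega
  · -- a single cycle of length five: Jordan gives seven-fold transitivity
    exact false_of_five_cycle hG hX hy hf

/-- The number of Sylow 5-subgroups. -/
theorem five_cases (hG : IsM12 G) [Fact (Nat.Prime 5)] :
    Nat.card (Sylow 5 G) = 11 ∨ Nat.card (Sylow 5 G) = 66 ∨ Nat.card (Sylow 5 G) = 176 ∨
      Nat.card (Sylow 5 G) = 396 ∨ Nat.card (Sylow 5 G) = 1056 ∨ Nat.card (Sylow 5 G) = 2376 := by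
  haveI := hG.1
  have hmem := card_sylow_mem (eleven_not_comm hG) (p := 5) (k := 1) (m := 19008)
    (by rw [hG.2]; norm_num) (by norm_num) one_ne_zero
  rw [show (Nat.divisors 19008).filter (fun d => d % 5 = 1 ∧ d ≠ 1) =
    {6, 11, 16, 36, 66, 96, 176, 216, 396, 576, 1056, 2376, 6336} by decide +kernel] at hmem
  simp only [Finset.mem_insert, Finset.mem_singleton] at hmem
  obtain ⟨y, hy⟩ := exists_prime_orderOf_dvd_card' (G := G) 5 (by rw [hG.2]; norm_num)
  obtain ⟨e, Y, hY, hYc, hC, he, he1, ⟨c, hc⟩, hN, hmul⟩ :=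
    normalizer_prime hG (p := 5) (m := 19008) (by norm_num) (by norm_num) hy
  have h11 : ¬ 11 ∣ c := fun h =>
    not_eleven_dvd_centralizer hG (ne_one_of_order hy) (by omega) (hc ▸ h.mul_left 5)
  have h6 : e ∈ Nat.divisors 4 := Nat.mem_divisors.mpr ⟨he, by norm_num⟩
  rw [show Nat.divisors 4 = {1, 2, 4} by decide] at h6
  simp only [Finset.mem_insert, Finset.mem_singleton] at h6
  rw [hc] at hmul
  rcases hmem with h | h | h | h | h | h | h | h | h | h | h | h | h <;> rw [h] at hmul ⊢ <;>
    rcases h6 with rfl | rfl | rfl <;> omega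

set_option maxHeartbeats 1000000 in
/-- There are not 1056 Sylow 5-subgroups. -/
theorem not_1056 (hG : IsM12 G) [Fact (Nat.Prime 5)] : Nat.card (Sylow 5 G) ≠ 1056 := by
  intro hn
  haveI := hG.1
  haveI : Fact (Nat.Prime 3) := ⟨Nat.prime_three⟩
  obtain ⟨y, hy⟩ := exists_prime_orderOf_dvd_card' (G := G) 5 (by rw [hG.2]; norm_num)
  obtain ⟨e, Y, hY, hYc, hC, he, he1, ⟨c, hc⟩, hN, hmul⟩ :=
    normalizer_prime hG (p := 5) (m := 19008) (by norm_num) (by norm_num) hy
  rw [hn, hc] at hmul
  set N := normalizer ((zpowers y : Subgroup G) : Set G) with hNdef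
  set C := centralizer ({y} : Set G) with hCdef
  have h6 : e ∈ Nat.divisors 4 := Nat.mem_divisors.mpr ⟨he, by norm_num⟩
  rw [show Nat.divisors 4 = {1, 2, 4} by decide] at h6
  simp only [Finset.mem_insert, Finset.mem_singleton] at h6
  have hC45 : Nat.card C = 45 := by rcases h6 with rfl | rfl | rfl <;> omega
  have hN90 : Nat.card N = 90 := by
    rw [hN, hC45]; rcases h6 with rfl | rfl | rfl <;> omega
  have h25 : ¬ 5 ^ 2 ∣ Nat.card G := by rw [hG.2]; norm_num
  have hCN : C ≤ N := centralizer_le_normalizer_zpowers y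
  obtain ⟨L0, hL0⟩ := Sylow.exists_subgroup_card_pow_prime (G := C) 3 (n := 2)
    (by rw [hC45]; norm_num)
  set L := L0.map C.subtype with hLdef
  have hL : Nat.card L = 9 := by
    rw [hLdef, card_map_of_injective C.subtype_injective, hL0]; norm_num
  have hLC : L ≤ C := map_subtype_le L0
  have huniq : ∀ T : Subgroup G, T ≤ C → Nat.card T = 9 → T = L := by
    have h3 : Nat.card (Sylow 3 C) = 1 := by
      have hd := card_sylow_dvd (G := C) (p := 3) (k := 2) (m := 5) (by rw [hC45]; norm_num)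
        (by norm_num)
      have hm := card_sylow_modEq_one 3 C
      replace hm : Nat.card (Sylow 3 C) % 3 = 1 := hm
      rcases (Nat.dvd_prime (by norm_num)).mp hd with h | h <;> omega
    intro T hT hTc
    have h27 : ¬ 3 ^ (2 + 1) ∣ Nat.card C := by rw [hC45]; norm_num
    obtain ⟨Q1, hQ1⟩ := exists_sylow_eq (G := C) (p := 3) (H := T.subgroupOf C) (k := 2)
      (by rw [card_subgroupOf, inf_eq_left.mpr hT, hTc]; norm_num) h27
    obtain ⟨Q2, hQ2⟩ := exists_sylow_eq (G := C) (p := 3) (H := L.subgroupOf C) (k := 2)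
      (by rw [card_subgroupOf, inf_eq_left.mpr hLC, hL]; norm_num) h27
    have he := (Nat.card_eq_one_iff_unique.mp h3).1.elim Q1 Q2
    rw [← map_subgroupOf_eq_of_le hT, ← hQ1, he, hQ2, map_subgroupOf_eq_of_le hLC]
  have hNL : N ≤ normalizer (L : Set G) := by
    intro g hg
    rw [mem_normalizer_iff_map_conj_eq]
    refine huniq _ ?_ (by rw [← hL]; exact card_map_of_injective (MulAut.conj g).injective)
    rintro _ ⟨v, hv, rfl⟩
    obtain ⟨n, hn'⟩ := mem_zpowers_iff.mp
      ((mem_normalizer_iff.mp (N.inv_mem hg) y).mp (mem_zpowers y))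
    rw [inv_inv] at hn'
    refine mem_centralizer_singleton_iff.mpr ?_
    have hcm : Commute v (y ^ n) :=
      (show Commute v y from mem_centralizer_singleton_iff.mp (hLC hv)).zpow_right n
    show g * v * g⁻¹ * y = y * (g * v * g⁻¹)
    calc g * v * g⁻¹ * y = g * (v * (g⁻¹ * y * g)) * g⁻¹ := by group
      _ = g * ((g⁻¹ * y * g) * v) * g⁻¹ := by rw [← hn', hcm.eq]
      _ = y * (g * v * g⁻¹) := by group
  set M := normalizer (L : Set G) with hMdef
  have hM27 : 3 ^ 3 ∣ Nat.card M :=
    Sylow.prime_pow_dvd_card_normalizer (n := 2) (by rw [hG.2]; norm_num) (by rw [hL]; norm_num)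
  have hMt : M ≠ ⊤ := by
    refine normalizer_ne_top (fun hb => ?_) (fun ht => ?_)
    · rw [hb, card_bot] at hL; omega
    · rw [ht, card_top, hG.2] at hL; omega
  have hyN : y ∈ N := le_normalizer (mem_zpowers y)
  -- proper overgroups of `N` with full Sylow 3-subgroups
  have hover : ∀ K : Subgroup G, N ≤ K → 3 ^ 3 ∣ Nat.card K → K ≠ ⊤ → Nat.card K = 540 := by
    intro K hNK h27 hKt
    have hm := relIndex_normalizer_mod hy (hNK hyN) h25
    have hmc := card_mul_relIndex_eq hNK
    rw [hN90] at hmc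
    set m := N.relIndex K
    have hm1056 : m ∣ 1056 := by
      refine Nat.dvd_of_mul_dvd_mul_left (by norm_num : 0 < 90) ?_
      rw [hmc, show 90 * 1056 = 95040 by norm_num, ← hG.2]
      exact card_subgroup_dvd_card K
    have hmem : m ∈ (Nat.divisors 1056).filter (fun d => d % 5 = 1) :=
      Finset.mem_filter.mpr ⟨Nat.mem_divisors.mpr ⟨hm1056, by norm_num⟩, hm⟩
    rw [show (Nat.divisors 1056).filter (fun d => d % 5 = 1) = {1, 6, 11, 16, 66, 96, 176, 1056}
      by decide +kernel] at hmem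
    simp only [Finset.mem_insert, Finset.mem_singleton] at hmem
    have hidx := index_mul hG K
    have h11 : 11 ∣ Nat.card K → False := fun h11 => by
      have hne : Nat.card K ≠ 95040 := fun h => hKt (eq_top_of_card hG h)
      rcases card_subgroup_of_eleven_dvd hG K h11 with h | h | h | h | h <;> omega
    rcases hmem with h | h | h | h | h | h | h | h <;> rw [h] at hmc
    · omega
    · omega
    · exact (h11 (by omega)).elim
    · omega
    · exact (h11 (by omega)).elim
    · exact (no_index_eleven hG K (by rw [← hmc] at hidx; omega)).elim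
    · exact (h11 (by omega)).elim
    · exact (h11 (by omega)).elim
  have hM540 : Nat.card M = 540 := hover M hNL hM27 hMt
  have hmax : ∀ K : Subgroup G, M ≤ K → K ≠ ⊤ → K = M := fun K hK hKt =>
    (eq_of_le_of_card_ge hK
      (by rw [hover K (hNL.trans hK) (hM27.trans (card_dvd_of_le hK)) hKt, hM540])).symm
  -- `L` is central in `M`
  set CL := centralizer (L : Set G) ⊓ M with hCL
  have hab : ∀ a ∈ L, ∀ b ∈ L, Commute a b := by
    haveI : IsMulCommutative L :=
      IsPGroup.isMulCommutative_of_card_eq_prime_sq (p := 3) (by rw [hL]; norm_num)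
    exact fun a ha b hb => congrArg Subtype.val (mul_comm' (⟨a, ha⟩ : L) ⟨b, hb⟩)
  have hsupC : zpowers y ⊔ L = C := by
    refine eq_of_le_of_card_ge (sup_le (zpowers_le.mpr (mem_centralizer_singleton_iff.mpr rfl)) hLC) ?_
    rw [hC45]
    refine Nat.le_of_dvd Nat.card_pos ?_
    refine (Nat.Coprime.mul_dvd_of_dvd_of_dvd (by norm_num : Nat.Coprime 5 9) ?_ ?_ : 5 * 9 ∣ _)
    · rw [← hy, ← Nat.card_zpowers]; exact card_dvd_of_le le_sup_left
    · rw [← hL]; exact card_dvd_of_le le_sup_right
  have hCCL : C ≤ CL := by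
    refine le_inf ?_ (hCN.trans hNL)
    rw [← hsupC, sup_le_iff, zpowers_le]
    exact ⟨mem_centralizer_iff.mpr fun v hv => mem_centralizer_singleton_iff.mp (hLC hv),
      fun v hv => mem_centralizer_iff.mpr fun w hw => (hab w hw v hv).eq⟩
  have hCLn : ∀ g ∈ M, ∀ v ∈ CL, g * v * g⁻¹ ∈ CL := by
    intro g hg v hv
    refine ⟨mem_centralizer_iff.mpr fun l hl => ?_, M.mul_mem (M.mul_mem hg hv.2) (M.inv_mem hg)⟩
    have hl' : g⁻¹ * l * g ∈ L := (mem_normalizer_iff''.mp hg l).mp hl
    have h := mem_centralizer_iff.mp hv.1 _ hl'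
    calc l * (g * v * g⁻¹) = g * (g⁻¹ * l * g * v) * g⁻¹ := by group
      _ = g * (v * (g⁻¹ * l * g)) * g⁻¹ := by rw [h]
      _ = g * v * g⁻¹ * l := by group
  have hyCL : y ∈ CL := hCCL (mem_centralizer_singleton_iff.mpr rfl)
  have hsyl6 : N.relIndex CL = 6 ∧ (Nat.card CL = 270 ∨ Nat.card CL = 540) := by
    have hm : N.relIndex CL % 5 = 1 := relIndex_normalizer_mod hy hyCL h25
    have hmc := relIndex_mul_card_inf N CL
    have hd1 : Nat.card C ∣ Nat.card (N ⊓ CL : Subgroup G) := card_dvd_of_le (le_inf hCN hCCL)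
    have hd2 : Nat.card (N ⊓ CL : Subgroup G) ∣ 90 := hN90 ▸ card_dvd_of_le inf_le_left
    have hd3 : Nat.card CL ∣ 540 := hM540 ▸ card_dvd_of_le inf_le_right
    rw [hC45] at hd1
    -- every element of order 5 of `M` lies in `CL`
    have hall : CL ⊔ N = M := by
      refine le_antisymm (sup_le inf_le_right hNL) fun g hg => ?_
      have hQ : ∀ {w : G}, orderOf w = 5 → w ∈ CL →
          ∃ Q : Sylow 5 CL, (Q : Subgroup CL) = (zpowers w).subgroupOf CL := fun {w} hw hwC =>
        exists_sylow_eq (k := 1) (by rw [card_subgroupOf, inf_eq_left.mpr (zpowers_le.mpr hwC),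
          Nat.card_zpowers, hw, pow_one])
          (fun h => h25 (h.trans (card_subgroup_dvd_card CL)))
      have hzo : orderOf (g * y * g⁻¹) = 5 := by
        rw [show g * y * g⁻¹ = MulAut.conj g y from rfl, MulEquiv.orderOf_eq, hy]
      obtain ⟨Q1, hQ1⟩ := hQ hzo (hCLn g hg y hyCL)
      obtain ⟨Q2, hQ2⟩ := hQ hy hyCL
      obtain ⟨k, hk⟩ := exists_smul_eq CL Q1 Q2
      have hmem : (k : G) * (g * y * g⁻¹) * (k : G)⁻¹ ∈ zpowers y := by
        have h1 : (⟨g * y * g⁻¹, hCLn g hg y hyCL⟩ : CL) ∈ (Q1 : Subgroup CL) := by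
          rw [hQ1, mem_subgroupOf]; exact mem_zpowers _
        have h3 : k * ⟨g * y * g⁻¹, hCLn g hg y hyCL⟩ * k⁻¹ ∈
            ((k • Q1 : Sylow 5 CL) : Subgroup CL) := by
          open scoped Pointwise in
          exact Subgroup.smul_mem_pointwise_smul _ (MulAut.conj k) _ h1
        rw [hk, hQ2, mem_subgroupOf] at h3
        exact h3
      have hkg : (k : G) * g ∈ N := by
        rw [hNdef, mem_normalizer_iff_map_conj_eq, MonoidHom.map_zpowers]
        refine eq_of_le_of_card_ge ?_ ?_
        · rw [zpowers_le]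
          show (k : G) * g * y * ((k : G) * g)⁻¹ ∈ zpowers y
          rwa [show (k : G) * g * y * ((k : G) * g)⁻¹ = k * (g * y * g⁻¹) * (k : G)⁻¹ by group]
        · rw [Nat.card_zpowers, Nat.card_zpowers]
          exact (MulEquiv.orderOf_eq (MulAut.conj ((k : G) * g)) y).ge
      have := (CL ⊔ N).mul_mem (mem_sup_left (CL.inv_mem k.2)) (mem_sup_right hkg)
      rwa [inv_mul_cancel_left] at this
    have hnM : N.relIndex M = 6 := by
      have := card_mul_relIndex_eq hNL
      rw [hN90, hM540] at this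
      omega
    have hle : N.relIndex CL ≤ 6 := hnM ▸ relIndex_le_of_le_right inf_le_right (by omega)
    have hne : N.relIndex CL ≠ 1 := by
      intro h1
      rw [relIndex_eq_one] at h1
      rw [sup_eq_right.mpr h1] at hall
      rw [hall, hM540] at hN90
      omega
    have hr : N.relIndex CL = 6 := by omega
    refine ⟨hr, ?_⟩
    rw [hr] at hmc
    obtain ⟨j, hj⟩ := hd1
    rw [hj] at hd2 hmc
    have : j ≤ 2 := by have := Nat.le_of_dvd (by norm_num) hd2; omega
    have hpos : 0 < Nat.card CL := Nat.card_pos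
    interval_cases j <;> omega
  have hCL540 : Nat.card CL = 540 := by
    rcases hsyl6.2 with h270 | h540
    swap; · exact h540
    exfalso
    have hmc := relIndex_mul_card_inf N CL
    rw [hsyl6.1, h270] at hmc
    have hNC' : N ⊓ CL = C := (eq_of_le_of_card_ge (le_inf hCN hCCL) (by omega)).symm
    have hPC : zpowers y ≤ CL := zpowers_le.mpr hyCL
    obtain ⟨PC, hPCeq⟩ := exists_sylow_eq (G := CL) (p := 5) (H := (zpowers y).subgroupOf CL)
      (k := 1) (by rw [card_subgroupOf, inf_eq_left.mpr hPC, Nat.card_zpowers, hy, pow_one])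
      (by rw [h270]; norm_num)
    have hNC : normalizer ((PC : Subgroup CL) : Set CL) ≤
        centralizer ((PC : Subgroup CL) : Set CL) := by
      intro g hg
      rw [hPCeq, ← subgroupOf_normalizer_eq hPC, mem_subgroupOf] at hg
      have hgC : (g : G) ∈ C := hNC' ▸ ⟨hg, g.2⟩
      refine mem_centralizer_iff.mpr fun v hv => Subtype.ext ?_
      rw [hPCeq, SetLike.mem_coe, mem_subgroupOf, mem_zpowers_iff] at hv
      obtain ⟨n, hn'⟩ := hv
      show (v : G) * g = g * v
      rw [← hn']
      exact ((show Commute y (g : G) from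
        (mem_centralizer_singleton_iff.mp hgC).symm).zpow_left n).eq
    have hcompl := MonoidHom.ker_transferSylow_isComplement' PC hNC
    set K0 := (MonoidHom.transferSylow PC hNC).ker with hK0
    have hcK := hcompl.card_mul
    rw [hPCeq, card_subgroupOf, inf_eq_left.mpr hPC, Nat.card_zpowers, hy, h270] at hcK
    have hK0n : K0.Normal := MonoidHom.normal_ker _
    set Q := K0.map CL.subtype
    have hQc : Nat.card Q = 54 := by rw [card_map_of_injective CL.subtype_injective]; omega
    have hyQ : y ∈ normalizer (Q : Set G) := mem_normalizer_map hK0n hyCL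
    obtain ⟨R, hRQ, hRc, hyR⟩ := exists_normalized_sylow (q := 3) hy hyQ (by rw [hQc]; norm_num)
    rw [hQc, show (54 : ℕ).factorization 3 = 3 by
      rw [show 54 = 2 ^ 1 * 3 ^ 3 by norm_num, Nat.factorization_mul (by norm_num) (by norm_num),
        Nat.Prime.factorization_pow Nat.prime_two, Nat.Prime.factorization_pow Nat.prime_three]
      simp] at hRc
    have h := card_inf_centralizer_mod hy hyR
    rw [hRc] at h
    have hd : Nat.card (R ⊓ C : Subgroup G) ∣ 9 := by
      rw [show 9 = Nat.gcd (3 ^ 3) 45 by norm_num]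
      exact Nat.dvd_gcd (hRc ▸ card_dvd_of_le inf_le_left) (hC45 ▸ card_dvd_of_le inf_le_right)
    have hmem : Nat.card (R ⊓ C : Subgroup G) ∈ Nat.divisors 9 :=
      Nat.mem_divisors.mpr ⟨hd, by norm_num⟩
    rw [show Nat.divisors 9 = {1, 3, 9} by decide, Finset.mem_insert, Finset.mem_insert,
      Finset.mem_singleton] at hmem
    rw [← hCdef] at h
    omega
  have heqCL : CL = M :=
    eq_of_le_of_card_ge inf_le_right (show Nat.card M ≤ Nat.card CL by omega)
  have hcent : ∀ g ∈ M, ∀ l ∈ L, Commute g l := fun g hg l hl => by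
    have : g ∈ CL := by rw [heqCL]; exact hg
    exact ((mem_centralizer_iff.mp this.1 l hl) : l * g = g * l).symm
  -- an abelian Sylow 3-subgroup
  obtain ⟨S1, hS1⟩ := Sylow.exists_subgroup_card_pow_prime (G := M) 3 hM27
  set S := S1.map M.subtype with hSdef
  have hS : Nat.card S = 27 := by
    rw [hSdef, card_map_of_injective M.subtype_injective, hS1]; norm_num
  have hSM : S ≤ M := map_subtype_le S1
  have hLS : L ≤ S := by
    have hp : IsPGroup 3 (S ⊔ L : Subgroup G) :=
      (IsPGroup.of_card (p := 3) (n := 3) (by rw [hS]; norm_num)).to_sup_of_normal_right'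
        (IsPGroup.of_card (n := 2) (by rw [hL]; norm_num)) hSM
    obtain ⟨k, hk⟩ := hp.exists_card_eq
    have h1 : 3 ^ k ∣ 20 * 3 ^ 3 := by
      rw [← hk, show 20 * 3 ^ 3 = 540 by norm_num, ← hM540]
      exact card_dvd_of_le (sup_le hSM le_normalizer)
    have h2 := (Nat.Coprime.pow_left k (by norm_num : Nat.Coprime 3 20)).dvd_of_dvd_mul_left h1
    have hle : Nat.card (S ⊔ L : Subgroup G) ≤ Nat.card S := by
      rw [hS, hk]; exact Nat.le_of_dvd (by norm_num) h2
    exact (eq_of_le_of_card_ge (le_sup_left : S ≤ S ⊔ L) hle).symm ▸ le_sup_right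
  obtain ⟨s, hsS, hsL⟩ : ∃ s ∈ S, s ∉ L := by
    by_contra hno
    push Not at hno
    have := card_le_of_le (show S ≤ L from hno)
    omega
  have hSgen : zpowers s ⊔ L = S := by
    have hle : zpowers s ⊔ L ≤ S := sup_le (zpowers_le.mpr hsS) hLS
    refine eq_of_le_of_card_ge hle ?_
    have hd := card_dvd_of_le hle
    have hd' := card_dvd_of_le (le_sup_right : L ≤ zpowers s ⊔ L)
    rw [hS] at hd ⊢
    rw [hL] at hd'
    have hne : Nat.card (zpowers s ⊔ L : Subgroup G) ≠ 9 := fun h => hsL
      ((eq_of_le_of_card_ge (le_sup_right : L ≤ zpowers s ⊔ L) (by omega)).symm ▸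
        (le_sup_left : zpowers s ≤ _) (mem_zpowers s))
    obtain ⟨j, hj⟩ := hd'
    have : Nat.card (zpowers s ⊔ L : Subgroup G) ∈ Nat.divisors 27 :=
      Nat.mem_divisors.mpr ⟨hd, by norm_num⟩
    rw [show Nat.divisors 27 = {1, 3, 9, 27} by decide] at this
    simp only [Finset.mem_insert, Finset.mem_singleton] at this
    omega
  have hScomm : ∀ a ∈ S, ∀ b ∈ S, Commute a b := by
    have h1 : zpowers s ⊔ L ≤ centralizer (L : Set G) := by
      rw [hSgen]
      exact fun a ha => mem_centralizer_iff.mpr fun l hl => (hcent a (hSM ha) l hl).symm.eq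
    have h2 : zpowers s ⊔ L ≤ centralizer ({s} : Set G) := by
      refine sup_le (zpowers_le.mpr (mem_centralizer_singleton_iff.mpr rfl)) fun l hl => ?_
      exact mem_centralizer_singleton_iff.mpr (hcent s (hSM hsS) l hl).symm.eq
    intro a ha b hb
    have hb' : b ∈ zpowers s ⊔ L := hSgen.symm ▸ hb
    have h3 : zpowers s ⊔ L ≤ centralizer ({a} : Set G) := by
      refine sup_le (zpowers_le.mpr ?_) fun l hl => ?_
      · exact mem_centralizer_singleton_iff.mpr
          (mem_centralizer_singleton_iff.mp (h2 (hSgen.symm ▸ ha))).symm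
      · exact mem_centralizer_singleton_iff.mpr
          (mem_centralizer_iff.mp (h1 (hSgen.symm ▸ ha)) l hl)
    exact (show Commute b a from mem_centralizer_singleton_iff.mp (h3 hb')).symm
  obtain ⟨P3, hP3⟩ := exists_sylow_eq (G := G) (p := 3) (H := S) (k := 3) (by rw [hS]; norm_num)
    (by rw [hG.2]; norm_num)
  haveI : IsMulCommutative (P3 : Subgroup G) :=
    ⟨⟨fun a b => Subtype.ext (hScomm _ (hP3 ▸ a.2) _ (hP3 ▸ b.2)).eq⟩⟩
  obtain ⟨l, hl, hl1⟩ : ∃ l ∈ L, l ≠ 1 := by
    obtain ⟨l, hl, hl3⟩ := exists_mem_orderOf 3 (show 3 ∣ Nat.card L by rw [hL]; norm_num)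
    exact ⟨l, hl, ne_one_of_order hl3⟩
  refine hl1 (eq_one_of_centralized_by_normalizer (eleven_not_comm hG) P3 (hP3 ▸ hLS hl) ?_)
  intro g hg
  rw [hP3] at hg
  -- two conjugates of `L` in `S` meet
  set L' := L.map (MulAut.conj g).toMonoidHom with hL'
  have hL'S : L' ≤ S := by
    rintro _ ⟨v, hv, rfl⟩
    exact (mem_normalizer_iff.mp hg v).mp (hLS hv)
  have hmeet : ∃ w ∈ L, w ∈ L' ∧ w ≠ 1 := by
    by_contra hno
    push Not at hno
    have hbot : L' ⊓ L = ⊥ := eq_bot_iff.mpr fun w hw => mem_bot.mpr (hno w hw.2 hw.1)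
    have h4 := relIndex_mul_card_inf L' L
    rw [hbot, card_bot, mul_one, hL] at h4
    have h7 := card_mul_relIndex_eq hL'S
    rw [hL', card_map_of_injective (MulAut.conj g).injective, hL, hS] at h7
    have h6 := relIndex_le_of_le_right (H := L') hLS (by
      rw [hL']; omega)
    rw [hL'] at h4 h6
    omega
  obtain ⟨w, hwL, ⟨w0, hw0, hw0w⟩, hw1⟩ := hmeet
  have hCw : centralizer ({w} : Set G) = M := hmax _
    (fun v hv => mem_centralizer_singleton_iff.mpr (hcent v hv w hwL).eq)
    (centralizer_ne_top (eleven_not_comm hG) hw1)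
  have hw01 : w0 ≠ 1 := by rintro rfl; exact hw1 (hw0w ▸ map_one _)
  have hCw0 : centralizer ({w0} : Set G) = M := hmax _
    (fun v hv => mem_centralizer_singleton_iff.mpr (hcent v hv w0 hw0).eq)
    (centralizer_ne_top (eleven_not_comm hG) hw01)
  change g * w0 * g⁻¹ = w at hw0w
  have hgM : g ∈ normalizer (M : Set G) := by
    refine mem_normalizer_iff.mpr fun v => ?_
    constructor
    · intro hv
      have hv' : v * w0 = w0 * v := mem_centralizer_singleton_iff.mp (hCw0.symm ▸ hv)
      rw [← hCw, mem_centralizer_singleton_iff, ← hw0w]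
      calc g * v * g⁻¹ * (g * w0 * g⁻¹) = g * (v * w0) * g⁻¹ := by group
        _ = g * (w0 * v) * g⁻¹ := by rw [hv']
        _ = g * w0 * g⁻¹ * (g * v * g⁻¹) := by group
    · intro hv
      rw [← hCw, mem_centralizer_singleton_iff, ← hw0w] at hv
      rw [← hCw0, mem_centralizer_singleton_iff]
      calc v * w0 = g⁻¹ * (g * v * g⁻¹ * (g * w0 * g⁻¹)) * g := by group
        _ = g⁻¹ * (g * w0 * g⁻¹ * (g * v * g⁻¹)) * g := by rw [hv]
        _ = w0 * v := by group
  have hNMt : normalizer (M : Set G) ≠ ⊤ := normalizer_ne_top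
    (fun hb => by rw [hb, card_bot] at hM540; omega) hMt
  exact (hcent g ((hmax _ le_normalizer hNMt).le hgM) l hl).eq

end Cfsg.Agent.Lib.Recog95040
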