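import Cfsg.Agent.Lib.Recog95040.Items

/-!
Certificate: the number of Sylow 5-subgroups is not 11, 66, 176 or 396.
-/

set_option autoImplicit false

namespace Cfsg.Agent.Lib.Recog95040.Cert

def items5_0 : List (Int × Int × Int × Int × Int × Int) := [
  (2,4,0,-1,0,0), (2,4,0,4,0,0), (5,-1,1,0,0,0), (6,1,1,2,0,0), (10,-2,0,0,0,0),
  (12,2,0,-1,0,0), (12,2,0,4,0,0), (15,-3,1,0,0,0), (16,-1,1,2,0,0), (18,3,1,-4,0,0),
  (18,3,1,1,0,0), (18,3,1,6,0,0), (20,-4,0,0,0,0), (24,4,0,-7,0,0), (24,4,0,-2,0,0),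
  (24,4,0,3,0,0), (24,4,0,8,0,0), (27,-1,1,-1,0,0), (27,-1,1,4,0,0), (32,-2,0,-1,0,0),
  (32,-2,0,4,0,0), (40,3,1,0,0,0), (45,2,0,0,0,0), (48,-3,1,-4,0,0), (48,-3,1,1,0,0),
  (48,-3,1,6,0,0), (54,-2,0,-7,0,0), (54,-2,0,-2,0,0), (54,-2,0,3,0,0), (54,-2,0,8,0,0),
  (60,-1,1,0,0,0), (64,-4,0,-7,0,0), (64,-4,0,-2,0,0), (64,-4,0,3,0,0), (64,-4,0,8,0,0),
  (72,1,1,-11,0,0), (72,1,1,-6,0,0), (72,1,1,-1,0,0), (72,1,1,4,0,0), (72,1,1,9,0,0),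
  (72,1,1,14,0,0), (90,4,0,0,0,0), (108,-4,0,-14,0,0), (108,-4,0,-9,0,0), (108,-4,0,-4,0,0),
  (108,-4,0,1,0,0), (108,-4,0,6,0,0), (108,-4,0,11,0,0), (108,-4,0,16,0,0), (120,-2,0,0,0,0),
  (144,2,0,-27,0,0), (144,2,0,-22,0,0), (144,2,0,-17,0,0), (144,2,0,-12,0,0), (144,2,0,-7,0,0),
  (144,2,0,-2,0,0), (144,2,0,3,0,0), (144,2,0,8,0,0), (144,2,0,13,0,0), (144,2,0,18,0,0),
  (144,2,0,23,0,0), (144,2,0,28,0,0), (160,1,1,0,0,0), (180,-3,1,0,0,0), (192,-1,1,-31,0,0),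
  (192,-1,1,-26,0,0), (192,-1,1,-21,0,0), (192,-1,1,-16,0,0), (192,-1,1,-11,0,0), (192,-1,1,-6,0,0),
  (192,-1,1,-1,0,0), (192,-1,1,4,0,0), (192,-1,1,9,0,0), (192,-1,1,14,0,0), (192,-1,1,19,0,0),
  (192,-1,1,24,0,0), (192,-1,1,29,0,0), (192,-1,1,34,0,0), (216,3,1,-38,0,0), (216,3,1,-33,0,0),
  (216,3,1,-28,0,0), (216,3,1,-23,0,0), (216,3,1,-18,0,0), (216,3,1,-13,0,0), (216,3,1,-8,0,0),
  (216,3,1,-3,0,0), (216,3,1,2,0,0), (216,3,1,7,0,0), (216,3,1,12,0,0), (216,3,1,17,0,0),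
  (216,3,1,22,0,0), (216,3,1,27,0,0), (216,3,1,32,0,0), (216,3,1,37,0,0), (216,3,1,42,0,0),
  (240,-4,0,0,0,0), (288,4,0,-54,0,0), (288,4,0,-49,0,0), (288,4,0,-44,0,0), (288,4,0,-39,0,0)]

def items5_1 : List (Int × Int × Int × Int × Int × Int) := [
  (288,4,0,-34,0,0), (288,4,0,-29,0,0), (288,4,0,-24,0,0), (288,4,0,-19,0,0), (288,4,0,-14,0,0),
  (288,4,0,-9,0,0), (288,4,0,-4,0,0), (288,4,0,1,0,0), (288,4,0,6,0,0), (288,4,0,11,0,0),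
  (288,4,0,16,0,0), (288,4,0,21,0,0), (288,4,0,26,0,0), (288,4,0,31,0,0), (288,4,0,36,0,0),
  (288,4,0,41,0,0), (288,4,0,46,0,0), (288,4,0,51,0,0), (288,4,0,56,0,0)]

/-- Rows for the number of Sylow 5-subgroups. -/
def items5 : List It := ofRows (items5_0 ++ items5_1)

def tree5_0 : Engine.Tree := .B 33 (.C [-240,0,-4,-33,0,0])
 (.B 23 (.C [-240,0,-4,-33,0,0])
 (.B 33 (.C [-6929,100000,1064,-820,0,0])
 (.B 31 (.C [-240,0,-4,-33,0,0])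
 (.B 42 (.C [-1054965,10000000,106383,-833333,0,0])
 (.B 23 (.C [-240,0,-4,-33,0,0])
 (.B 32 (.C [-68731748018,1000000000000,10638297872,-9803921569,0,0])
 (.B 39 (.C [-865571,10000000,106383,-454545,0,0])
 (.B 31 (.C [-6978,100000,1064,-893,0,0])
 (.B 21 (.C [-83,1000,-1,-11,0,0])
 (.B 30 (.C [-692646,10000000,106383,-108696,0,0])
 (.B 4 (.C [-41736,-100000,-116,-10000,0,-2])
 (.B 15 (.C [-13825,100000,-230,-1901,0,0])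
 (.B 26 (.C [-240,0,-4,-33,0,0])
 (.B 13 (.C [-96000,0,-1600,-27280,-1,0])
 (.C [-41436,-75504,-433,-18150,0,-7])))))))))))))))

def tree5_1 : Engine.Tree := .B 23 (.C [-420,0,-7,66,0,0])
 (.B 41 (.C [-8424,100000,1064,1020,0,0])
 (.B 21 (.B 9 (.C [-16746,100000,-279,2632,0,0])
 (.B 6 (.B 6 (.C [-1020,264,-17,-264,0,0])
 (.B 16 (.C [-60,1,-1,-1,0,0])
 (.C [-780,264,-13,264,0,0])))
 (.C [-180,44,-3,44,0,0])))
 (.B 31 (.C [-638298,10000000,106383,0,0,0])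
 (.B 22 (.C [-420,0,-7,66,0,0])
 (.B 37 (.C [-8656,100000,1064,1136,0,0])
 (.B 28 (.C [-420,0,-7,66,0,0])
 (.B 29 (.C [-638298,10000000,106383,0,0,0])
 (.B 34 (.C [-894708,10000000,106383,128205,0,0])
 (.B 11 (.B 20 (.C [-184,1000,-3,29,0,0])
 (.C [-888725,228250,-12910,228250,-6,0]))
 (.C [-35124,-100000,-767,20000,0,-8]))))))))))

def tree5_2 : Engine.Tree := .B 42 (.C [-1056416,10000000,106383,-627178,-26,0])
 (.B 31 (.C [-240,0,-4,-33,0,0])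
 (.B 21 (.C [-9324,100000,-155,-1282,0,0])
 (.B 29 (.C [-240,0,-4,-33,0,0])
 (.B 22 (.C [-240,0,-4,-33,0,0])
 (.B 29 (.C [-7108,100000,1064,-1087,0,0])
 (.B 36 (.C [-119,1000,11,-83,0,0])
 (.B 16 (.B 9 (.B 9 (.C [-20833,100000,-347,3274,0,0])
 (.C [-60,22,-1,-22,0,0]))
 (.C [-60,22,-1,-22,0,0]))
 (.B 28 (.C [-72,1000,11,-12,0,0])
 (.B 4 (.B 14 (.C [-96000,0,-1600,-27280,-1,0])
 (.C [-41436,-75504,-433,-18150,0,-7]))
 (.B 13 (.C [-96000,0,-1600,-27280,-1,0])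
 (.B 31 (.C [-865571,10000000,106383,-454545,0,0])
 (.C [-1708500,-2813250,-30165,-775610,-11,-250]))))))))))))

def tree5_3 : Engine.Tree := .B 38 (.C [-8656,100000,1064,1136,0,0])
 (.B 37 (.C [-894708,10000000,106383,128205,0,0])
 (.B 30 (.C [-638298,10000000,106383,0,0,0])
 (.B 4 (.B 35 (.C [-119,1000,14,17,0,0])
 (.B 11 (.C [-131,22,-2,22,0,0])
 (.B 13 (.C [-180,0,-3,44,0,0])
 (.B 28 (.C [-86,1000,14,0,0,0])
 (.C [-3958678,-10000000,-87006,2000000,0,-536])))))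
 (.B 19 (.B 8 (.C [-1037400,273900,-17290,273900,-9,0])
 (.B 5 (.B 5 (.C [-1020,264,-17,-264,0,0])
 (.C [-780,264,-13,264,0,0]))
 (.C [-780,264,-13,264,0,0])))
 (.B 33 (.C [-120,1000,11,15,0,0])
 (.B 10 (.C [-1037400,0,-17290,273900,-9,0])
 (.B 25 (.C [-780,0,-13,264,0,0])
 (.C [-82645,-100000,-1088,70000,0,-23]))))))))

def tree5_4 : Engine.Tree := .B 43 (.C [-8424,100000,1064,1020,0,0])
 (.B 33 (.C [-115834121,1000000000,10638298,-78006501,-3283,0])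
 (.B 23 (.C [-420,0,-7,66,0,0])
 (.B 21 (.B 9 (.C [-1767677,10000000,-29461,277778,0,0])
 (.B 6 (.B 6 (.C [-1020,264,-17,-264,0,0])
 (.B 4 (.C [-208,1000,-3,28,0,0])
 (.B 6 (.C [-180,44,-3,44,0,0])
 (.B 9 (.C [-60,1,-1,1,0,0])
 (.B 8 (.C [-60,1,-1,1,0,0])
 (.B 7 (.C [-60,1,-1,1,0,0])
 (.C [-60,132,-1,-132,0,0])))))))
 (.B 16 (.C [-60,1,-1,-1,0,0])
 (.B 15 (.C [-60,1,-1,-1,0,0])
 (.C [-60,33,-1,33,0,0])))))
 (.B 29 (.C [-420,0,-7,66,0,0])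
 (tree5_3)))))

def tree5_5 : Engine.Tree := .B 6 (.C [-1020,264,-17,-264,0,0])
 (.B 4 (.B 4 (.C [-196,1000,-3,28,0,0])
 (.B 6 (.C [-208,1000,-3,28,0,0])
 (.B 5 (.C [-208,1000,-3,-28,0,0])
 (.B 3 (.C [-196,1000,-3,-28,0,0])
 (.B 4 (.B 4 (.L)
 (.C [-5,1,-1,1,0,0]))
 (.C [-5,1,-1,1,0,0]))))))
 (.B 6 (.B 6 (.C [-180,44,-3,44,0,0])
 (.B 9 (.C [-60,1,-1,1,0,0])
 (.B 8 (.C [-60,1,-1,1,0,0])
 (.B 7 (.C [-60,1,-1,1,0,0])
 (.C [-60,132,-1,-132,0,0])))))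
 (.B 7 (.C [-60,1,-1,1,0,0])
 (.B 7 (.C [-60,1,-1,1,0,0])
 (.C [-420,264,-7,-264,0,0])))))

def tree5_6 : Engine.Tree := .B 4 (.C [-180,44,-3,44,0,0])
 (.B 6 (.B 14 (.C [-60,1,-1,-1,0,0])
 (.C [-780,264,-13,264,0,0]))
 (.B 5 (.B 8 (.C [-60,1,-1,1,0,0])
 (.B 7 (.C [-60,1,-1,1,0,0])
 (.C [-60,132,-1,-132,0,0])))
 (.B 3 (.B 3 (.C [-196,1000,-3,-28,0,0])
 (.B 4 (.B 4 (.L)
 (.C [-5,1,-1,1,0,0]))
 (.C [-5,1,-1,1,0,0])))
 (.B 8 (.C [-60,1,-1,-1,0,0])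
 (.B 8 (.C [-60,1,-1,-1,0,0])
 (.B 8 (.C [-60,1,-1,-1,0,0])
 (.B 8 (.C [-60,1,-1,-1,0,0])
 (.B 2 (.C [-1020,264,-17,-264,0,0])
 (.C [0,1000,0,29,0,0])))))))))

def tree5_7 : Engine.Tree := .B 22 (.C [-240,0,-4,-33,0,0])
 (.B 37 (.C [-100110966,1000000000,10638298,-54421769,-2290,0])
 (.B 16 (.B 9 (.B 9 (.C [-208,1000,-3,23,0,0])
 (.B 6 (.C [-126,1000,-2,-28,0,0])
 (.B 14 (.C [-97719870,1000000000,-1628664,-27777778,0,0])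
 (.B 4 (.C [-208,1000,-3,23,0,0])
 (.B 6 (.C [-180,44,-3,44,0,0])
 (.B 8 (.C [-60,1,-1,1,0,0])
 (.B 7 (.C [-60,1,-1,1,0,0])
 (.C [-60,132,-1,-132,0,0]))))))))
 (.C [-60,22,-1,-22,0,0]))
 (.B 14 (.C [-43200,0,-720,-7920,-1,0])
 (.B 28 (.C [-73,1000,11,-14,0,0])
 (.B 33 (.C [-119,1000,11,-83,0,0])
 (.B 20 (.C [-240,0,-4,-33,0,0])
 (.C [-32549850,-172824300,-545775,-19667340,-1188,-3125])))))))

def tree5_8 : Engine.Tree := .B 4 (.B 14 (.C [-688,1000,-3,33,0,0])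
 (.B 33 (.C [-1780538,10000000,217391,238095,0,0])
 (.B 11 (.C [-68750,100000,-312,4545,0,0])
 (.B 27 (.C [-1929348,10000000,217391,-1250000,0,0])
 (.B 7 (.C [-208,1000,-3,38,0,0])
 (.B 8 (.C [-68750,100000,-312,4545,0,0])
 (.B 5 (.C [-196,1000,-3,38,0,0])
 (.B 24 (.C [-1304348,10000000,217391,0,0,0])
 (.C [-4669421,-10000000,-95041,2000000,0,-287])))))))))
 (.B 13 (.C [-277200,0,-4620,55880,-1,0])
 (.B 14 (.C [-138,1000,-2,23,0,0])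
 (.B 31 (.C [-136,1000,14,20,0,0])
 (.B 10 (.B 17 (.C [-1714286,10000000,-28571,-384615,0,0])
 (.B 23 (.C [-77688,100000,-202,-5556,0,0])
 (.B 10 (.C [-7035212,10000000,-31250,-349090,-46,0])
 (.C [-60,0,-1,33,0,0]))))
 (.B 25 (.C [7143,100000,1429,50000,0,0])
 (.B 6 (.C [-780,264,-13,264,0,0])
 (.B 21 (.C [-60,0,-1,1,0,0])
 (.B 21 (.C [-60,0,-1,-1,0,0])
 (.B 15 (.C [-76,1000,-1,42,0,0])
 (.C [-19752,-100000,-32,20000,0,-2]))))))))))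

def tree5_9 : Engine.Tree := .B 5 (.B 5 (.B 5 (.L)
 (.B 9 (.L)
 (.B 9 (.L)
 (.B 2 (.L)
 (.C [-45,154,2,154,0,0])))))
 (.B 10 (.C [-1714286,10000000,-28571,-416667,0,0])
 (.B 2 (.B 7 (.L)
 (.B 6 (.L)
 (.C [-60,132,-1,-132,0,0])))
 (.C [-60,88,-1,88,0,0]))))
 (.B 10 (.C [-60,22,-1,-22,0,0])
 (.B 2 (.B 3 (.B 3 (.L)
 (.B 4 (.L)
 (.C [-5,1,-1,1,0,0])))
 (.B 8 (.C [-124,1000,-2,-42,0,0])
 (.B 2 (.C [-60,22,-1,-22,0,0])
 (.C [0,1000,0,42,0,0]))))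
 (.C [-60,88,-1,88,0,0])))

def tree5_10 : Engine.Tree := .B 32 (.B 9 (.C [-59400,990,-990,990,-1,0])
 (.B 4 (.B 2 (.C [-152284264,1000000000,-2538071,-38461538,0,0])
 (.C [-23400,390,-390,-660,-1,0]))
 (.B 5 (.C [-184,1000,-3,-38,0,0])
 (.B 6 (.B 6 (.C [-20833,100000,-347,3846,0,0])
 (.B 8 (.C [-60,1,-1,1,0,0])
 (.B 7 (.C [-60,1,-1,1,0,0])
 (.C [-60,132,-1,-132,0,0]))))
 (.B 7 (.C [-60,1,-1,1,0,0])
 (.C [-61,1000,-1,-38,0,0]))))))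
 (.B 3 (.B 9 (.C [-336000,89760,-5600,89760,-3,0])
 (.B 6 (.B 10 (.C [-1714286,10000000,-28571,416667,-12,0])
 (.B 2 (.C [-17045,100000,-284,-6250,0,0])
 (.C [-158400,2640,-2640,-2640,-17,0])))
 (.B 4 (.C [-60,33,-1,33,0,0])
 (.B 6 (.C [-60,33,-1,33,0,0])
 (tree5_9)))))
 (.C [-159801,10000000,-2663,29297,-11,0]))

def tree5_11 : Engine.Tree := .B 23 (.C [-1582126,10000000,217391,-555556,0,0])
 (.B 6 (.C [-208,1000,-3,62,0,0])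
 (.B 7 (.C [-6875000,10000000,-31250,458333,0,0])
 (.B 24 (.C [-1077075,10000000,217391,454545,0,0])
 (.B 21 (.C [-1929348,10000000,217391,-1250000,0,0])
 (.B 9 (.C [-6875000,10000000,-31250,458333,0,0])
 (.B 21 (.C [-887681,10000000,217391,833333,0,0])
 (.B 4 (.C [-196,1000,-3,62,0,0])
 (.B 7 (.C [-6875000,10000000,-31250,458333,0,0])
 (.B 15 (.C [-121,2,-2,-2,0,0])
 (.B 15 (.C [-718,1000,-2,-56,0,0])
 (.B 4 (.C [-208,1000,-3,71,0,0])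
 (.B 9 (.C [-124,1000,-2,-71,0,0])
 (.B 9 (.C [-124,1000,-2,-71,0,0])
 (.B 1 (.C [-1714286,10000000,-28571,714286,0,0])
 (.C [-160,0,1,352,0,0])))))))))))))))

def tree5_12 : Engine.Tree := .B 12 (.B 3 (.B 3 (.L)
 (.B 5 (.L)
 (.B 4 (.L)
 (.B 7 (.L)
 (.B 7 (.L)
 (.B 5 (.L)
 (.B 1 (.L)
 (.B 3 (.L)
 (.C [-1100,220,-220,220,-13,0])))))))))
 (.B 5 (.B 5 (.L)
 (.B 6 (.L)
 (.C [-60,132,-1,-132,0,0])))
 (.C [-420,264,-7,-264,0,0])))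
 (.B 7 (.C [-334880,0,-1801,-22,-22,0])
 (.B 19 (.C [-603325,10000000,29940,-238095,-83,-721])
 (.B 22 (.C [-401016,10000000,29940,-37040,-56,-539])
 (.B 5 (.C [-316740,33,-5279,-33,-33,0])
 (.B 13 (.B 18 (.C [-1582126,10000000,217391,-555556,0,0])
 (.B 8 (.C [-688,1000,-3,-69,0,0])
 (.B 3 (.C [-196,1000,-3,-62,0,0])
 (.B 17 (.C [109,1000,22,500,0,0])
 (.C [-100000,0,-2003,-78065,0,-6])))))
 (.C [-3078000,0,2670,-3789720,-297,-250]))))))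

def tree5_13 : Engine.Tree := .B 4 (.B 14 (.B 16 (.L)
 (.B 4 (.L)
 (.B 5 (.L)
 (.C [-1684485,517770,8910,-517770,-38,0]))))
 (.B 32 (.C [-232,1000,3,0,0,0])
 (.B 7 (.C [-60,22,-1,-22,0,0])
 (.B 8 (.C [-644,88,1,-88,0,0])
 (.B 29 (.C [-232,1000,3,0,0,0])
 (.B 18 (.B 10 (.L)
 (.B 2 (.L)
 (.B 9 (.L)
 (.B 10 (.L)
 (.C [-1212,264,-7,-264,0,0])))))
 (.C [-390,-660,-1,-132,0,0])))))))
 (.B 13 (.B 25 (.C [-6875000,10000000,-31250,-333333,-43,0])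
 (.B 18 (.C [-96000,27280,-1600,-27280,-1,0])
 (.C [-14400,-105600,-240,2640,-1,0])))
 (.B 24 (.C [-41436,-75504,-433,-18150,0,-7])
 (.B 30 (.C [-11404800,1100880,1100880,1100880,-1591,-26400])
 (.B 19 (.B 19 (.C [-706,1000,-2,36,0,0])
 (.B 10 (.C [-121,2,-2,-2,0,0])
 (tree5_11)))
 (.B 17 (.C [-72,1000,-1,-26,0,0])
 (.B 1 (.C [-135000,66660,-1590,-66660,-1,0])
 (.B 9 (.C [-316740,-1743060,-5279,-33,-33,0])
 (tree5_12))))))))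

def tree5_14 : Engine.Tree := .B 4 (.B 28 (.C [-365479,10000000,29940,-161290,-8,-609])
 (.B 28 (.C [-2543,100000,245,-1923,0,-6])
 (tree5_13)))
 (.B 27 (.C [-2932,100000,279,-1852,0,-7])
 (.B 13 (.C [-235330578512,-1000000000000,-3936524334,-6666666667,-10101010,-239134])
 (.B 24 (.C [-1024920,-43560,-29082,-431244,-33,-200])
 (.B 25 (.C [-3427056,936,936,-936,-936,-7933])
 (.B 17 (.C [-60,22,-1,-22,0,0])
 (.B 18 (.B 29 (.C [-89,1000,14,25,0,0])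
 (.B 18 (.C [-60,0,-1,1,0,0])
 (.B 1 (.B 5 (.C [-21044,1,-1,-1,-1,0])
 (.C [-60,33,-1,33,0,0]))
 (.B 13 (.C [-420,66,-7,66,0,0])
 (.B 19 (.C [-60,0,-1,-1,0,0])
 (.C [-1705496400,-3320460000,-33121440,33121440,-285216,-78275]))))))
 (.C [-158400,-1795200,-2640,-2640,-17,0])))))))

def tree5_15 : Engine.Tree := .B 44 (.B 30 (.C [-83,1000,11,-31,0,0])
 (.B 41 (.C [-153,1000,11,11,0,0])
 (.B 30 (.C [-92,1000,11,-45,0,0])
 (.B 39 (.C [-894708,10000000,106383,128205,0,0])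
 (.B 30 (.C [-113,1000,11,-83,0,0])
 (.B 4 (.B 37 (.C [-119,1000,14,17,0,0])
 (.B 30 (.C [-151,1000,14,-100,0,0])
 (.B 22 (.C [-1000,143,-15,166,0,0])
 (tree5_8))))
 (.B 36 (.C [-65,1000,11,15,0,0])
 (.B 13 (.C [-346761023408,-1000000000000,-5779350390,57684630739,-6955785,0])
 (.B 26 (.C [-420,0,-7,66,0,0])
 (.B 18 (.B 5 (.C [-53475935829,1000000000000,-891265597,15570934256,-2621369,0])
 (.C [-60,33,-1,33,0,0]))
 (.C [-6493500,-38332800,-156225,3904065,-297,-800])))))))))))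
 (.B 77 (.C [-599,1000,-1,-15,0,0])
 (.B 69 (.L)
 (.B 30 (.B 34 (.L)
 (tree5_10))
 (.B 69 (.C [-1000,960,-1,18,0,0])
 (.B 61 (.C [-1038600,64160,64160,-7260,-11,-800])
 (.B 5 (.B 28 (.C [-4037,100000,279,-1351,0,-5])
 (.B 38 (.C [-1166545,10000000,27933,217391,-9,-535])
 (.B 28 (.C [-5214,100000,279,-1562,0,-6])
 (.B 36 (.C [-908807,10000000,27933,-8013,-12,-333])
 (tree5_14)))))
 (.B 47 (.C [-1803600,-5227200,-33060,-130680,-77,-50])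
 (.C [-72727272727,-1000000000000,-1212121212,13333333333,-5050505,0]))))))))

def tree5_16 : Engine.Tree := .B 36 (.B 25 (.L)
 (.B 35 (.L)
 (.B 35 (.L)
 (.B 13 (.B 11 (.C [-277200,55880,-4620,55880,-1,0])
 (.B 17 (.C [-96000,27280,-1600,-27280,-1,0])
 (.B 16 (.C [-96000,27280,-1600,-27280,-1,0])
 (.B 2 (.B 9 (.C [-1704545,10000000,-28409,-312500,-39,0])
 (.C [-60,22,-1,-22,0,0]))
 (.C [-639205,10000000,-10653,117188,-44,0])))))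
 (.B 23 (.L)
 (.B 16 (.L)
 (.B 24 (tree5_5)
 (.B 23 (.B 6 (.C [-1020,264,-17,-264,0,0])
 (tree5_6))
 (.C [-37800,19140,-630,-19140,-1,0])))))))))
 (.B 8 (.L)
 (.B 74 (.C [-563,1000,-1,14,0,0])
 (.B 67 (.L)
 (.B 51 (.B 31 (.C [-106,1000,11,-10,0,0])
 (.B 42 (.C [-15846,1,1,-23760,-1,0])
 (.B 31 (.C [-7108,100000,1064,-1087,0,0])
 (.B 40 (.C [-882200,10000000,106383,-365854,-15,0])
 (.B 31 (.C [-72,1000,11,-12,0,0])
 (tree5_7))))))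
 (tree5_15)))))

def tree5_17 : Engine.Tree := .B 11 (.B 13 (.L)
 (.B 13 (.L)
 (.B 23 (.L)
 (.B 22 (.L)
 (.B 13 (.L)
 (.B 11 (.L)
 (.B 12 (.L)
 (.C [-1326,132,1,132,0,0]))))))))
 (.B 55 (.B 46 (.C [-88533853112,1000000000000,10638297872,-37056098816,-1559600,0])
 (.B 23 (.C [-240,0,-4,-33,0,0])
 (.B 33 (.C [-6978,100000,1064,-893,0,0])
 (.B 33 (.C [-7037,100000,1064,-980,0,0])
 (tree5_2)))))
 (.B 46 (.B 33 (.C [-91,1000,11,-45,0,0])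
 (.B 33 (.C [-113,1000,11,-83,0,0])
 (tree5_4)))
 (.B 84 (.C [-121,2,-2,-2,0,0])
 (tree5_16))))

def tree5_18 : Engine.Tree := .B 59 (.B 23 (.C [-240,0,-4,-33,0,0])
 (.B 47 (.C [-115834121,1000000000,10638298,-78006501,-3283,0])
 (tree5_0)))
 (.B 48 (.B 35 (.C [-113,1000,11,-83,0,0])
 (.B 33 (.C [-420,0,-7,66,0,0])
 (.B 34 (.C [-1263298,10000000,106383,-937500,-39,0])
 (.B 23 (.C [-420,0,-7,66,0,0])
 (.B 43 (.C [-82348306,1000000000,10638298,9259259,0,0])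
 (tree5_1))))))
 (.B 14 (.B 25 (.L)
 (.C [-3972,264,13,-264,0,0]))
 (.B 72 (.L)
 (.B 80 (.C [-563,1000,-1,9,0,0])
 (.B 90 (.C [-560433917,1000000000,-866551,-9259259,0,0])
 (.B 78 (.L)
 (.B 79 (.C [-590,1000,-1,11,0,0])
 (tree5_17))))))))

def tree5_19 : Engine.Tree := .B 78 (.L)
 (.B 87 (.L)
 (.B 88 (.C [-551993068,1000000000,-866551,7575758,0,0])
 (.B 86 (.L)
 (.B 99 (.C [-554646880,1000000000,-866551,-7812500,0,0])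
 (.B 1 (.B 26 (.L)
 (.B 13 (.L)
 (.B 24 (.L)
 (.B 13 (.L)
 (.B 22 (.L)
 (.B 21 (.L)
 (.B 6 (.L)
 (.C [-6948052,10000000,7215,-238095,0,0]))))))))
 (.B 76 (.C [-31415344,1000000000,2314815,-202087,-306,-40826])
 (.B 10 (.L)
 (tree5_18))))))))

def tree5_20 : Engine.Tree := .B 94 (.L)
 (.B 78 (.L)
 (.B 78 (.L)
 (.B 91 (.L)
 (.B 114 (.C [-551993068,1000000000,-866551,-4385965,0,0])
 (.B 113 (.C [-551993068,1000000000,-866551,-4807692,0,0])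
 (.B 92 (.C [-551993068,1000000000,-866551,4716981,0,0])
 (.B 92 (.C [-551993068,1000000000,-866551,5208333,0,0])
 (.B 90 (.L)
 (.B 78 (.L)
 (.B 90 (.C [-551993068,1000000000,-866551,5813953,0,0])
 (.B 90 (.C [-551993068,1000000000,-866551,6578947,0,0])
 (.B 104 (.C [-551993068,1000000000,-866551,-6756757,0,0])
 (.B 105 (.C [-551993068,1000000000,-866551,-5319149,0,0])
 (.B 104 (.C [-551993068,1000000000,-866551,-5952381,0,0])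
 (tree5_19)))))))))))))))

/-- A certificate. -/
def tree5 : Engine.Tree := tree5_20

theorem gen5_eq : gen5 = items5 := by decide +kernel

theorem items5_ok : items5.all (fun a => (It.vec5 a).length == 6 &&
    Engine.nonneg [true, true, false, false, false, true] (It.vec5 a)) = true := by decide +kernel

theorem check5 : Engine.check [true, true, false, false, false, true]
    [false, false, false, false, true, true] It.vec5 (fun _ => false) tree5 items5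
    [18, 1, -2, -4, -506880, 95039] [] = true := by decide +kernel

end Cfsg.Agent.Lib.Recog95040.Cert
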