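import Mathlib
import Cfsg.Agent.Lib.Chars.DefectZero
import Cfsg.Agent.Lib.M11Degrees.Values
import Cfsg.Agent.Lib.SmallGroups.PrimeSylow
import Cfsg.Agent.Lib.Recog95040.XCol
import Cfsg.Agent.Lib.Recog95040.Tools

/-!
Degrees, the column of an element of order five, and the passage from characters to rows.
-/

set_option autoImplicit false
set_option linter.style.haveILetI false

namespace Cfsg.Agent.Lib.Recog95040

open Cfsg Subgroup
open Cfsg.Agent.Lib.Chars Cfsg.Agent.Lib.SmallGroups Cfsg.Agent.Lib.SmallGroups.PrimeChar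
open scoped ComplexConjugate

universe u

variable {G : Type u} [Group G]

theorem eq_four_or_sq : ∀ u : ZMod 5, u ≠ 0 → u ≠ 1 → u = 4 ∨ u * u = 4 := by decide

theorem not_comm_of_isM12 [Finite G] (hG : IsM12 G) : ¬ IsMulCommutative G :=
  haveI := hG.1
  not_isMulCommutative_of_not_prime (by rw [hG.2]; norm_num)

/-- An element of order five is conjugate to its inverse. -/
theorem isConj_inv_five [Finite G] (hG : IsM12 G) [Fact (Nat.Prime 5)] {y : G}
    (hy : orderOf y = 5) : IsConj y y⁻¹ := by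
  classical
  haveI := hG.1
  haveI := Fintype.ofFinite G
  obtain ⟨P, hP⟩ : ∃ P : Sylow 5 G, (P : Subgroup G) = zpowers y := by
    obtain ⟨Q, hQ⟩ := (IsPGroup.of_card (n := 1)
      (by rw [Nat.card_zpowers, hy, pow_one]) : IsPGroup 5 (zpowers y)).exists_le_sylow
    refine ⟨Q, (Subgroup.eq_of_le_of_card_ge hQ (le_of_eq ?_)).symm⟩
    rw [Q.card_eq_multiplicity, Nat.card_zpowers, hy, hG.2,
      show (95040 : ℕ) = 5 * 19008 from rfl, Nat.factorization_mul (by norm_num) (by norm_num),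
      Finsupp.add_apply, Nat.Prime.factorization_self (by norm_num),
      Nat.factorization_eq_zero_of_not_dvd (by norm_num)]
    norm_num
  have hc : Nat.card (P : Subgroup G) = 5 := by rw [hP, Nat.card_zpowers, hy]
  obtain ⟨e, -, he1, -, he⟩ := exists_card_normalizer_eq_of_simple (not_comm_of_isM12 hG) P hc
  have hy1 : y ≠ 1 := by rintro rfl; simp at hy
  rw [← centralizer_eq_of_prime hc (hP ▸ mem_zpowers y) hy1, hP] at he
  have h := card_normalizer_zpowers (p := 5) hy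
  rw [he] at h
  obtain ⟨u, hu, hu1⟩ : ∃ u ∈ fusion 5 y, u ≠ 1 := by
    by_contra hcon
    push Not at hcon
    have h1 : (fusion 5 y).card = 1 :=
      Finset.card_eq_one.mpr ⟨1, Finset.eq_singleton_iff_unique_mem.mpr ⟨one_mem_fusion, hcon⟩⟩
    have hpos : 0 < Nat.card (centralizer ({y} : Set G)) := Nat.card_pos
    rw [h1] at h
    exact he1 (Nat.eq_of_mul_eq_mul_right hpos (by linarith [h]))
  have hu0 := ne_zero_of_mem_fusion hy hu
  have h4 : (4 : ZMod 5) ∈ fusion 5 y := by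
    have h2 := mul_mem_fusion hy hu hu
    rcases eq_four_or_sq u hu0 hu1 with h3 | h3
    · exact h3 ▸ hu
    · exact h3 ▸ h2
  have h5 := mem_fusion.mp h4
  rwa [show xp 5 y 4 = y⁻¹ by
    rw [eq_inv_iff_mul_eq_one, xp, show (4 : ZMod 5).val = 4 from rfl, ← pow_succ]
    exact orderOf_dvd_iff_pow_eq_one.mp (dvd_of_eq hy)] at h5

/-- Sums over a cyclic subgroup. -/
theorem sum_zpowers [Finite G] (g : G) [Fintype (zpowers g)] (f : G → ℂ) :
    ∑ z : zpowers g, f z = ∑ i ∈ Finset.range (orderOf g), f (g ^ i) := by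
  rw [← Fin.sum_univ_eq_sum_range]
  exact (Fintype.sum_equiv (finEquivZPowers (isOfFinOrder_of_finite g)) (fun i => f (g ^ (i : ℕ)))
    (fun z => f z) fun i => by rw [finEquivZPowers_apply]).symm

variable [Fintype G]

/-- Basic data of a character degree. -/
theorem exists_degree (hG : IsM12 G) (χ : IrrCharacter G) :
    ∃ d : ℕ, (χ : G → ℂ) 1 = d ∧ d ∣ 95040 ∧ 0 < d ∧ (χ ≠ trivialIrr G → 2 ≤ d) ∧
      d * d ≤ 95040 := by
  haveI := hG.1
  obtain ⟨d, hd0, hd, hdvd⟩ := irr_degree_dvd_card χ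
  refine ⟨d, hd, hG.2 ▸ hdvd, hd0, fun hne => ?_, ?_⟩
  · by_contra h
    refine hne (M11Degrees.eq_trivial_of_degree_one (not_comm_of_isM12 hG) χ ?_)
    rw [hd, show d = 1 by omega, Nat.cast_one]
  · choose n hn0 hn hn' using fun χ : IrrCharacter G => irr_degree_dvd_card χ
    have h : ∑ ψ : IrrCharacter G, n ψ * n ψ = 95040 := by
      have h' := sum_degree_sq (G := G)
      simp only [hn, hG.2] at h'
      rw [← Nat.cast_inj (R := ℂ), Nat.cast_sum]
      simpa [sq] using h'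
    have h2 : n χ = d := by exact_mod_cast (hn χ).symm.trans hd
    rw [← h2, ← h]
    exact Finset.single_le_sum (f := fun ψ => n ψ * n ψ) (fun i _ => Nat.zero_le _)
      (Finset.mem_univ χ)

/-- The degree as an integer. -/
noncomputable def deg (hG : IsM12 G) (χ : IrrCharacter G) : ℕ := (exists_degree hG χ).choose

theorem deg_spec (hG : IsM12 G) (χ : IrrCharacter G) :
    (χ : G → ℂ) 1 = deg hG χ ∧ deg hG χ ∣ 95040 ∧ 0 < deg hG χ ∧
      (χ ≠ trivialIrr G → 2 ≤ deg hG χ) ∧ deg hG χ * deg hG χ ≤ 95040 :=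
  (exists_degree hG χ).choose_spec

theorem deg_trivial (hG : IsM12 G) : deg hG (trivialIrr G) = 1 := by
  have h := (deg_spec hG (trivialIrr G)).1
  rw [trivialIrr_apply] at h
  exact_mod_cast h.symm

theorem deg_conj (hG : IsM12 G) (χ : IrrCharacter G) : deg hG (irrConj χ) = deg hG χ := by
  have h := (deg_spec hG (irrConj χ)).1
  rw [irrConj_apply, (deg_spec hG χ).1, Complex.conj_natCast] at h
  exact_mod_cast h.symm

theorem sum_deg_sq (hG : IsM12 G) : ∑ χ, (deg hG χ : ℤ) * deg hG χ = 95040 := by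
  have h := sum_degree_sq (G := G)
  simp only [(deg_spec hG _).1, hG.2] at h
  apply Int.cast_injective (α := ℂ)
  push_cast
  simpa [sq] using h

/-- The trace data at an element of order five. -/
theorem exists_fiveSum (hG : IsM12 G) [Fact (Nat.Prime 5)] {y : G} (hy : orderOf y = 5)
    (χ : IrrCharacter G) :
    ∃ a : ℤ, (χ : G → ℂ) y + (χ : G → ℂ) (y ^ 2) = a ∧
      (∀ [Fintype (zpowers y)], ∑ z : zpowers y, (χ : G → ℂ) z = ((deg hG χ : ℤ) + 2 * a : ℤ)) ∧
      (5 : ℤ) ∣ (deg hG χ : ℤ) + 2 * a ∧ 0 ≤ (deg hG χ : ℤ) + 2 * a ∧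
      (5 ∣ deg hG χ → a = 0) := by
  classical
  have hy5 : y ^ 5 = 1 := orderOf_dvd_iff_pow_eq_one.mp (dvd_of_eq hy)
  have hconj := isConj_inv_five hG hy
  have h4 : (χ : G → ℂ) (y ^ 4) = (χ : G → ℂ) y := by
    rw [show y ^ 4 = y⁻¹ by rw [eq_inv_iff_mul_eq_one, ← pow_succ]; exact hy5]
    exact (isClassFunction_apply_eq (irr_isClassFunction χ) hconj).symm ▸ rfl
  have h3 : (χ : G → ℂ) (y ^ 3) = (χ : G → ℂ) (y ^ 2) := by
    rw [show y ^ 3 = (y⁻¹) ^ 2 by rw [inv_pow, eq_inv_iff_mul_eq_one, ← pow_add]; exact hy5]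
    exact (isClassFunction_apply_eq (irr_isClassFunction χ)
      (PrimeChar.isConj_pow hconj 2)).symm ▸ rfl
  have hsum : ∀ [Fintype (zpowers y)], ∑ z : zpowers y, (χ : G → ℂ) z =
      (deg hG χ : ℂ) + 2 * ((χ : G → ℂ) y + (χ : G → ℂ) (y ^ 2)) := by
    intro _
    rw [sum_zpowers, hy]
    simp only [Finset.sum_range_succ, Finset.sum_range_zero, pow_zero, pow_one, h3, h4,
      (deg_spec hG χ).1]
    ring
  obtain ⟨k, hk⟩ := CharCount.exists_nat_sum_subgroup χ (zpowers y)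
  rw [hsum, Nat.card_zpowers, hy] at hk
  obtain ⟨a, ha⟩ := exists_int_eq_of_isIntegral
    ((irr_isIntegral χ y).add (irr_isIntegral χ (y ^ 2))) (((5 * k : ℚ) - deg hG χ) / 2)
    (by push_cast at hk ⊢; linear_combination hk / 2)
  rw [ha] at hk
  have hk' : (deg hG χ : ℤ) + 2 * a = 5 * k := by exact_mod_cast hk
  refine ⟨a, ha, fun {_} => ?_, ⟨k, hk'⟩, by omega, fun h5 => ?_⟩
  · rw [hsum, ha]; push_cast; ring
  · obtain ⟨n, ρ, hρ, hχ⟩ := χ.2
    haveI := hρ
    have hdeg : 5 ^ 1 ∣ Module.finrank ℂ (Fin n → ℂ) := by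
      have : ((Module.finrank ℂ (Fin n → ℂ) : ℕ) : ℂ) = (deg hG χ : ℂ) := by
        rw [← (deg_spec hG χ).1, ← hχ, Representation.char_one]
      rw [pow_one, show Module.finrank ℂ (Fin n → ℂ) = deg hG χ by exact_mod_cast this]
      exact h5
    have hz : ∀ g : G, orderOf g = 5 → (χ : G → ℂ) g = 0 := fun g hg => by
      rw [← hχ]
      exact char_eq_zero_of_defect_zero ρ (p := 5) (n := 1) (by norm_num)
        (by rw [hG.2]; norm_num) (by rw [hG.2]; norm_num) hdeg g (by rw [hg])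
    have hy2 : orderOf (y ^ 2) = 5 := by
      rw [orderOf_pow' y (by norm_num), hy]; rfl
    rw [hz y hy, hz _ hy2, add_zero] at ha
    exact_mod_cast ha.symm

/-- The sum at an element of order five. -/
noncomputable def fiveSum (hG : IsM12 G) [Fact (Nat.Prime 5)] {y : G} (hy : orderOf y = 5)
    (χ : IrrCharacter G) : ℤ := (exists_fiveSum hG hy χ).choose

theorem fiveSum_spec (hG : IsM12 G) [Fact (Nat.Prime 5)] {y : G} (hy : orderOf y = 5)
    (χ : IrrCharacter G) :
    (χ : G → ℂ) y + (χ : G → ℂ) (y ^ 2) = fiveSum hG hy χ ∧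
      (∀ [Fintype (zpowers y)],
        ∑ z : zpowers y, (χ : G → ℂ) z = ((deg hG χ : ℤ) + 2 * fiveSum hG hy χ : ℤ)) ∧
      (5 : ℤ) ∣ (deg hG χ : ℤ) + 2 * fiveSum hG hy χ ∧
      0 ≤ (deg hG χ : ℤ) + 2 * fiveSum hG hy χ ∧ (5 ∣ deg hG χ → fiveSum hG hy χ = 0) :=
  (exists_fiveSum hG hy χ).choose_spec

theorem fiveSum_trivial (hG : IsM12 G) [Fact (Nat.Prime 5)] {y : G} (hy : orderOf y = 5) :
    fiveSum hG hy (trivialIrr G) = 2 := by
  have h := (fiveSum_spec hG hy (trivialIrr G)).1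
  rw [trivialIrr_apply, trivialIrr_apply] at h
  have : ((fiveSum hG hy (trivialIrr G) : ℤ) : ℂ) = ((2 : ℤ) : ℂ) := by
    rw [← h]; norm_num
  exact_mod_cast this

theorem fiveSum_conj (hG : IsM12 G) [Fact (Nat.Prime 5)] {y : G} (hy : orderOf y = 5)
    (χ : IrrCharacter G) : fiveSum hG hy (irrConj χ) = fiveSum hG hy χ := by
  have h := (fiveSum_spec hG hy (irrConj χ)).1
  rw [irrConj_apply, irrConj_apply, ← map_add, (fiveSum_spec hG hy χ).1, map_intCast] at h
  exact_mod_cast h.symm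

/-- The bound of the sum at an element of order five normalizing `⟨x⟩`. -/
theorem fiveSum_le (hG : IsM12 G) [Fact (Nat.Prime 5)] {x y : G} (X : XCol x)
    (hx : orderOf x = 11) (hC : Nat.card (centralizer ({x} : Set G)) = 11)
    (hN : Nat.card (normalizer ((zpowers x : Subgroup G) : Set G)) = 55)
    (hy : orderOf y = 5) (hyN : y ∈ normalizer ((zpowers x : Subgroup G) : Set G))
    (χ : IrrCharacter G) :
    -(2 * (X.m χ : ℤ)) ≤ fiveSum hG hy χ ∧ fiveSum hG hy χ ≤ 2 * (X.m χ : ℤ) := by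
  classical
  set F := normalizer ((zpowers x : Subgroup G) : Set G) with hF
  have hxF : zpowers x ≤ F := le_normalizer
  have hcx : Nat.card (zpowers x) = 11 := by rw [Nat.card_zpowers, hx]
  have hCx : centralizer ({x} : Set G) = zpowers x :=
    (Subgroup.eq_of_le_of_card_ge (zpowers_le.mpr (mem_centralizer_singleton_iff.mpr rfl))
      (by rw [hC, hcx])).symm
  let f : zpowers x × Fin 5 → F := fun z =>
    ⟨(z.1 : G) * y ^ (z.2 : ℕ), mul_mem (hxF z.1.2) (pow_mem hyN _)⟩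
  have hyx : ∀ i : ℕ, y ^ i ∈ zpowers x → y ^ i = 1 := by
    intro i hi
    have h1 := orderOf_dvd_natCard (⟨_, hi⟩ : zpowers x)
    rw [hcx, Subgroup.orderOf_mk] at h1
    have h2 : orderOf (y ^ i) ∣ 5 := orderOf_dvd_of_pow_eq_one (by
      rw [← pow_mul, mul_comm, pow_mul, orderOf_dvd_iff_pow_eq_one.mp (dvd_of_eq hy), one_pow])
    exact orderOf_eq_one_iff.mp (Nat.eq_one_of_dvd_coprimes (by norm_num) h1 h2)
  have hf : Function.Bijective f := by
    rw [Fintype.bijective_iff_injective_and_card]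
    refine ⟨?_, ?_⟩
    · rintro ⟨z, i⟩ ⟨z', i'⟩ h
      have h' : (z : G) * y ^ (i : ℕ) = z' * y ^ (i' : ℕ) := congrArg Subtype.val h
      have key : ∀ {a b : ℕ}, a ≤ b → b < 5 → ∀ {c d : zpowers x},
          (c : G) * y ^ a = d * y ^ b → a = b := by
        intro a b hab hb c d hcd
        have h3 : y ^ (b - a) = (d : G)⁻¹ * c := by
          rw [eq_inv_mul_iff_mul_eq]
          apply mul_right_cancel (b := y ^ a)
          rw [mul_assoc, ← pow_add, Nat.sub_add_cancel hab, hcd]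
        have h4 := hyx (b - a) (h3 ▸ mul_mem (inv_mem d.2) c.2)
        have h5 : orderOf y ∣ b - a := orderOf_dvd_of_pow_eq_one h4
        rw [hy] at h5
        omega
      have hii : (i : ℕ) = i' := by
        rcases le_total (i : ℕ) i' with hle | hle
        · exact key hle i'.2 h'
        · exact (key hle i.2 h'.symm).symm
      rw [hii, mul_left_inj] at h'
      exact Prod.ext (Subtype.ext h') (Fin.ext hii)
    · rw [Fintype.card_prod, ← Nat.card_eq_fintype_card, hcx, Fintype.card_fin,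
        ← Nat.card_eq_fintype_card, hN]
  have hval : ∀ i : ℕ, ¬ 5 ∣ i → ∀ z : zpowers x, (χ : G → ℂ) ((z : G) * y ^ i) =
      (χ : G → ℂ) (y ^ i) := by
    intro i hi z
    have hyi : y ^ i ∈ F := pow_mem hyN i
    have hmem : ∀ c : zpowers x, (c : G) * y ^ i * (c : G)⁻¹ * (y ^ i)⁻¹ ∈ zpowers x := fun c => by
      have h1 : y ^ i * (c : G)⁻¹ * (y ^ i)⁻¹ ∈ zpowers x :=
        (mem_normalizer_iff.mp hyi _).mp (inv_mem c.2)
      simpa [mul_assoc] using mul_mem c.2 h1
    let φ : zpowers x → zpowers x := fun c => ⟨_, hmem c⟩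
    have hφ : Function.Injective φ := by
      intro c d h
      have h' : (c : G) * y ^ i * (c : G)⁻¹ * (y ^ i)⁻¹ = d * y ^ i * (d : G)⁻¹ * (y ^ i)⁻¹ :=
        congrArg Subtype.val h
      rw [mul_left_inj] at h'
      have hcomm : Commute ((d : G)⁻¹ * c) (y ^ i) := by
        show (d : G)⁻¹ * c * y ^ i = y ^ i * ((d : G)⁻¹ * c)
        calc (d : G)⁻¹ * c * y ^ i = (d : G)⁻¹ * ((c : G) * y ^ i * (c : G)⁻¹) * c := by group
          _ = y ^ i * ((d : G)⁻¹ * c) := by rw [h']; group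
      have hdc : (d : G)⁻¹ * c ∈ zpowers x := mul_mem (inv_mem d.2) c.2
      by_contra hne
      have hne1 : (d : G)⁻¹ * c ≠ 1 := fun h1 => hne (Subtype.ext (inv_mul_eq_one.mp h1).symm)
      haveI : Fact (Nat.Prime 11) := ⟨by norm_num⟩
      have h2 : y ^ i ∈ centralizer ({x} : Set G) := by
        rw [centralizer_eq_of_prime hcx (mem_zpowers x) (by rintro rfl; simp at hx),
          ← centralizer_eq_of_prime hcx hdc hne1, mem_centralizer_singleton_iff]
        exact hcomm.eq.symm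
      rw [hCx] at h2
      have h3 : orderOf y ∣ i := orderOf_dvd_of_pow_eq_one (hyx i h2)
      rw [hy] at h3
      exact hi h3
    obtain ⟨c, hc⟩ := (Finite.injective_iff_surjective.mp hφ) z
    have hc' : (c : G) * y ^ i * (c : G)⁻¹ * (y ^ i)⁻¹ = z := congrArg Subtype.val hc
    rw [← hc', inv_mul_cancel_right]
    exact irr_isClassFunction χ (y ^ i) c
  have hsumF : ∑ z : F, (χ : G → ℂ) z =
      (11 : ℂ) * (X.m χ : ℂ) + 22 * (fiveSum hG hy χ : ℂ) := by
    rw [← (Equiv.ofBijective f hf).sum_comp, Fintype.sum_prod_type, Finset.sum_comm,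
      Fin.sum_univ_five]
    simp only [Equiv.ofBijective_apply, f, Fin.val_zero, pow_zero, mul_one]
    rw [X.fix_sum χ, Finset.sum_congr rfl fun z _ => hval _ (by decide : ¬ 5 ∣ ((1 : Fin 5) : ℕ)) z,
      Finset.sum_congr rfl fun z _ => hval _ (by decide : ¬ 5 ∣ ((2 : Fin 5) : ℕ)) z,
      Finset.sum_congr rfl fun z _ => hval _ (by decide : ¬ 5 ∣ ((3 : Fin 5) : ℕ)) z,
      Finset.sum_congr rfl fun z _ => hval _ (by decide : ¬ 5 ∣ ((4 : Fin 5) : ℕ)) z]
    simp only [Finset.sum_const, Finset.card_univ, ← Nat.card_eq_fintype_card, hcx, nsmul_eq_mul]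
    have hs := (fiveSum_spec hG hy χ).2.1
    rw [sum_zpowers, hy] at hs
    simp only [Finset.sum_range_succ, Finset.sum_range_zero, pow_zero, (deg_spec hG χ).1] at hs
    push_cast at hs ⊢
    rw [show ((1 : Fin 5) : ℕ) = 1 from rfl, show ((2 : Fin 5) : ℕ) = 2 from rfl,
      show ((3 : Fin 5) : ℕ) = 3 from rfl, show ((4 : Fin 5) : ℕ) = 4 from rfl]
    linear_combination (11 : ℂ) * hs
  obtain ⟨k, hk⟩ := exists_nat_average_sub χ hxF
  obtain ⟨c, hc⟩ := CharCount.exists_nat_sum_subgroup χ F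
  rw [hsumF, hN] at hc
  rw [X.fix_sum χ, hsumF, hN, hcx] at hk
  have h1 : 4 * (X.m χ : ℤ) - 2 * fiveSum hG hy χ = 5 * (k : ℤ) := by
    apply Int.cast_injective (α := ℂ)
    push_cast at hk ⊢
    linear_combination (5 : ℂ) * hk
  have h2 : (X.m χ : ℤ) + 2 * fiveSum hG hy χ = 5 * (c : ℤ) := by
    apply Int.cast_injective (α := ℂ)
    push_cast at hc ⊢
    linear_combination (1 / 11 : ℂ) * hc
  omega

end Cfsg.Agent.Lib.Recog95040
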