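import Mathlib
import Cfsg.Agent.Lib.Recog95040.CertFive
import Cfsg.Agent.Lib.Recog95040.Degrees
import Cfsg.Agent.Lib.Recog95040.Passage

/-!
A simple group of order 95040 has more than 396 Sylow 5-subgroups.
-/

set_option autoImplicit false
set_option linter.style.haveILetI false

namespace Cfsg.Agent.Lib.Recog95040

open Cfsg Subgroup
open Cfsg.Agent.Lib.Chars Cfsg.Agent.Lib.SmallGroups

universe u

variable {G : Type u} [Group G] [Fintype G]

/-- The common facts about a row. -/
theorem row_facts (hG : IsM12 G) {x : G} (X : XCol x) {χ : IrrCharacter G} (hχ : χ ∈ X.reps) :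
    (2 ≤ (deg hG χ : ℤ) ∧ (deg hG χ : ℤ) ≤ 308) ∧ (-4 ≤ X.u χ ∧ X.u χ ≤ 4) ∧
      okKind (deg hG χ) (X.u χ) = true ∧ It.m (deg hG χ) (X.u χ) = X.m χ := by
  obtain ⟨hd, hdvd, hd0, hd2, hdsq⟩ := deg_spec hG χ
  have h2 := hd2 (X.mem_reps hχ)
  have h308 : deg hG χ ≤ 308 := by nlinarith
  have hu := X.item_le (fun ψ => X.u ψ * X.u ψ) (fun ψ => mul_self_nonneg _)
    (fun ψ => by simp only [X.u_conj]) hχ
  simp only [X.sq, X.u_trivial] at hu
  have hu2 : 0 ≤ X.u χ % 2 := Int.emod_nonneg _ two_ne_zero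
  have hu' : X.u χ * X.u χ ≤ 18 := by nlinarith [mul_self_nonneg (X.u χ)]
  have hub : -4 ≤ X.u χ ∧ X.u χ ≤ 4 := by constructor <;> nlinarith
  have hdeg := X.deg χ _ hd
  have hm : It.m (deg hG χ) (X.u χ) = X.m χ := by
    rw [It.m, hdeg, Int.mul_ediv_cancel_left _ (by norm_num)]
  refine ⟨⟨by omega, by omega⟩, hub, ?_, hm⟩
  have hb := X.bound χ
  have hdd := X.item_le (fun ψ => (deg hG ψ : ℤ) * deg hG ψ) (fun ψ => mul_self_nonneg _)
    (fun ψ => by simp only [deg_conj]) hχ
  simp only [sum_deg_sq, deg_trivial] at hdd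
  simp only [okKind, Bool.and_eq_true, Bool.or_eq_true, decide_eq_true_eq, hm]
  refine ⟨⟨⟨⟨?_, by omega⟩, by omega⟩, by omega⟩, ?_⟩
  · exact Int.emod_eq_zero_of_dvd (by exact_mod_cast hdvd)
  · by_cases h : X.u χ % 2 = 0
    · exact Or.inl h
    · right
      rw [show X.u χ % 2 = 1 by omega] at hdd
      push_cast at hdd
      linarith

theorem cast_card_div (hG : IsM12 G) (χ : IrrCharacter G) :
    (((95040 : ℤ) / (deg hG χ : ℤ) : ℤ) : ℂ) = 95040 / (χ : G → ℂ) 1 := by
  obtain ⟨hd, hdvd, hd0, -, -⟩ := deg_spec hG χ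
  rw [Int.cast_div (by exact_mod_cast hdvd) (by exact_mod_cast hd0.ne'), hd]
  norm_num

/-- The inequality from the pairs of elements of order five with product `x`. -/
theorem five_weight_le (hG : IsM12 G) [Fact (Nat.Prime 5)] {x y : G} (X : XCol x)
    (hx : orderOf x = 11) (hC : Nat.card (centralizer ({x} : Set G)) = 11)
    (hN : Nat.card (normalizer ((zpowers x : Subgroup G) : Set G)) = 55)
    (hy : orderOf y = 5) :
    22 * 95040 * 95040 ≤ (Nat.card (Sylow 5 G) : ℤ) * Nat.card (Sylow 5 G) *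
      ∑ χ, fiveSum hG hy χ * fiveSum hG hy χ * X.u χ * (95040 / (deg hG χ : ℤ)) := by
  classical
  set A : Finset G := Finset.univ.filter fun g => orderOf g = 5 with hA
  have hAc : ∀ (g : G), ∀ a ∈ A, g * a * g⁻¹ ∈ A := by
    intro g a ha
    simp only [hA, Finset.mem_filter, Finset.mem_univ, true_and] at ha ⊢
    rwa [← MulAut.conj_apply, MulEquiv.orderOf_eq]
  obtain ⟨P⟩ := (inferInstance : Nonempty (Sylow 5 G))
  have hP : Nat.card (P : Subgroup G) = 5 := by
    rw [P.card_eq_multiplicity, hG.2, show (95040 : ℕ) = 5 * 19008 from rfl,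
      Nat.factorization_mul (by norm_num) (by norm_num), Finsupp.add_apply,
      Nat.Prime.factorization_self (by norm_num), Nat.factorization_eq_zero_of_not_dvd (by norm_num)]
    norm_num
  have hcard : A.card = 4 * Nat.card (Sylow 5 G) := by
    rw [hA, ← Fintype.card_subtype, ← Nat.card_eq_fintype_card, card_orderOf_eq_prime P hP]
    omega
  -- the sum over the elements of order five
  have hgen : ∀ g ∈ A, ∀ χ : IrrCharacter G, ∃ h : G, orderOf h = 5 ∧
      zpowers h = zpowers y ∧ (χ : G → ℂ) g = (χ : G → ℂ) h ∧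
      (χ : G → ℂ) (g ^ 2) = (χ : G → ℂ) (h ^ 2) := by
    intro g hg χ
    simp only [hA, Finset.mem_filter, Finset.mem_univ, true_and] at hg
    obtain ⟨P₁, hP₁, -⟩ := existsUnique_sylow_of_orderOf P hP hg
    obtain ⟨P₂, hP₂, -⟩ := existsUnique_sylow_of_orderOf P hP hy
    obtain ⟨c, hc⟩ := MulAction.exists_smul_eq G P₁ P₂
    have hmem : c * g * c⁻¹ ∈ (P₂ : Subgroup G) := by
      rw [← hc, Sylow.coe_subgroup_smul]
      exact Subgroup.smul_mem_pointwise_smul g (MulAut.conj c) _ (hP₁ ▸ mem_zpowers g)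
    have ho : orderOf (c * g * c⁻¹) = 5 := by rw [← MulAut.conj_apply, MulEquiv.orderOf_eq, hg]
    refine ⟨_, ho, ?_, (irr_isClassFunction χ g c).symm, ?_⟩
    · rw [hP₂] at hmem
      exact Subgroup.eq_of_le_of_card_ge (zpowers_le.mpr hmem)
        (by rw [Nat.card_zpowers, Nat.card_zpowers, ho, hy])
    · rw [conj_pow]
      exact (irr_isClassFunction χ (g ^ 2) c).symm
  have hpair : ∀ g ∈ A, ∀ χ : IrrCharacter G,
      (χ : G → ℂ) g + (χ : G → ℂ) (g ^ 2) = (fiveSum hG hy χ : ℂ) := by
    intro g hg χ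
    obtain ⟨h, hh, hz, h1, h2⟩ := hgen g hg χ
    rw [h1, h2, (fiveSum_spec hG hh χ).1]
    have e1 := (fiveSum_spec hG hh χ).2.1
    have e2 := (fiveSum_spec hG hy χ).2.1
    rw [sum_zpowers] at e1 e2
    have e3 : ∑ i ∈ Finset.range (orderOf h), (χ : G → ℂ) (h ^ i) =
        ∑ i ∈ Finset.range (orderOf y), (χ : G → ℂ) (y ^ i) := by
      rw [← sum_zpowers, ← sum_zpowers]
      exact Fintype.sum_equiv (MulEquiv.subgroupCongr hz).toEquiv _ _ fun z => rfl
    rw [e1, e2] at e3
    have e4 : (deg hG χ : ℤ) + 2 * fiveSum hG hh χ = (deg hG χ : ℤ) + 2 * fiveSum hG hy χ := by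
      exact_mod_cast e3
    rw [show fiveSum hG hh χ = fiveSum hG hy χ by omega]
  have hsum : ∀ χ : IrrCharacter G,
      2 * ∑ g ∈ A, (χ : G → ℂ) g = (A.card : ℂ) * (fiveSum hG hy χ : ℂ) := by
    intro χ
    have hsq : ∀ g ∈ A, g ^ 2 ∈ A := by
      intro g hg
      simp only [hA, Finset.mem_filter, Finset.mem_univ, true_and] at hg ⊢
      rw [orderOf_pow' g (by norm_num), hg]; rfl
    have hcube : ∀ g ∈ A, g ^ 3 ∈ A := by
      intro g hg
      simp only [hA, Finset.mem_filter, Finset.mem_univ, true_and] at hg ⊢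
      rw [orderOf_pow' g (by norm_num), hg]; rfl
    have h6 : ∀ g ∈ A, g ^ 6 = g := by
      intro g hg
      simp only [hA, Finset.mem_filter, Finset.mem_univ, true_and] at hg
      rw [pow_succ, orderOf_dvd_iff_pow_eq_one.mp (dvd_of_eq hg), one_mul]
    have h2 : ∑ g ∈ A, (χ : G → ℂ) (g ^ 2) = ∑ g ∈ A, (χ : G → ℂ) g :=
      Finset.sum_nbij' (fun g => g ^ 2) (fun g => g ^ 3) hsq hcube
        (fun g hg => by rw [← pow_mul]; exact h6 g hg)
        (fun g hg => by rw [← pow_mul]; exact h6 g hg) (fun g _ => rfl)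
    rw [two_mul]
    nth_rewrite 2 [← h2]
    rw [← Finset.sum_add_distrib, Finset.sum_congr rfl fun g hg => hpair g hg χ,
      Finset.sum_const, nsmul_eq_mul]
  -- lower bound for the pairs
  haveI : Fact (Nat.Prime 11) := ⟨by norm_num⟩
  have hcx : Nat.card (zpowers x) = 11 := by rw [Nat.card_zpowers, hx]
  have hCx : centralizer ({x} : Set G) = zpowers x :=
    (Subgroup.eq_of_le_of_card_ge (zpowers_le.mpr (mem_centralizer_singleton_iff.mpr rfl))
      (by rw [hC, hcx])).symm
  obtain ⟨Q, hQ⟩ : ∃ Q : Sylow 11 G, (Q : Subgroup G) = zpowers x := by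
    obtain ⟨Q, hQ⟩ := (IsPGroup.of_card (n := 1)
      (by rw [hcx, pow_one]) : IsPGroup 11 (zpowers x)).exists_le_sylow
    refine ⟨Q, (Subgroup.eq_of_le_of_card_ge hQ (le_of_eq ?_)).symm⟩
    rw [Q.card_eq_multiplicity, hcx, hG.2, show (95040 : ℕ) = 11 * 8640 from rfl,
      Nat.factorization_mul (by norm_num) (by norm_num), Finsupp.add_apply,
      Nat.Prime.factorization_self (by norm_num),
      Nat.factorization_eq_zero_of_not_dvd (by norm_num)]
    norm_num
  set F := normalizer ((zpowers x : Subgroup G) : Set G) with hF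
  have hin : ∀ g ∈ F, orderOf g = 11 → g ∈ zpowers x := by
    intro g hg hg11
    have hP11 : IsPGroup 11 (zpowers g) :=
      IsPGroup.of_card (n := 1) (by rw [Nat.card_zpowers, hg11, pow_one])
    have h1 : g ∈ zpowers g ⊓ normalizer ((Q : Subgroup G) : Set G) :=
      ⟨mem_zpowers g, by rw [hQ]; exact hg⟩
    rw [← hQ]
    exact ((hP11.inf_normalizer_sylow Q).le h1).2
  have hnF : ∀ g ∈ F, g ∉ zpowers x → orderOf g = 5 := by
    intro g hg hgx
    have h55 : orderOf g ∈ Nat.divisors 55 :=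
      Nat.mem_divisors.mpr ⟨hN ▸ Subgroup.orderOf_dvd_natCard _ hg, by norm_num⟩
    rw [show Nat.divisors 55 = {1, 5, 11, 55} by decide] at h55
    simp only [Finset.mem_insert, Finset.mem_singleton] at h55
    rcases h55 with h | h | h | h
    · exact absurd (orderOf_eq_one_iff.mp h ▸ one_mem _) hgx
    · exact h
    · exact absurd (hin g hg h) hgx
    · exfalso
      have ho : orderOf (g ^ 5) = 11 := by
        rw [orderOf_pow_of_dvd (by norm_num) (by rw [h]; norm_num), h]
      have hg5 := hin _ (pow_mem hg 5) ho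
      have h1 : g ∈ centralizer ({x} : Set G) := by
        rw [centralizer_eq_of_prime hcx (mem_zpowers x) (by rintro rfl; simp at hx),
          ← centralizer_eq_of_prime hcx hg5 (fun h1 => by rw [h1, orderOf_one] at ho; omega),
          mem_centralizer_singleton_iff]
        exact (Commute.self_pow g 5).eq
      rw [hCx] at h1
      exact hgx h1
  have hlow : ∀ c ∈ zpowers x,
      44 ≤ ((A ×ˢ A).filter fun z => z.1 * z.2 = c).card := by
    intro c hc
    set S : Finset G := Finset.univ.filter (· ∈ F) \ Finset.univ.filter (· ∈ zpowers x) with hS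
    have hScard : S.card = 44 := by
      rw [hS, Finset.card_sdiff_of_subset, ← Fintype.card_subtype, ← Fintype.card_subtype,
        ← Nat.card_eq_fintype_card, ← Nat.card_eq_fintype_card]
      · show Nat.card F - Nat.card (zpowers x) = 44
        rw [hN, hcx]
      · intro g hg
        simp only [Finset.mem_filter, Finset.mem_univ, true_and] at hg ⊢
        exact le_normalizer hg
    rw [← hScard]
    refine Finset.card_le_card_of_injOn (fun a => (a, a⁻¹ * c)) (fun a ha => ?_)
      (fun a _ b _ h => congrArg Prod.fst h)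
    simp only [hS, Finset.coe_sdiff, Finset.coe_filter, Finset.mem_univ, true_and, Set.mem_sdiff,
      Set.mem_setOf_eq] at ha
    simp only [Finset.coe_filter, Set.mem_setOf_eq, Finset.mem_product, hA, Finset.mem_filter,
      Finset.mem_univ, true_and, mul_inv_cancel_left, and_true]
    refine ⟨hnF a ha.1 ha.2, hnF _ (mul_mem (inv_mem ha.1) (le_normalizer hc)) fun h => ha.2 ?_⟩
    have := mul_mem hc (inv_mem h)
    rwa [mul_inv_rev, inv_inv, mul_inv_cancel_left] at this
  -- the counting formula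
  have h1 := card_pairs_mul A A hAc hAc x
  have h2 := card_pairs_mul A A hAc hAc x⁻¹
  have key : (95040 : ℂ) * 95040 * ((((A ×ˢ A).filter fun z => z.1 * z.2 = x).card : ℂ) +
      (((A ×ˢ A).filter fun z => z.1 * z.2 = x⁻¹).card : ℂ)) =
      4 * (Nat.card (Sylow 5 G) : ℂ) * (Nat.card (Sylow 5 G) : ℂ) *
        ((∑ χ, fiveSum hG hy χ * fiveSum hG hy χ * X.u χ * (95040 / (deg hG χ : ℤ)) : ℤ) : ℂ) := by
    rw [hG.2] at h1 h2
    push_cast at h1 h2
    rw [mul_add, mul_assoc, mul_assoc, h1, h2, Finset.mul_sum, Finset.mul_sum,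
      ← Finset.sum_add_distrib, Int.cast_sum, Finset.mul_sum]
    refine Finset.sum_congr rfl fun χ _ => ?_
    have hs : ∑ g ∈ A, (χ : G → ℂ) g =
        2 * (Nat.card (Sylow 5 G) : ℂ) * (fiveSum hG hy χ : ℂ) := by
      have := hsum χ
      rw [hcard] at this
      push_cast at this
      linear_combination (1 / 2 : ℂ) * this
    have hne := irr_apply_one_ne_zero χ
    rw [hs, inv_inv, Int.cast_mul, Int.cast_mul, Int.cast_mul, cast_card_div hG χ, ← X.val χ]
    field_simp
    ring
  have e1 := hlow x (mem_zpowers x)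
  have e2 := hlow x⁻¹ (inv_mem (mem_zpowers x))
  generalize ((A ×ˢ A).filter fun z => z.1 * z.2 = x).card = P1 at key e1
  generalize ((A ×ˢ A).filter fun z => z.1 * z.2 = x⁻¹).card = P2 at key e2
  have key' : (95040 : ℤ) * 95040 * ((P1 : ℤ) + P2) =
      4 * (Nat.card (Sylow 5 G) : ℤ) * (Nat.card (Sylow 5 G) : ℤ) *
        ∑ χ, fiveSum hG hy χ * fiveSum hG hy χ * X.u χ * (95040 / (deg hG χ : ℤ)) := by
    apply Int.cast_injective (α := ℂ)
    push_cast at key ⊢
    linear_combination key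
  nlinarith

/-- The number of Sylow 5-subgroups exceeds 396. -/
theorem card_sylow_five_gt (hG : IsM12 G) [Fact (Nat.Prime 5)] [Fact (Nat.Prime 11)] {x : G}
    (hx : orderOf x = 11) (hC : Nat.card (centralizer ({x} : Set G)) = 11)
    (hN : Nat.card (normalizer ((zpowers x : Subgroup G) : Set G)) = 55) :
    396 < Nat.card (Sylow 5 G) := by
  classical
  by_contra hn
  obtain ⟨X⟩ := exists_xCol hx hC hN
  obtain ⟨y₀, hy₀⟩ := exists_prime_orderOf_dvd_card'
    (G := normalizer ((zpowers x : Subgroup G) : Set G)) 5 (by rw [hN]; norm_num)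
  set y : G := (y₀ : G) with hy'
  have hy : orderOf y = 5 := by rw [hy', Subgroup.orderOf_coe, hy₀]
  set a := fiveSum hG hy with ha
  set item : IrrCharacter G → It := fun χ =>
    ⟨(deg hG χ : ℤ), X.u χ, X.u χ % 2, a χ, 0, 0⟩ with hitem
  have hM : ∀ χ, (item χ).pr = X.u χ % 2 := fun χ => rfl
  set R := X.reps.map item with hR
  set L := R.filter (fun e => decide (e.u ≠ 0)) with hL
  have hmem : ∀ e ∈ L, e ∈ Cert.items5 := by
    intro e he
    obtain ⟨he, hu0⟩ := List.mem_filter.mp he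
    obtain ⟨χ, hχ, rfl⟩ := List.mem_map.mp he
    obtain ⟨hd, hu, hk, hm⟩ := row_facts hG X hχ
    rw [← Cert.gen5_eq]
    have hb := fiveSum_le hG X hx hC hN hy y₀.2 χ
    obtain ⟨-, -, h5, -, h50⟩ := fiveSum_spec hG hy χ
    refine mem_gen5 hd hu (of_decide_eq_true hu0) hk (hm ▸ hb) ?_ fun h => h50 ?_
    · rw [ha]; omega
    exact_mod_cast Int.dvd_of_emod_eq_zero h
  -- the sums
  set S := ∑ χ, a χ * a χ * X.u χ * (95040 / (deg hG χ : ℤ)) with hS
  have hz : ∀ f : It → Int, (∀ e, e.u = 0 → e.pr = 0 → f e = 0) →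
      (L.map f).sum = (R.map f).sum := fun f hf =>
    sum_filter_of_zero _ f R fun e he hp => by
      obtain ⟨χ, -, rfl⟩ := List.mem_map.mp he
      have h0 : X.u χ = 0 := by simpa [hitem] using hp
      exact hf _ h0 (by show X.u χ % 2 = 0; rw [h0]; rfl)
  have hat : a (trivialIrr G) = 2 := fiveSum_trivial hG hy
  have hdt : (deg hG (trivialIrr G) : ℤ) = 1 := by rw [deg_trivial]; rfl
  have s1 : (L.map fun e => e.M * (e.u * e.u)).sum = 18 := by
    rw [hz _ fun e h0 _ => by rw [h0]; ring, hR,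
      X.sum_items item hM (fun e => e.u * e.u) (fun χ => X.u χ * X.u χ) (fun χ => rfl)
        (fun χ => by simp only [X.u_conj]), X.sq, X.u_trivial]
    norm_num
  have s2 : (L.map fun e => e.pr).sum = 1 := by
    rw [hz _ fun e _ hp => hp, hR, X.sum_pr item hM]
  have s3 : (L.map fun e => e.M * (e.d * e.u)).sum = -2 := by
    rw [hz _ fun e h0 _ => by rw [h0]; ring, hR,
      X.sum_items item hM (fun e => e.d * e.u) (fun χ => (deg hG χ : ℤ) * X.u χ) (fun χ => rfl)
        (fun χ => by simp only [X.u_conj, deg_conj]), X.u_trivial, hdt]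
    have h0 : ∑ χ, (deg hG χ : ℤ) * X.u χ = 0 := by
      apply Int.cast_injective (α := ℂ)
      rw [Int.cast_sum, Int.cast_zero, ← X.orth 1 (by rw [orderOf_one]; norm_num)]
      exact Finset.sum_congr rfl fun χ _ => by rw [Int.cast_mul, (deg_spec hG χ).1, Int.cast_natCast]
    rw [h0]; norm_num
  have s4 : (L.map fun e => e.M * (e.u * e.a)).sum = -4 := by
    rw [hz _ fun e h0 _ => by rw [h0]; ring, hR,
      X.sum_items item hM (fun e => e.u * e.a) (fun χ => X.u χ * a χ) (fun χ => rfl)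
        (fun χ => by simp only [X.u_conj, ha, fiveSum_conj]), X.u_trivial, hat]
    have h0 : ∑ χ, X.u χ * a χ = 0 := by
      apply Int.cast_injective (α := ℂ)
      rw [Int.cast_sum, Int.cast_zero]
      have hy2 : orderOf (y ^ 2) = 5 := by rw [orderOf_pow' y (by norm_num), hy]; rfl
      calc ∑ χ, ((X.u χ * a χ : ℤ) : ℂ) = ∑ χ : IrrCharacter G, ((χ : G → ℂ) y * (X.u χ : ℂ) +
            (χ : G → ℂ) (y ^ 2) * (X.u χ : ℂ)) :=
          Finset.sum_congr rfl fun χ _ => by
            rw [Int.cast_mul, ha, ← (fiveSum_spec hG hy χ).1]; ring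
        _ = 0 := by rw [Finset.sum_add_distrib, X.orth y (by omega), X.orth _ (by omega), add_zero]
    rw [h0]; norm_num
  have s5 : (L.map fun e => -(e.M * (e.a * e.a * e.u * (95040 / e.d)))).sum = -(S - 760320) := by
    rw [hz _ fun e h0 _ => by rw [h0]; ring, hR]
    have h := X.sum_items item hM (fun e => -(e.a * e.a * e.u * (95040 / e.d)))
      (fun χ => -(a χ * a χ * X.u χ * (95040 / (deg hG χ : ℤ)))) (fun χ => rfl)
      (fun χ => by simp only [X.u_conj, ha, fiveSum_conj, deg_conj])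
    simp only [mul_neg] at h
    rw [h, hat, hdt, X.u_trivial, Finset.sum_neg_distrib, ← hS]
    norm_num
    ring
  have s6 : (L.map fun e => e.M * (e.d * e.d)).sum ≤ 95039 := by
    refine (sum_filter_le _ _ R fun e he => ?_).trans (le_of_eq ?_)
    · obtain ⟨χ, -, rfl⟩ := List.mem_map.mp he
      exact mul_nonneg (by show (0 : ℤ) ≤ 1 + X.u χ % 2; omega) (mul_self_nonneg _)
    · rw [hR, X.sum_items item hM (fun e => e.d * e.d)
        (fun χ => (deg hG χ : ℤ) * deg hG χ) (fun χ => rfl) (fun χ => by simp only [deg_conj]),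
        sum_deg_sq, hdt]
      norm_num
  have hbig : 1267200 ≤ S := by
    have hw := five_weight_le hG X hx hC hN hy
    rw [← ha, ← hS] at hw
    push Not at hn
    by_contra hS'
    have hn2 : (Nat.card (Sylow 5 G) : ℤ) * Nat.card (Sylow 5 G) ≤ 396 * 396 :=
      mul_le_mul (by exact_mod_cast hn) (by exact_mod_cast hn) (by positivity) (by norm_num)
    rcases le_or_gt 0 S with h0 | h0
    · nlinarith [mul_le_mul_of_nonneg_right hn2 h0]
    · nlinarith [mul_nonpos_of_nonneg_of_nonpos
        (mul_self_nonneg ((Nat.card (Sylow 5 G) : ℤ))) h0.le]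
  -- the certificate
  set ps : List ((It → Int) × Int) :=
    [(fun e => e.M * (e.u * e.u), 18), (fun e => e.pr, 1), (fun e => e.M * (e.d * e.u), -2),
      (fun e => e.M * (e.u * e.a), -4),
      (fun e => -(e.M * (e.a * e.a * e.u * (95040 / e.d))), -506880),
      (fun e => e.M * (e.d * e.d), 95039)] with hps
  have hrem : Engine.final [false, false, false, false, true, true]
      (Engine.rem It.vec5 [18, 1, -2, -4, -506880, 95039] L) = true := by
    have h := rem_map ps L
    simp only [hps, List.map_cons, List.map_nil] at h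
    rw [show It.vec5 = fun e : It => [e.M * (e.u * e.u), e.pr, e.M * (e.d * e.u),
      e.M * (e.u * e.a), -(e.M * (e.a * e.a * e.u * (95040 / e.d))), e.M * (e.d * e.d)] from rfl, h]
    simp only [Engine.final, Bool.and_eq_true, decide_eq_true_eq, beq_iff_eq, s1, s2, s3, s4, s5,
      and_true]
    omega
  obtain ⟨L', -, hP⟩ := Engine.check_main Cert.check5 Cert.items5_ok hmem hrem
  simp at hP

end Cfsg.Agent.Lib.Recog95040
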