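import Mathlib
import Cfsg.Agent.Lib.Recog95040.Eleven
import Cfsg.Agent.Lib.Recog95040.Five

/-!
An element of order five and an involution central in its normalizer.
-/

set_option autoImplicit false
set_option linter.style.haveILetI false

namespace Cfsg.Agent.Lib.Recog95040

open Subgroup Cfsg Cfsg.Agent.Lib.SmallGroups

universe u

variable {G : Type u} [Group G]

/-- An element `y` of order five with an involution `s` central in the normalizer of `⟨y⟩`. -/
structure Pack (G : Type u) [Group G] where
  y : G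
  s : G
  hG : IsM12 G
  hy : orderOf y = 5
  hs : orderOf s = 2
  hcent : ∀ g ∈ normalizer ((zpowers y : Subgroup G) : Set G), Commute g s
  hN : Nat.card (normalizer ((zpowers y : Subgroup G) : Set G)) = 40
  hCy : Nat.card (centralizer ({y} : Set G)) = 10 ∨ Nat.card (centralizer ({y} : Set G)) = 20
  hys : Commute y s
  hCs : Nat.card (centralizer ({s} : Set G)) = 40 ∨ Nat.card (centralizer ({s} : Set G)) = 240 ∨
    Nat.card (centralizer ({s} : Set G)) = 1440

variable [Finite G]

theorem card_sylow_five (hG : IsM12 G) [Fact (Nat.Prime 5)] : Nat.card (Sylow 5 G) = 2376 := by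
  haveI : Fact (Nat.Prime 11) := ⟨by norm_num⟩
  haveI := Fintype.ofFinite G
  obtain ⟨x, hx⟩ := exists_prime_orderOf_dvd_card' (G := G) 11 (by rw [hG.2]; norm_num)
  have h := card_sylow_five_gt hG hx (card_centralizer_eleven hG hx) (card_normalizer_eleven hG hx)
  have := five_cases hG
  have := not_1056 hG
  omega

theorem exists_pack (hG : IsM12 G) : Nonempty (Pack G) := by
  haveI := hG.1
  haveI : Fact (Nat.Prime 5) := ⟨by norm_num⟩
  haveI : Fact (Nat.Prime 2) := ⟨Nat.prime_two⟩
  obtain ⟨y, hy⟩ := exists_prime_orderOf_dvd_card' (G := G) 5 (by rw [hG.2]; norm_num)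
  obtain ⟨e, Y, hY, hYc, hC, he, he1, ⟨c, hc⟩, hN, hmul⟩ :=
    normalizer_prime hG (p := 5) (m := 19008) (by norm_num) (by norm_num) hy
  rw [card_sylow_five hG] at hmul
  set N := normalizer ((zpowers y : Subgroup G) : Set G) with hNdef
  set C := centralizer ({y} : Set G) with hCdef
  have h6 : e ∈ Nat.divisors 4 := Nat.mem_divisors.mpr ⟨he, by norm_num⟩
  rw [show Nat.divisors 4 = {1, 2, 4} by decide] at h6
  simp only [Finset.mem_insert, Finset.mem_singleton] at h6
  have hN40 : Nat.card N = 40 := by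
    rw [hN]
    exact Nat.eq_of_mul_eq_mul_right (by norm_num : 0 < 2376) (by rw [hmul])
  have hC' : Nat.card C = 10 ∨ Nat.card C = 20 := by
    rw [hN40] at hN
    rcases h6 with rfl | rfl | rfl <;> omega
  have hCN : C ≤ N := centralizer_le_normalizer_zpowers y
  -- a Sylow 2-subgroup of the normalizer
  obtain ⟨T⟩ := (inferInstance : Nonempty (Sylow 2 N))
  have hT : Nat.card (T : Subgroup N) = 8 := by
    rw [T.card_eq_multiplicity, hN40, show (40 : ℕ) = 2 ^ 3 * 5 from rfl,
      Nat.factorization_mul (by norm_num) (by norm_num), Finsupp.add_apply,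
      Nat.Prime.factorization_pow Nat.prime_two, Finsupp.single_eq_same,
      Nat.factorization_eq_zero_of_not_dvd (by norm_num)]
    norm_num
  set C' := C.subgroupOf N with hC'def
  haveI hCn : C'.Normal := by
    refine ⟨fun a ha g => ?_⟩
    rw [hC'def, mem_subgroupOf, hC] at ha ⊢
    have hg : (g : G) ∈ normalizer ((Y : Subgroup G) : Set G) := by rw [hY]; exact g.2
    rw [mem_centralizer_iff] at ha ⊢
    intro z hz
    have hz' : (g : G)⁻¹ * z * (g : G) ∈ (Y : Subgroup G) := by
      have := (mem_normalizer_iff.mp (inv_mem hg) z).mp hz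
      rwa [inv_inv] at this
    have h1 := ha _ hz'
    show z * ((g : G) * a * (g : G)⁻¹) = (g : G) * a * (g : G)⁻¹ * z
    calc z * ((g : G) * a * (g : G)⁻¹)
        = (g : G) * (((g : G)⁻¹ * z * (g : G)) * (a : G)) * (g : G)⁻¹ := by group
      _ = (g : G) * ((a : G) * ((g : G)⁻¹ * z * (g : G))) * (g : G)⁻¹ := by rw [h1]
      _ = (g : G) * a * (g : G)⁻¹ * z := by group
  set D := C'.subgroupOf (T : Subgroup N) with hD
  haveI : D.Normal := Subgroup.normal_subgroupOf
  haveI : Nontrivial D := by
    obtain ⟨k, hk⟩ : ∃ k : C', orderOf k = 2 := by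
      refine exists_prime_orderOf_dvd_card' 2 ?_
      rw [hC'def, Nat.card_congr (subgroupOfEquivOfLe hCN).toEquiv]
      omega
    have hp : IsPGroup 2 (zpowers (k : N)) :=
      IsPGroup.of_card (n := 1) (by rw [Nat.card_zpowers, Subgroup.orderOf_coe, hk, pow_one])
    obtain ⟨T', hT'⟩ := hp.exists_le_sylow
    obtain ⟨g, hg⟩ := MulAction.exists_smul_eq N T' T
    have hm : g * (k : N) * g⁻¹ ∈ (T : Subgroup N) := by
      rw [← hg, Sylow.coe_subgroup_smul]
      exact Subgroup.smul_mem_pointwise_smul (k : N) (MulAut.conj g) _ (hT' (mem_zpowers _))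
    refine ⟨⟨⟨⟨_, hm⟩, hCn.conj_mem _ k.2 g⟩, 1, fun h => ?_⟩⟩
    have h1 : g * (k : N) * g⁻¹ = 1 := congrArg (fun z : D => ((z : (T : Subgroup N)) : N)) h
    rw [conj_eq_one_iff] at h1
    rw [← Subgroup.orderOf_coe, h1, orderOf_one] at hk
    omega
  letI : MulAction (T : Subgroup N) D :=
    MulAction.compHom D (MulAut.conjNormal (H := D))
  obtain ⟨d, hd, hd1⟩ := T.isPGroup'.exists_fixed_point_of_prime_dvd_card_of_fixed_point D
    (p := 2) (by
      have h1 : Nat.card D ∣ 2 ^ 3 := (show (8 : ℕ) = 2 ^ 3 from rfl) ▸ hT ▸ card_subgroup_dvd_card D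
      obtain ⟨j, -, hj⟩ := (Nat.dvd_prime_pow Nat.prime_two).mp h1
      rw [hj]
      refine dvd_pow_self 2 fun h0 => ?_
      rw [h0, pow_zero] at hj
      have := Finite.one_lt_card (α := D)
      omega) (a := 1) (fun g => Subtype.ext (by
      show ((MulAut.conjNormal g (1 : D) : D) : (T : Subgroup N)) = 1
      rw [map_one]; rfl))
  -- an involution in the centre
  obtain ⟨s₀, hs0, hs2⟩ : ∃ z : zpowers d, orderOf z = 2 ∧ True := by
    have h1 : 2 ∣ Nat.card (zpowers d) := by
      rw [Nat.card_zpowers]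
      have h2 : orderOf d ∣ 2 ^ 3 := by
        rw [← Subgroup.orderOf_coe, show (2 : ℕ) ^ 3 = 8 from rfl, ← hT]
        exact orderOf_dvd_natCard _
      obtain ⟨j, -, hj⟩ := (Nat.dvd_prime_pow Nat.prime_two).mp h2
      rw [hj]
      refine dvd_pow_self 2 fun h0 => hd1 (Eq.symm ?_)
      rw [h0, pow_zero] at hj
      exact orderOf_eq_one_iff.mp hj
    obtain ⟨z, hz⟩ := exists_prime_orderOf_dvd_card' 2 h1
    exact ⟨z, hz, trivial⟩
  set s : G := ((((s₀ : D) : (T : Subgroup N)) : N) : G) with hsdef
  have hso : orderOf s = 2 := by simp only [hsdef, Subgroup.orderOf_coe, hs0]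
  have hsC : s ∈ C := by
    have h1 : ((s₀ : D) : (T : Subgroup N)) ∈ C'.subgroupOf (T : Subgroup N) := (s₀ : D).2
    rw [mem_subgroupOf, hC'def, mem_subgroupOf] at h1
    exact h1
  have hsT : ∀ g : (T : Subgroup N), Commute (((g : N) : G)) s := by
    intro g
    have h1 : ((MulAut.conjNormal g d : D) : (T : Subgroup N)) = (d : (T : Subgroup N)) :=
      congrArg Subtype.val (hd g)
    rw [MulAut.conjNormal_apply] at h1
    have h2 : Commute (g : (T : Subgroup N)) (d : (T : Subgroup N)) := by
      have := congrArg (· * g) h1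
      simpa [Commute, SemiconjBy] using this
    obtain ⟨k, hk⟩ := mem_zpowers_iff.mp s₀.2
    have h3 : Commute g ((s₀ : D) : (T : Subgroup N)) := by
      rw [← hk, Subgroup.coe_zpow]
      exact h2.zpow_right k
    have h4 := (h3.map (T : Subgroup N).subtype).map N.subtype
    exact h4
  have hys : Commute y s := (mem_centralizer_singleton_iff.mp hsC).symm
  have hcent : ∀ g ∈ N, Commute g s := by
    intro g hg
    set K := (centralizer ({s} : Set G)).subgroupOf N with hK
    have h8 : 8 ∣ Nat.card K := by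
      rw [← hT]
      refine card_dvd_of_le fun g hg => ?_
      rw [hK, mem_subgroupOf, mem_centralizer_singleton_iff]
      exact (hsT ⟨g, hg⟩).eq
    have h5 : 5 ∣ Nat.card K := by
      have h : orderOf (⟨y, le_normalizer (mem_zpowers y)⟩ : N) ∣ Nat.card K := by
        refine Subgroup.orderOf_dvd_natCard _ ?_
        rw [hK, mem_subgroupOf, mem_centralizer_singleton_iff]
        exact hys.eq
      rwa [Subgroup.orderOf_mk, hy] at h
    have h40 : K = ⊤ := by
      refine Subgroup.eq_top_of_le_card K ?_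
      rw [hN40]
      exact Nat.le_of_dvd Nat.card_pos (Nat.Coprime.mul_dvd_of_dvd_of_dvd (by norm_num) h8 h5)
    have h1 : (⟨g, hg⟩ : N) ∈ K := h40 ▸ mem_top _
    rw [hK, mem_subgroupOf, mem_centralizer_singleton_iff] at h1
    exact h1
  -- the centralizer of the involution
  have hNC : N ≤ centralizer ({s} : Set G) := fun g hg =>
    mem_centralizer_singleton_iff.mpr (hcent g hg).eq
  have h11 : ¬ 11 ∣ Nat.card (centralizer ({s} : Set G)) :=
    not_eleven_dvd_centralizer hG (fun h => by rw [h, orderOf_one] at hso; omega) (by omega)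
  have hmod := relIndex_normalizer_mod (p := 5) (K := centralizer ({s} : Set G)) hy
    (hNC (le_normalizer (mem_zpowers y))) (by rw [hG.2]; norm_num)
  rw [← hNdef] at hmod
  have hmul' := card_mul_relIndex_eq hNC
  rw [hN40] at hmul'
  set m := N.relIndex (centralizer ({s} : Set G))
  have hdvd : 40 * m ∣ 8640 := by
    rw [hmul']
    refine Nat.Coprime.dvd_of_dvd_mul_right (n := 11) ?_ ?_
    · exact ((Nat.Prime.coprime_iff_not_dvd (by norm_num)).mpr h11).symm
    · rw [show 8640 * 11 = 95040 from rfl, ← hG.2]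
      exact card_subgroup_dvd_card _
  have hm : m ∈ Nat.divisors 216 := Nat.mem_divisors.mpr
    ⟨Nat.dvd_of_mul_dvd_mul_left (by norm_num : 0 < 40) (by simpa using hdvd), by norm_num⟩
  have hm' : m = 1 ∨ m = 6 ∨ m = 36 ∨ m = 216 := by
    have : m ∈ (Nat.divisors 216).filter fun d => d % 5 = 1 := Finset.mem_filter.mpr ⟨hm, hmod⟩
    rw [show (Nat.divisors 216).filter (fun d => d % 5 = 1) = {1, 6, 36, 216} by decide +kernel] at this
    simpa using this
  have hne : m ≠ 216 := by
    intro h216
    refine no_index_eleven hG (centralizer ({s} : Set G)) ?_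
    have := index_mul hG (centralizer ({s} : Set G))
    rw [← hmul', h216] at this
    omega
  exact ⟨⟨y, s, hG, hy, hso, hcent, hN40, hC', hys, by omega⟩⟩

namespace Pack

variable (P : Pack G)

omit [Finite G] in
theorem centralizer_le : centralizer ({P.y} : Set G) ≤ centralizer ({P.s} : Set G) := fun _ hg =>
  mem_centralizer_singleton_iff.mpr (P.hcent _ (centralizer_le_normalizer_zpowers P.y hg)).eq

omit [Finite G] in
theorem y_pow : P.y ^ 5 = 1 := orderOf_dvd_iff_pow_eq_one.mp (dvd_of_eq P.hy)

omit [Finite G] in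
theorem s_mul : P.s * P.s = 1 := by
  rw [← pow_two]; exact orderOf_dvd_iff_pow_eq_one.mp (dvd_of_eq P.hs)

omit [Finite G] in
theorem orderOf_ys : orderOf (P.y * P.s) = 10 := by
  rw [P.hys.orderOf_mul_eq_mul_orderOf_of_coprime (by rw [P.hy, P.hs]; norm_num), P.hy, P.hs]

omit [Finite G] in
/-- The centralizer of `y * s` is that of `y`. -/
theorem centralizer_ys : centralizer ({P.y * P.s} : Set G) = centralizer ({P.y} : Set G) := by
  ext g
  rw [mem_centralizer_singleton_iff, mem_centralizer_singleton_iff]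
  constructor
  · intro h
    have h6 : Commute g ((P.y * P.s) ^ 6) := (show Commute g (P.y * P.s) from h).pow_right 6
    rw [P.hys.mul_pow, pow_succ, P.y_pow, one_mul, show P.s ^ 6 = 1 by
      rw [show (6 : ℕ) = 2 * 3 from rfl, pow_mul, pow_two, P.s_mul, one_pow], mul_one] at h6
    exact h6.eq
  · intro h
    have hs : Commute g P.s := P.hcent g
      (centralizer_le_normalizer_zpowers P.y (mem_centralizer_singleton_iff.mpr h))
    exact ((show Commute g P.y from h).mul_right hs).eq

end Pack

end Cfsg.Agent.Lib.Recog95040
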