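import Mathlib
import Cfsg.Agent.Lib.Recog95040.Pack

/-!
The character values at `y`, `y * s` and `s`.
-/

set_option autoImplicit false
set_option linter.style.haveILetI false

namespace Cfsg.Agent.Lib.Recog95040

open Cfsg Subgroup
open Cfsg.Agent.Lib.Chars Cfsg.Agent.Lib.SmallGroups Cfsg.Agent.Lib.SmallGroups.PrimeChar
open scoped ComplexConjugate

universe u

variable {G : Type u} [Group G]

/-- Trace and determinant of an operator of order two. -/
theorem det_involution {n : ℕ} (T : Module.End ℂ (Fin n → ℂ)) (h : T * T = 1) :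
    ∃ k : ℕ, k ≤ n ∧ LinearMap.trace ℂ _ T = (n : ℂ) - 2 * k ∧ LinearMap.det T = (-1 : ℂ) ^ k := by
  classical
  obtain ⟨ι, _, b, μ, hμ, hb⟩ := exists_eigenbasis_of_pow_eq_one T (m := 2) two_pos
    (by rw [pow_two]; exact h)
  have hn : Fintype.card ι = n := by rw [← Module.finrank_eq_card_basis b, Module.finrank_fin_fun]
  have hcase : ∀ i, μ i = 1 ∨ μ i = -1 := fun i => sq_eq_one_iff.mp (hμ i)
  refine ⟨(Finset.univ.filter fun i => μ i = -1).card, ?_, ?_, ?_⟩
  · exact hn ▸ Finset.card_le_univ _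
  · rw [trace_eq_sum_of_eigenbasis T b μ hb,
      ← Finset.sum_filter_add_sum_filter_not Finset.univ (fun i => μ i = -1),
      Finset.sum_congr rfl (g := fun _ => (-1 : ℂ)) fun i hi => (Finset.mem_filter.mp hi).2,
      Finset.sum_congr rfl (g := fun _ => (1 : ℂ))
        fun i hi => (hcase i).resolve_right (Finset.mem_filter.mp hi).2]
    have h2 := Finset.card_filter_add_card_filter_not (s := (Finset.univ : Finset ι))
      (fun i => μ i = -1)
    rw [Finset.card_univ, hn] at h2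
    have h3 : ((Finset.univ.filter fun i => μ i = -1).card : ℂ) +
        ((Finset.univ.filter fun i => ¬ μ i = -1).card : ℂ) = (n : ℂ) := by exact_mod_cast h2
    simp only [Finset.sum_const, nsmul_eq_mul, mul_one]
    linear_combination h3
  · rw [← LinearMap.det_toMatrix b]
    have hm : LinearMap.toMatrix b b T = Matrix.diagonal μ := by
      ext i j
      rw [LinearMap.toMatrix_apply, hb, map_smul, Module.Basis.repr_self, Finsupp.smul_single,
        smul_eq_mul, mul_one, Finsupp.single_apply, Matrix.diagonal_apply]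
      split_ifs with h1 h2 h3 <;> simp_all
    rw [hm, Matrix.det_diagonal, ← Finset.prod_filter_mul_prod_filter_not Finset.univ
      (fun i => μ i = -1), Finset.prod_congr rfl (g := fun _ => (-1 : ℂ))
        fun i hi => (Finset.mem_filter.mp hi).2,
      Finset.prod_congr rfl (g := fun _ => (1 : ℂ))
        fun i hi => (hcase i).resolve_right (Finset.mem_filter.mp hi).2]
    simp

/-- The value at an involution. -/
theorem exists_value_involution [Finite G] (hG : IsM12 G) (χ : IrrCharacter G) {t : G}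
    (ht : orderOf t = 2) (hne : χ ≠ trivialIrr G) {d : ℕ} (hd : (χ : G → ℂ) 1 = d) :
    ∃ z : ℤ, (χ : G → ℂ) t = z ∧ (z - d) % 4 = 0 ∧ -(d : ℤ) < z ∧ z < (d : ℤ) := by
  classical
  haveI := hG.1
  obtain ⟨n, ρ, hρ, hχ⟩ := χ.2
  haveI := hρ
  have hnd : n = d := by
    have : (n : ℂ) = d := by rw [← hd, ← hχ, Representation.char_one, Module.finrank_fin_fun]
    exact_mod_cast this
  have ht2 : t * t = 1 := by rw [← pow_two]; exact orderOf_dvd_iff_pow_eq_one.mp (dvd_of_eq ht)
  obtain ⟨k, hk, htr, hdet⟩ := det_involution (ρ t) (by rw [← map_mul, ht2, map_one])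
  have hdet1 : LinearMap.det (ρ t) = 1 := by
    let f : G →* ℂˣ := MonoidHom.toHomUnits
      { toFun := fun g => LinearMap.det (ρ g)
        map_one' := by simp
        map_mul' := fun a b => by simp }
    exact congrArg Units.val (SmallGroups.hom_commGroup_eq_one (not_comm_of_isM12 hG) f t)
  rw [hdet1] at hdet
  have heven : k % 2 = 0 := by
    by_contra h
    rw [Odd.neg_one_pow (Nat.odd_iff.mpr (by omega))] at hdet
    norm_num at hdet
  have hval : (χ : G → ℂ) t = ((n : ℤ) - 2 * k : ℤ) := by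
    rw [← hχ]
    push_cast
    exact htr
  refine ⟨_, hval, by omega, ?_⟩
  have hstrict : (((n : ℤ) - 2 * k : ℤ)) ≠ (n : ℤ) ∧ (((n : ℤ) - 2 * k : ℤ)) ≠ -(n : ℤ) := by
    suffices h : ‖ρ.character t‖ ≠ (Module.finrank ℂ (Fin n → ℂ) : ℝ) by
      rw [hχ, hval, Module.finrank_fin_fun] at h
      constructor <;>
      · intro he
        apply h
        rw [he]
        simp
    intro h
    obtain ⟨ω, hω⟩ := (norm_char_eq_iff ρ t).mp h
    have hker : ∀ g : G, ρ g = LinearMap.id → g = 1 := by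
      let K : Subgroup G :=
        { carrier := {g | ρ g = LinearMap.id}
          one_mem' := map_one ρ
          mul_mem' := fun {a b} ha hb => by
            show ρ (a * b) = LinearMap.id
            rw [map_mul, show ρ a = LinearMap.id from ha, show ρ b = LinearMap.id from hb]
            rfl
          inv_mem' := fun {a} ha => by
            show ρ a⁻¹ = LinearMap.id
            have h1 : ρ a⁻¹ * ρ a = 1 := by rw [← map_mul, inv_mul_cancel, map_one]
            rw [show ρ a = LinearMap.id from ha] at h1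
            exact h1 }
      haveI : K.Normal := ⟨fun a ha g => by
        show ρ (g * a * g⁻¹) = LinearMap.id
        rw [map_mul, map_mul, show ρ a = LinearMap.id from ha]
        show ρ g * 1 * ρ g⁻¹ = LinearMap.id
        rw [mul_one, ← map_mul, mul_inv_cancel, map_one]
        rfl⟩
      rcases (inferInstance : K.Normal).eq_bot_or_eq_top with hb | htop
      · intro g hg
        have : g ∈ K := hg
        rwa [hb, mem_bot] at this
      · exfalso
        refine hne (M11Degrees.eq_trivial_of_degree_one (not_comm_of_isM12 hG) χ ?_)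
        have htriv : ∀ g : G, (χ : G → ℂ) g = n := fun g => by
          rw [← hχ, Representation.character, show ρ g = LinearMap.id from
            (htop ▸ mem_top g : g ∈ K), LinearMap.trace_id, Module.finrank_fin_fun]
        haveI := Fintype.ofFinite G
        have h1 : classInner (χ : G → ℂ) (χ : G → ℂ) = 1 := by
          have := classInner_irr χ χ
          simpa using this
        simp only [classInner, htriv, Complex.conj_natCast, Finset.sum_const, Finset.card_univ,
          ← Nat.card_eq_fintype_card, nsmul_eq_mul] at h1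
        rw [← mul_assoc, inv_mul_cancel₀ natCard_ne_zero, one_mul] at h1
        rw [htriv 1]
        have : n * n = 1 := by exact_mod_cast h1
        rw [Nat.eq_one_of_mul_eq_one_left this, Nat.cast_one]
    have hcen : t ∈ center G := by
      rw [mem_center_iff]
      intro g
      have h1 : ρ (g * t * g⁻¹ * t⁻¹) = LinearMap.id := by
        have e1 : ρ g * ρ g⁻¹ = 1 := by rw [← map_mul, mul_inv_cancel, map_one]
        have e2 : ρ t * ρ t⁻¹ = 1 := by rw [← map_mul, mul_inv_cancel, map_one]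
        rw [map_mul, map_mul, map_mul, hω]
        rw [hω] at e2
        show ρ g * (ω • (1 : Module.End ℂ (Fin n → ℂ))) * ρ g⁻¹ * ρ t⁻¹ = 1
        rw [mul_smul_comm, mul_one, smul_mul_assoc, e1]
        exact e2
      have := hker _ h1
      rw [mul_inv_eq_one, mul_inv_eq_iff_eq_mul] at this
      exact this
    rw [center_eq_bot (not_comm_of_isM12 hG), mem_bot] at hcen
    rw [hcen, orderOf_one] at ht
    omega
  subst hnd
  omega

variable [Fintype G]

/-- The data at `y * s`. -/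
theorem exists_tenSum (P : Pack G) [Fact (Nat.Prime 5)] (χ : IrrCharacter G) :
    ∃ (w z : ℤ), (χ : G → ℂ) (P.y * P.s) + (χ : G → ℂ) (P.y ^ 2 * P.s) = w ∧
      (χ : G → ℂ) P.s = z ∧
      (∀ [Fintype (zpowers (P.y * P.s))], ∑ g : zpowers (P.y * P.s), (χ : G → ℂ) g =
        ((deg P.hG χ : ℤ) + z + 2 * fiveSum P.hG P.hy χ + 2 * w : ℤ)) ∧
      ((deg P.hG χ : ℤ) + z + 2 * fiveSum P.hG P.hy χ + 2 * w) % 10 = 0 ∧
      0 ≤ (deg P.hG χ : ℤ) + z + 2 * fiveSum P.hG P.hy χ + 2 * w ∧
      ((deg P.hG χ : ℤ) - z + 2 * fiveSum P.hG P.hy χ - 2 * w) % 10 = 0 ∧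
      0 ≤ (deg P.hG χ : ℤ) - z + 2 * fiveSum P.hG P.hy χ - 2 * w ∧
      (fiveSum P.hG P.hy χ - w) % 2 = 0 ∧ (5 ∣ deg P.hG χ → w = 0) := by
  classical
  haveI := P.hG.1
  set z₀ := P.y * P.s with hz₀
  have ho := P.orderOf_ys
  have hy5 := P.y_pow
  have hs2 := P.s_mul
  have hmp : ∀ k : ℕ, (P.y * P.s) ^ k = P.y ^ k * P.s ^ k := fun k => P.hys.mul_pow k
  obtain ⟨zs, hzs⟩ := exists_int_apply_involution χ P.hs
  have hodd : ∀ k : ℕ, P.s ^ (2 * k + 1) = P.s := fun k => by
    rw [pow_succ, pow_mul, pow_two, hs2, one_pow, one_mul]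
  have heven : ∀ k : ℕ, P.s ^ (2 * k) = 1 := fun k => by rw [pow_mul, pow_two, hs2, one_pow]
  obtain ⟨g, hg⟩ := isConj_iff.mp (isConj_inv_five P.hG P.hy)
  have hgN : g ∈ normalizer ((zpowers P.y : Subgroup G) : Set G) := by
    rw [mem_normalizer_iff_map_conj_eq, MonoidHom.map_zpowers]
    show zpowers (g * P.y * g⁻¹) = zpowers P.y
    rw [hg, zpowers_inv]
  have hgs : g * P.s * g⁻¹ = P.s := by rw [(P.hcent g hgN).eq, mul_inv_cancel_right]
  have hconj : ∀ k : ℕ, (χ : G → ℂ) (P.y⁻¹ ^ k * P.s) = (χ : G → ℂ) (P.y ^ k * P.s) := by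
    intro k
    rw [← hg, conj_pow]
    nth_rewrite 1 [← hgs]
    rw [show g * P.y ^ k * g⁻¹ * (g * P.s * g⁻¹) = g * (P.y ^ k * P.s) * g⁻¹ by group]
    exact irr_isClassFunction χ _ g
  have hinv : P.y⁻¹ = P.y ^ 4 := by rw [inv_eq_iff_mul_eq_one, ← pow_succ']; exact hy5
  have h4 : (χ : G → ℂ) (P.y ^ 4 * P.s) = (χ : G → ℂ) (P.y * P.s) := by
    have := hconj 1
    rwa [pow_one, pow_one, hinv] at this
  have h3 : (χ : G → ℂ) (P.y ^ 3 * P.s) = (χ : G → ℂ) (P.y ^ 2 * P.s) := by
    have := hconj 2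
    rwa [hinv, ← pow_mul, show P.y ^ (4 * 2) = P.y ^ 3 by
      rw [show 4 * 2 = 5 + 3 from rfl, pow_add, hy5, one_mul]] at this
  have ha := (fiveSum_spec P.hG P.hy χ).1
  have h4' : (χ : G → ℂ) (P.y ^ 4) = (χ : G → ℂ) P.y := by
    rw [← hinv, ← hg]; exact irr_isClassFunction χ P.y g
  have h3' : (χ : G → ℂ) (P.y ^ 3) = (χ : G → ℂ) (P.y ^ 2) := by
    rw [show P.y ^ 3 = (P.y⁻¹) ^ 2 by rw [inv_pow, eq_inv_iff_mul_eq_one, ← pow_add]; exact hy5,
      ← hg, conj_pow]
    exact irr_isClassFunction χ _ g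
  have hsum : ∀ [Fintype (zpowers z₀)], ∑ i : zpowers z₀, (χ : G → ℂ) i =
      (deg P.hG χ : ℂ) + zs + 2 * fiveSum P.hG P.hy χ +
        2 * ((χ : G → ℂ) (P.y * P.s) + (χ : G → ℂ) (P.y ^ 2 * P.s)) := by
    intro _
    rw [sum_zpowers, ho]
    simp only [Finset.sum_range_succ, Finset.sum_range_zero, hz₀, hmp, pow_zero]
    rw [show P.y ^ 5 = 1 from hy5, show P.y ^ 6 = P.y by rw [pow_succ, hy5, one_mul],
      show P.y ^ 7 = P.y ^ 2 by rw [show 7 = 5 + 2 from rfl, pow_add, hy5, one_mul],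
      show P.y ^ 8 = P.y ^ 3 by rw [show 8 = 5 + 3 from rfl, pow_add, hy5, one_mul],
      show P.y ^ 9 = P.y ^ 4 by rw [show 9 = 5 + 4 from rfl, pow_add, hy5, one_mul],
      show P.s ^ 1 = P.s from pow_one P.s, show P.s ^ 2 = 1 from heven 1, show P.s ^ 3 = P.s from hodd 1,
      show P.s ^ 4 = 1 from heven 2, show P.s ^ 5 = P.s from hodd 2, show P.s ^ 6 = 1 from heven 3,
      show P.s ^ 7 = P.s from hodd 3, show P.s ^ 8 = 1 from heven 4, show P.s ^ 9 = P.s from hodd 4]
    simp only [one_mul, mul_one, pow_one, h3, h4, h3', h4', hzs, (deg_spec P.hG χ).1, ← ha]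
    ring
  obtain ⟨k, hk⟩ := CharCount.exists_nat_sum_subgroup χ (zpowers z₀)
  rw [hsum, Nat.card_zpowers, ho] at hk
  obtain ⟨w, hw⟩ := exists_int_eq_of_isIntegral
    ((irr_isIntegral χ (P.y * P.s)).add (irr_isIntegral χ (P.y ^ 2 * P.s)))
    (((10 * k : ℚ) - deg P.hG χ - zs - 2 * fiveSum P.hG P.hy χ) / 2)
    (by push_cast at hk ⊢; linear_combination hk / 2)
  rw [hw] at hk
  have hk' : (deg P.hG χ : ℤ) + zs + 2 * fiveSum P.hG P.hy χ + 2 * w = 10 * k := by
    exact_mod_cast hk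
  have hle : zpowers P.y ≤ zpowers z₀ := by
    rw [zpowers_le]
    refine ⟨((6 : ℕ) : ℤ), ?_⟩
    show z₀ ^ ((6 : ℕ) : ℤ) = P.y
    rw [zpow_natCast, hz₀, hmp, heven 3, mul_one, pow_succ, hy5, one_mul]
  obtain ⟨k', hk2⟩ := exists_nat_average_sub χ hle
  rw [(fiveSum_spec P.hG P.hy χ).2.1, hsum, Nat.card_zpowers, Nat.card_zpowers, ho, P.hy, hw]
    at hk2
  have hk2' : (deg P.hG χ : ℤ) - zs + 2 * fiveSum P.hG P.hy χ - 2 * w = 10 * k' := by
    apply Int.cast_injective (α := ℂ)
    push_cast at hk2 ⊢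
    linear_combination (10 : ℂ) * hk2
  obtain ⟨n, ρ, hρ, hχ⟩ := χ.2
  haveI := hρ
  refine ⟨w, zs, hw, hzs, fun {_} => ?_, ⟨by omega, by omega, by omega, by omega, ?_, ?_⟩⟩
  · rw [hsum, hw]; push_cast; ring
  · obtain ⟨ι, _, μ, -, hm, hpow⟩ := M11Degrees.exists_pow_sum ρ z₀
    rw [ho] at hm
    set J := Finset.univ.filter (fun i => μ i ^ 5 = -1) with hJ
    have h5 : ∀ i, μ i ^ 5 = 1 ∨ μ i ^ 5 = -1 := fun i => sq_eq_one_iff.mp (by rw [← pow_mul, hm])
    have e1 : (χ : G → ℂ) P.y - (χ : G → ℂ) (P.y * P.s) = -2 * ∑ i ∈ J, μ i := by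
      rw [← hχ, show P.y = z₀ ^ 6 by rw [hz₀, hmp, heven 3, mul_one, pow_succ, hy5, one_mul],
        show z₀ ^ 6 * P.s = z₀ ^ 1 by
          rw [pow_one, hz₀, hmp, heven 3, mul_one, pow_succ, hy5, one_mul],
        hpow, hpow, ← Finset.sum_sub_distrib, hJ, Finset.sum_filter, Finset.mul_sum]
      refine Finset.sum_congr rfl fun i _ => ?_
      rcases h5 i with h | h <;> rw [pow_succ, h] <;> norm_num
      ring
    have e2 : (χ : G → ℂ) (P.y ^ 2) - (χ : G → ℂ) (P.y ^ 2 * P.s) = 2 * ∑ i ∈ J, μ i ^ 2 := by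
      rw [← hχ, show P.y ^ 2 = z₀ ^ 2 by rw [hz₀, hmp, heven 1, mul_one],
        show z₀ ^ 2 * P.s = z₀ ^ 7 by
          rw [hz₀, hmp, hmp, heven 1, mul_one, hodd 3,
            show P.y ^ 7 = P.y ^ 2 by rw [show 7 = 5 + 2 from rfl, pow_add, hy5, one_mul]],
        hpow, hpow, ← Finset.sum_sub_distrib, hJ, Finset.sum_filter, Finset.mul_sum]
      refine Finset.sum_congr rfl fun i _ => ?_
      rcases h5 i with h | h <;> rw [show 7 = 5 + 2 from rfl, pow_add, h] <;> norm_num
      ring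
    have hmu : ∀ i, IsIntegral ℤ (μ i) := fun i =>
      IsIntegral.of_pow (n := 10) (by norm_num) (by rw [hm]; exact isIntegral_one)
    have hI : IsIntegral ℤ (∑ i ∈ J, μ i ^ 2 - ∑ i ∈ J, μ i) :=
      (IsIntegral.sum _ fun i _ => (hmu i).pow 2).sub (IsIntegral.sum _ fun i _ => hmu i)
    obtain ⟨r, hr⟩ := exists_int_eq_of_isIntegral hI (((fiveSum P.hG P.hy χ : ℤ) - (w : ℤ) : ℚ) / 2)
      (by push_cast; rw [← ha, ← hw]; linear_combination -(e1 + e2) / 2)
    have : (((fiveSum P.hG P.hy χ - w : ℤ)) : ℂ) = ((2 * r : ℤ) : ℂ) := by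
      push_cast
      rw [← hr, ← ha, ← hw]
      linear_combination e1 + e2
    have h2 : fiveSum P.hG P.hy χ - w = 2 * r := by exact_mod_cast this
    omega
  · intro h5
    have hdeg : 5 ^ 1 ∣ Module.finrank ℂ (Fin n → ℂ) := by
      have : ((Module.finrank ℂ (Fin n → ℂ) : ℕ) : ℂ) = (deg P.hG χ : ℂ) := by
        rw [← (deg_spec P.hG χ).1, ← hχ, Representation.char_one]
      rw [pow_one, show Module.finrank ℂ (Fin n → ℂ) = deg P.hG χ by exact_mod_cast this]
      exact h5
    have hz : ∀ g : G, 5 ∣ orderOf g → (χ : G → ℂ) g = 0 := fun g hg => by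
      rw [← hχ]
      exact char_eq_zero_of_defect_zero ρ (p := 5) (n := 1) (by norm_num)
        (by rw [P.hG.2]; norm_num) (by rw [P.hG.2]; norm_num) hdeg g hg
    rw [hz (P.y * P.s) (by rw [ho]; norm_num), hz (P.y ^ 2 * P.s) ?_, add_zero] at hw
    · exact_mod_cast hw.symm
    · rw [(P.hys.pow_left 2).orderOf_mul_eq_mul_orderOf_of_coprime
        (by rw [orderOf_pow' P.y (by norm_num), P.hy, P.hs]; decide),
        orderOf_pow' P.y (by norm_num), P.hy]
      exact dvd_mul_right 5 _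

end Cfsg.Agent.Lib.Recog95040
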