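import Mathlib
import Cfsg.Agent.Lib.Recog95040.Values
import Cfsg.Agent.Lib.Order7920.Tools

/-!
Sums over the irreducible characters of products of two or three columns.
-/

set_option autoImplicit false
set_option linter.style.haveILetI false

namespace Cfsg.Agent.Lib.Recog95040

open Cfsg Subgroup
open Cfsg.Agent.Lib.Chars Cfsg.Agent.Lib.SmallGroups Cfsg.Agent.Lib.SmallGroups.PrimeChar
open scoped ComplexConjugate

universe u

variable {G : Type u} [Group G] [Fintype G]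

theorem four_le_card : 4 ≤ ({1, 2, 4, 3} : Finset (ZMod 5)).card := by decide

theorem two_mem_units : (2 : ZMod 5) ∈ Finset.univ.erase (0 : ZMod 5) := by decide

theorem sum_mul_conj_eq_zero {g h : G} (hne : orderOf g ≠ orderOf h) :
    ∑ χ : IrrCharacter G, (χ : G → ℂ) g * conj ((χ : G → ℂ) h) = 0 :=
  column_orthogonality_of_not_isConj fun hc => hne (by
    obtain ⟨c, hc⟩ := isConj_iff.mp hc
    rw [← hc, ← MulAut.conj_apply, MulEquiv.orderOf_eq])

namespace Pack

variable (P : Pack G)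

theorem orderOf_y_sq : orderOf (P.y ^ 2) = 5 := by
  rw [orderOf_pow' P.y (by norm_num), P.hy]; rfl

theorem orderOf_y_sq_s : orderOf (P.y ^ 2 * P.s) = 10 := by
  rw [(P.hys.pow_left 2).orderOf_mul_eq_mul_orderOf_of_coprime
    (by rw [P.orderOf_y_sq, P.hs]; decide), P.orderOf_y_sq, P.hs]

theorem y_sq_cube : (P.y ^ 2) ^ 3 = P.y := by
  rw [← pow_mul, pow_succ, P.y_pow, one_mul]

theorem centralizer_y_sq : centralizer ({P.y ^ 2} : Set G) = centralizer ({P.y} : Set G) := by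
  ext g
  rw [mem_centralizer_singleton_iff, mem_centralizer_singleton_iff]
  refine ⟨fun h => ?_, fun h => ((show Commute g P.y from h).pow_right 2).eq⟩
  have := (show Commute g (P.y ^ 2) from h).pow_right 3
  rw [P.y_sq_cube] at this
  exact this.eq

theorem centralizer_y_sq_s :
    centralizer ({P.y ^ 2 * P.s} : Set G) = centralizer ({P.y} : Set G) := by
  rw [← P.centralizer_y_sq]
  ext g
  rw [mem_centralizer_singleton_iff, mem_centralizer_singleton_iff]
  constructor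
  · intro h
    have h6 := (show Commute g (P.y ^ 2 * P.s) from h).pow_right 6
    rw [(P.hys.pow_left 2).mul_pow, show P.s ^ 6 = 1 by
      rw [show (6 : ℕ) = 2 * 3 from rfl, pow_mul, pow_two, P.s_mul, one_pow], mul_one,
      pow_succ (P.y ^ 2), ← pow_mul, show 2 * 5 = 5 * 2 from rfl, pow_mul, P.y_pow, one_pow,
      one_mul] at h6
    exact h6.eq
  · intro h
    have hs : Commute g P.s := by
      refine P.hcent g (centralizer_le_normalizer_zpowers P.y ?_)
      rw [← P.centralizer_y_sq, mem_centralizer_singleton_iff]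
      exact h
    exact ((show Commute g (P.y ^ 2) from h).mul_right hs).eq

theorem isConj_sq_iff [Fact (Nat.Prime 5)] :
    IsConj P.y (P.y ^ 2) ↔ Nat.card (centralizer ({P.y} : Set G)) = 10 := by
  classical
  have h := card_normalizer_zpowers (p := 5) P.hy
  rw [P.hN] at h
  have hx2 : xp 5 P.y 2 = P.y ^ 2 := rfl
  constructor
  · intro hc
    have h2 : (2 : ZMod 5) ∈ fusion 5 P.y := mem_fusion.mpr (hx2 ▸ hc)
    have h4 := mul_mem_fusion P.hy h2 h2
    have h3 := mul_mem_fusion P.hy h4 h2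
    have hsub : ({1, 2, 4, 3} : Finset (ZMod 5)) ⊆ fusion 5 P.y := by
      intro u hu
      simp only [Finset.mem_insert, Finset.mem_singleton] at hu
      rcases hu with rfl | rfl | rfl | rfl
      · exact one_mem_fusion
      · exact h2
      · exact (show (2 : ZMod 5) * 2 = 4 from rfl) ▸ h4
      · exact (show (2 : ZMod 5) * 2 * 2 = 3 from rfl) ▸ h3
    have h4' : 4 ≤ (fusion 5 P.y).card := four_le_card.trans (Finset.card_le_card hsub)
    rcases P.hCy with h10 | h20
    · exact h10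
    · rw [h20] at h
      have : (fusion 5 P.y).card = 2 := by linarith
      omega
  · intro h10
    rw [h10] at h
    have hcard : (fusion 5 P.y).card = 4 := by linarith
    have hall : fusion 5 P.y = Finset.univ.erase (0 : ZMod 5) :=
      Finset.eq_of_subset_of_card_le
        (fun u hu => Finset.mem_erase.mpr ⟨ne_zero_of_mem_fusion P.hy hu, Finset.mem_univ _⟩)
        (by rw [hcard, Finset.card_erase_of_mem (Finset.mem_univ _), Finset.card_univ, ZMod.card])
    have h2 : (2 : ZMod 5) ∈ fusion 5 P.y := hall ▸ two_mem_units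
    exact hx2 ▸ mem_fusion.mp h2

theorem isConj_sq_s_iff : IsConj (P.y * P.s) (P.y ^ 2 * P.s) ↔ IsConj P.y (P.y ^ 2) := by
  constructor
  · intro h
    obtain ⟨g, hg⟩ := isConj_iff.mp h
    refine isConj_iff.mpr ⟨g, ?_⟩
    have h6 : g * (P.y * P.s) ^ 6 * g⁻¹ = (P.y ^ 2 * P.s) ^ 6 := by rw [← conj_pow, hg]
    rwa [P.hys.mul_pow, (P.hys.pow_left 2).mul_pow, show P.s ^ 6 = 1 by
      rw [show (6 : ℕ) = 2 * 3 from rfl, pow_mul, pow_two, P.s_mul, one_pow], mul_one, mul_one,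
      pow_succ (P.y ^ 2), pow_succ P.y, P.y_pow, one_mul, ← pow_mul, show 2 * 5 = 5 * 2 from rfl,
      pow_mul, P.y_pow, one_pow, one_mul] at h6
  · intro h
    obtain ⟨g, hg⟩ := isConj_iff.mp h
    have hgN : g ∈ normalizer ((zpowers P.y : Subgroup G) : Set G) := by
      rw [mem_normalizer_iff_map_conj_eq, MonoidHom.map_zpowers]
      show zpowers (g * P.y * g⁻¹) = zpowers P.y
      rw [hg]
      refine le_antisymm (zpowers_le.mpr (pow_mem (mem_zpowers P.y) 2)) (zpowers_le.mpr ?_)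
      have := pow_mem (mem_zpowers (P.y ^ 2)) 3
      rwa [P.y_sq_cube] at this
    refine isConj_iff.mpr ⟨g, ?_⟩
    calc g * (P.y * P.s) * g⁻¹ = g * P.y * g⁻¹ * (g * P.s * g⁻¹) := by group
      _ = P.y ^ 2 * P.s := by rw [hg, (P.hcent g hgN).eq, mul_inv_cancel_right]

/-- The norm of a sum of two columns. -/
theorem sum_norm_pair [Fact (Nat.Prime 5)] (g h : G)
    (hg : centralizer ({g} : Set G) = centralizer ({P.y} : Set G))
    (hh : centralizer ({h} : Set G) = centralizer ({P.y} : Set G))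
    (hiff : IsConj g h ↔ IsConj P.y (P.y ^ 2)) :
    ∑ χ : IrrCharacter G, ((χ : G → ℂ) g + (χ : G → ℂ) h) *
      conj ((χ : G → ℂ) g + (χ : G → ℂ) h) = 40 := by
  have e1 := column_orthogonality_of_isConj (IsConj.refl g)
  have e2 := column_orthogonality_of_isConj (IsConj.refl h)
  rw [hg] at e1
  rw [hh] at e2
  have hexp : ∀ χ : IrrCharacter G, ((χ : G → ℂ) g + (χ : G → ℂ) h) *
      conj ((χ : G → ℂ) g + (χ : G → ℂ) h) = ((χ : G → ℂ) g * conj ((χ : G → ℂ) g) +
        (χ : G → ℂ) h * conj ((χ : G → ℂ) h)) + ((χ : G → ℂ) g * conj ((χ : G → ℂ) h) +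
        (χ : G → ℂ) h * conj ((χ : G → ℂ) g)) := fun χ => by rw [map_add]; ring
  simp only [hexp, Finset.sum_add_distrib, e1, e2]
  by_cases hc : IsConj g h
  · rw [column_orthogonality_of_isConj hc, column_orthogonality_of_isConj hc.symm, hg, hh,
      P.isConj_sq_iff.mp (hiff.mp hc)]
    norm_num
  · rw [column_orthogonality_of_not_isConj hc,
      column_orthogonality_of_not_isConj fun h' => hc h'.symm,
      P.hCy.resolve_left fun h10 => hc (hiff.mpr (P.isConj_sq_iff.mpr h10))]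
    norm_num

/-- The index of the centralizer of `s`. -/
theorem index_s : ((centralizer ({P.s} : Set G)).index : ℤ) =
    95040 / (Nat.card (centralizer ({P.s} : Set G)) : ℤ) := by
  have h := index_centralizer_mul_card P.s
  rw [P.hG.2] at h
  rw [show (95040 : ℤ) = ((95040 : ℕ) : ℤ) from rfl, ← h, Nat.cast_mul,
    Int.mul_ediv_cancel _ (by exact_mod_cast Nat.card_pos.ne')]

open scoped Classical in
/-- The class of `s`. -/
noncomputable def cls : Finset G := Finset.univ.filter fun g => IsConj P.s g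

theorem mem_cls {g : G} : g ∈ P.cls ↔ IsConj P.s g := by
  classical
  simp [cls]

theorem conj_mem_cls (c : G) {g : G} (h : g ∈ P.cls) : c * g * c⁻¹ ∈ P.cls :=
  P.mem_cls.mpr ((P.mem_cls.mp h).trans (isConj_iff.mpr ⟨c, rfl⟩))

theorem mul_self_cls {g : G} (h : g ∈ P.cls) : g * g = 1 := by
  obtain ⟨c, rfl⟩ := isConj_iff.mp (P.mem_cls.mp h)
  calc c * P.s * c⁻¹ * (c * P.s * c⁻¹) = c * (P.s * P.s) * c⁻¹ := by group
    _ = 1 := by rw [P.s_mul]; group

open scoped Classical in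
/-- Pairs of conjugates of `s` with a given product. -/
noncomputable def pairs (c : G) : ℕ := ((P.cls ×ˢ P.cls).filter fun z => z.1 * z.2 = c).card

/-- The counting formula for two conjugates of `s`. -/
theorem pairs_eq (c : G) : (95040 : ℂ) * (P.pairs c : ℂ) =
    ((centralizer ({P.s} : Set G)).index : ℂ) ^ 2 *
      ∑ χ : IrrCharacter G, (χ : G → ℂ) P.s ^ 2 * (χ : G → ℂ) c⁻¹ / (χ : G → ℂ) 1 := by
  classical
  have h := card_pairs_mul P.cls P.cls (fun g a ha => P.conj_mem_cls g ha)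
    (fun g a ha => P.conj_mem_cls g ha) c
  rw [P.hG.2] at h
  push_cast at h
  rw [pairs, h, Finset.mul_sum]
  refine Finset.sum_congr rfl fun χ _ => ?_
  have hs : ∑ a ∈ P.cls, (χ : G → ℂ) a =
      ((centralizer ({P.s} : Set G)).index : ℂ) * (χ : G → ℂ) P.s := by
    rw [Finset.sum_congr rfl (g := fun _ => (χ : G → ℂ) P.s) fun a ha =>
      (isClassFunction_apply_eq (irr_isClassFunction χ) (P.mem_cls.mp ha)).symm ▸ rfl,
      Finset.sum_const, nsmul_eq_mul, ← card_conjClass_eq_index, Nat.card_eq_fintype_card,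
      Fintype.card_subtype]
    rfl
  rw [hs]
  ring

/-- The conjugates of `s` inverting `y`. -/
def Inverting : Set G := {a | IsConj P.s a ∧ a * P.y * a⁻¹ = P.y⁻¹}

theorem pairs_pow {j k : ℕ} (hjk : (P.y ^ j) ^ k = P.y) :
    P.pairs (P.y ^ j) = Nat.card P.Inverting := by
  classical
  rw [pairs, ← Nat.card_eq_finsetCard]
  refine Nat.card_congr
    { toFun := fun z => ⟨z.1.1, ?_⟩
      invFun := fun a => ⟨(a.1, a.1 * P.y ^ j), ?_⟩
      left_inv := fun z => ?_
      right_inv := fun a => rfl }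
  · obtain ⟨hz, hzy⟩ := Finset.mem_filter.mp z.2
    obtain ⟨ha, hb⟩ := Finset.mem_product.mp hz
    refine ⟨P.mem_cls.mp ha, ?_⟩
    have h1 : z.1.1 * (P.y ^ j) * z.1.1⁻¹ = (P.y ^ j)⁻¹ := by
      refine Eq.trans (congrArg (fun g => z.1.1 * g * z.1.1⁻¹) hzy.symm) ?_
      refine Eq.trans ?_ (congrArg Inv.inv hzy)
      show z.1.1 * (z.1.1 * z.1.2) * z.1.1⁻¹ = (z.1.1 * z.1.2)⁻¹
      rw [← mul_assoc, P.mul_self_cls ha, one_mul, mul_inv_rev,
        inv_eq_of_mul_eq_one_right (P.mul_self_cls hb)]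
    calc z.1.1 * P.y * z.1.1⁻¹ = (z.1.1 * (P.y ^ j) * z.1.1⁻¹) ^ k := by rw [conj_pow, hjk]
      _ = P.y⁻¹ := by rw [h1, inv_pow, hjk]
  · obtain ⟨ha, hy⟩ := a.2
    refine Finset.mem_filter.mpr ⟨Finset.mem_product.mpr ⟨P.mem_cls.mpr ha, ?_⟩, ?_⟩
    · have h2 : (P.y ^ (2 * j))⁻¹ * a.1 * ((P.y ^ (2 * j))⁻¹)⁻¹ = a.1 * P.y ^ (4 * j) := by
        have h3 : a.1 * P.y ^ (2 * j) * a.1⁻¹ = (P.y ^ (2 * j))⁻¹ := by
          rw [← conj_pow, hy, inv_pow]
        rw [inv_inv, ← h3, show 4 * j = 2 * j + 2 * j by ring, pow_add]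
        group
      have h5 : a.1 * P.y ^ j = P.y ^ (2 * j) * a.1 * (P.y ^ (2 * j))⁻¹ := by
        have h3 : a.1⁻¹ * P.y ^ (2 * j) * a.1 = (P.y ^ (2 * j))⁻¹ := by
          have h3' : a.1 * (P.y ^ (2 * j))⁻¹ * a.1⁻¹ = P.y ^ (2 * j) := by
            rw [← inv_pow, ← conj_pow, ← conj_inv, hy, inv_inv]
          calc a.1⁻¹ * P.y ^ (2 * j) * a.1
              = a.1⁻¹ * (a.1 * (P.y ^ (2 * j))⁻¹ * a.1⁻¹) * a.1 := by rw [h3']
            _ = _ := by group
        calc a.1 * P.y ^ j = a.1 * ((P.y ^ (2 * j))⁻¹ * (P.y ^ (2 * j))⁻¹) * P.y ^ (5 * j) := by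
              rw [mul_assoc a.1]
              congr 1
              rw [show 5 * j = 2 * j + 2 * j + j by ring, pow_add, pow_add]
              group
          _ = a.1 * (a.1⁻¹ * P.y ^ (2 * j) * a.1 * (P.y ^ (2 * j))⁻¹) := by
              rw [h3, pow_mul P.y 5 j, P.y_pow, one_pow, mul_one]
          _ = _ := by group
      exact P.mem_cls.mpr (ha.trans (isConj_iff.mpr ⟨_, h5.symm⟩))
    · show a.1 * (a.1 * P.y ^ j) = P.y ^ j
      rw [← mul_assoc, P.mul_self_cls (P.mem_cls.mpr ha), one_mul]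
  · obtain ⟨hz, hzy⟩ := Finset.mem_filter.mp z.2
    obtain ⟨ha, -⟩ := Finset.mem_product.mp hz
    refine Subtype.ext (Prod.ext rfl ?_)
    show z.1.1 * P.y ^ j = z.1.2
    refine Eq.trans (congrArg (z.1.1 * ·) hzy.symm) ?_
    show z.1.1 * (z.1.1 * z.1.2) = z.1.2
    rw [← mul_assoc, P.mul_self_cls ha, one_mul]

theorem five_dvd_inverting [Fact (Nat.Prime 5)] : 5 ∣ Nat.card P.Inverting := by
  refine Order7920.dvd_card_of_free (G := ConjAct G) (g := ConjAct.toConjAct P.y)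
    (by rw [← map_pow, P.y_pow, map_one]) (fun a ha => ?_) fun a ha h => ?_
  · obtain ⟨h1, h2⟩ := ha
    show IsConj P.s (P.y * a * P.y⁻¹) ∧ _
    refine ⟨h1.trans (isConj_iff.mpr ⟨P.y, rfl⟩), ?_⟩
    show P.y * a * P.y⁻¹ * P.y * (P.y * a * P.y⁻¹)⁻¹ = P.y⁻¹
    calc P.y * a * P.y⁻¹ * P.y * (P.y * a * P.y⁻¹)⁻¹ = P.y * (a * P.y * a⁻¹) * P.y⁻¹ := by group
      _ = P.y⁻¹ := by rw [h2]; group
  · have h' : P.y * a * P.y⁻¹ = a := h
    have hc : a * P.y * a⁻¹ = P.y := by
      rw [mul_inv_eq_iff_eq_mul]; exact (mul_inv_eq_iff_eq_mul.mp h').symm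
    rw [ha.2] at hc
    have h2 : P.y ^ 2 = 1 := by
      rw [pow_two]
      nth_rewrite 1 [← hc]
      exact inv_mul_cancel _
    have := Nat.le_of_dvd two_pos (orderOf_dvd_of_pow_eq_one h2)
    rw [P.hy] at this
    omega

/-- No two conjugates of `s` have a product of order eleven. -/
theorem pairs_eleven {c : G} (hc : orderOf c = 11) : P.pairs c = 0 := by
  classical
  rw [pairs, Finset.card_eq_zero, Finset.filter_eq_empty_iff]
  rintro ⟨a, b⟩ hz h
  replace h : a * b = c := h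
  obtain ⟨ha, hb⟩ : a ∈ P.cls ∧ b ∈ P.cls := Finset.mem_product.mp hz
  have haN : a ∈ normalizer ((zpowers c : Subgroup G) : Set G) := by
    rw [mem_normalizer_iff_map_conj_eq, MonoidHom.map_zpowers]
    show zpowers (a * c * a⁻¹) = zpowers c
    have h1 : a * c * a⁻¹ = c⁻¹ := by
      rw [← h, ← mul_assoc, P.mul_self_cls ha, one_mul, mul_inv_rev,
        inv_eq_of_mul_eq_one_right (P.mul_self_cls hb)]
    rw [h1, zpowers_inv]
  have h2 := Subgroup.orderOf_dvd_natCard _ haN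
  rw [card_normalizer_eleven P.hG hc] at h2
  obtain ⟨e, he⟩ := isConj_iff.mp (P.mem_cls.mp ha)
  rw [← he, ← MulAut.conj_apply, MulEquiv.orderOf_eq, P.hs] at h2
  norm_num at h2

theorem pairs_s : P.pairs P.s =
    Nat.card {a : G // IsConj P.s a ∧ IsConj P.s (a * P.s)} := by
  classical
  rw [pairs, ← Nat.card_eq_finsetCard]
  refine Nat.card_congr
    { toFun := fun z => ⟨z.1.1, ?_⟩
      invFun := fun a => ⟨(a.1, a.1 * P.s), ?_⟩
      left_inv := fun z => ?_
      right_inv := fun a => rfl }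
  · obtain ⟨hz, hzy⟩ := Finset.mem_filter.mp z.2
    obtain ⟨ha, hb⟩ := Finset.mem_product.mp hz
    refine ⟨P.mem_cls.mp ha, ?_⟩
    have h1 : z.1.1 * P.s = z.1.2 := by
      refine Eq.trans (congrArg (z.1.1 * ·) hzy.symm) ?_
      show z.1.1 * (z.1.1 * z.1.2) = z.1.2
      rw [← mul_assoc, P.mul_self_cls ha, one_mul]
    rw [h1]
    exact P.mem_cls.mp hb
  · refine Finset.mem_filter.mpr ⟨Finset.mem_product.mpr ⟨P.mem_cls.mpr a.2.1,
      P.mem_cls.mpr a.2.2⟩, ?_⟩
    show a.1 * (a.1 * P.s) = P.s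
    rw [← mul_assoc, P.mul_self_cls (P.mem_cls.mpr a.2.1), one_mul]
  · obtain ⟨hz, hzy⟩ := Finset.mem_filter.mp z.2
    obtain ⟨ha, -⟩ := Finset.mem_product.mp hz
    refine Subtype.ext (Prod.ext rfl ?_)
    show z.1.1 * P.s = z.1.2
    refine Eq.trans (congrArg (z.1.1 * ·) hzy.symm) ?_
    show z.1.1 * (z.1.1 * z.1.2) = z.1.2
    rw [← mul_assoc, P.mul_self_cls ha, one_mul]

end Pack

end Cfsg.Agent.Lib.Recog95040
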