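import Mathlib
import Cfsg.Agent.Lib.Recog95040.Cert40
import Cfsg.Agent.Lib.Recog95040.Cert240
import Cfsg.Agent.Lib.Recog95040.Cert1440
import Cfsg.Agent.Lib.Recog95040.Orth

/-!
The rows of the character table on the columns `x`, `y`, `y * s`, `s`.
-/

set_option autoImplicit false
set_option linter.style.haveILetI false

namespace Cfsg.Agent.Lib.Recog95040

open Cfsg Subgroup
open Cfsg.Agent.Lib.Chars Cfsg.Agent.Lib.SmallGroups Cfsg.Agent.Lib.SmallGroups.PrimeChar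
open scoped ComplexConjugate Pointwise

universe u

variable {G : Type u} [Group G] [Fintype G]

namespace Pack

variable (P : Pack G) [Fact (Nat.Prime 5)]

/-- The value at `s`. -/
noncomputable def sVal (χ : IrrCharacter G) : ℤ := (exists_tenSum P χ).choose_spec.choose

/-- The sum of the values at `y * s` and `y ^ 2 * s`. -/
noncomputable def wVal (χ : IrrCharacter G) : ℤ := (exists_tenSum P χ).choose

theorem tenSum_spec (χ : IrrCharacter G) :
    (χ : G → ℂ) (P.y * P.s) + (χ : G → ℂ) (P.y ^ 2 * P.s) = P.wVal χ ∧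
      (χ : G → ℂ) P.s = P.sVal χ ∧
      (∀ [Fintype (zpowers (P.y * P.s))], ∑ g : zpowers (P.y * P.s), (χ : G → ℂ) g =
        ((deg P.hG χ : ℤ) + P.sVal χ + 2 * fiveSum P.hG P.hy χ + 2 * P.wVal χ : ℤ)) ∧
      ((deg P.hG χ : ℤ) + P.sVal χ + 2 * fiveSum P.hG P.hy χ + 2 * P.wVal χ) % 10 = 0 ∧
      0 ≤ (deg P.hG χ : ℤ) + P.sVal χ + 2 * fiveSum P.hG P.hy χ + 2 * P.wVal χ ∧
      ((deg P.hG χ : ℤ) - P.sVal χ + 2 * fiveSum P.hG P.hy χ - 2 * P.wVal χ) % 10 = 0 ∧
      0 ≤ (deg P.hG χ : ℤ) - P.sVal χ + 2 * fiveSum P.hG P.hy χ - 2 * P.wVal χ ∧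
      (fiveSum P.hG P.hy χ - P.wVal χ) % 2 = 0 ∧ (5 ∣ deg P.hG χ → P.wVal χ = 0) :=
  (exists_tenSum P χ).choose_spec.choose_spec

theorem sVal_eq (χ : IrrCharacter G) : (χ : G → ℂ) P.s = P.sVal χ := (P.tenSum_spec χ).2.1

theorem wVal_eq (χ : IrrCharacter G) :
    (χ : G → ℂ) (P.y * P.s) + (χ : G → ℂ) (P.y ^ 2 * P.s) = P.wVal χ := (P.tenSum_spec χ).1

theorem aVal_eq (χ : IrrCharacter G) :
    (χ : G → ℂ) P.y + (χ : G → ℂ) (P.y ^ 2) = fiveSum P.hG P.hy χ :=
  (fiveSum_spec P.hG P.hy χ).1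

theorem sVal_trivial : P.sVal (trivialIrr G) = 1 := by
  have h := P.sVal_eq (trivialIrr G)
  rw [trivialIrr_apply] at h
  exact_mod_cast h.symm

theorem wVal_trivial : P.wVal (trivialIrr G) = 2 := by
  have h := P.wVal_eq (trivialIrr G)
  rw [trivialIrr_apply, trivialIrr_apply] at h
  have : ((P.wVal (trivialIrr G) : ℤ) : ℂ) = ((2 : ℤ) : ℂ) := by rw [← h]; norm_num
  exact_mod_cast this

theorem sVal_conj (χ : IrrCharacter G) : P.sVal (irrConj χ) = P.sVal χ := by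
  have h := P.sVal_eq (irrConj χ)
  rw [irrConj_apply, P.sVal_eq, map_intCast] at h
  exact_mod_cast h.symm

theorem wVal_conj (χ : IrrCharacter G) : P.wVal (irrConj χ) = P.wVal χ := by
  have h := P.wVal_eq (irrConj χ)
  rw [irrConj_apply, irrConj_apply, ← map_add, P.wVal_eq, map_intCast] at h
  exact_mod_cast h.symm

/-- The row of a character. -/
noncomputable def row {x : G} (X : XCol x) (χ : IrrCharacter G) : It :=
  ⟨deg P.hG χ, X.u χ, X.u χ % 2, fiveSum P.hG P.hy χ, P.wVal χ, P.sVal χ⟩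

/-- An element of order eleven normalized by `y`. -/
theorem exists_x : ∃ x : G, orderOf x = 11 ∧
    P.y ∈ normalizer ((zpowers x : Subgroup G) : Set G) := by
  haveI : Fact (Nat.Prime 11) := ⟨by norm_num⟩
  obtain ⟨x₀, hx₀⟩ := exists_prime_orderOf_dvd_card' (G := G) 11 (by rw [P.hG.2]; norm_num)
  obtain ⟨y₀, hy₀⟩ := exists_prime_orderOf_dvd_card'
    (G := normalizer ((zpowers x₀ : Subgroup G) : Set G)) 5
    (by rw [card_normalizer_eleven P.hG hx₀]; norm_num)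
  obtain ⟨P₀⟩ := (inferInstance : Nonempty (Sylow 5 G))
  have hP : Nat.card (P₀ : Subgroup G) = 5 := by
    rw [card_sylow_eq (k := 1) (m := 19008) P₀ (by rw [P.hG.2]; norm_num) (by norm_num), pow_one]
  obtain ⟨P₁, hP₁, -⟩ := existsUnique_sylow_of_orderOf P₀ hP
    (show orderOf (y₀ : G) = 5 by rw [Subgroup.orderOf_coe, hy₀])
  obtain ⟨P₂, hP₂, -⟩ := existsUnique_sylow_of_orderOf P₀ hP P.hy
  obtain ⟨c, hc⟩ := MulAction.exists_smul_eq G P₁ P₂
  have hy : P.y ∈ (zpowers (y₀ : G)).map (MulAut.conj c).toMonoidHom := by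
    rw [← hP₁]
    have h1 : ((c • P₁ : Sylow 5 G) : Subgroup G) = zpowers P.y := by rw [hc, hP₂]
    rw [Sylow.coe_subgroup_smul] at h1
    have h2 : P.y ∈ MulAut.conj c • (P₁ : Subgroup G) := h1 ▸ mem_zpowers _
    exact h2
  obtain ⟨z, hz, hzy⟩ := hy
  refine ⟨c * x₀ * c⁻¹, by rw [← MulAut.conj_apply, MulEquiv.orderOf_eq, hx₀], ?_⟩
  have hzN : z ∈ normalizer ((zpowers x₀ : Subgroup G) : Set G) :=
    zpowers_le.mpr y₀.2 hz
  rw [← hzy, mem_normalizer_iff_map_conj_eq, MonoidHom.map_zpowers]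
  rw [mem_normalizer_iff_map_conj_eq, MonoidHom.map_zpowers] at hzN
  show zpowers (c * z * c⁻¹ * (c * x₀ * c⁻¹) * (c * z * c⁻¹)⁻¹) = zpowers (c * x₀ * c⁻¹)
  have h1 : zpowers (z * x₀ * z⁻¹) = zpowers x₀ := hzN
  have h2 := congrArg (Subgroup.map (MulAut.conj c).toMonoidHom) h1
  rw [MonoidHom.map_zpowers, MonoidHom.map_zpowers] at h2
  rw [show c * z * c⁻¹ * (c * x₀ * c⁻¹) * (c * z * c⁻¹)⁻¹ = c * (z * x₀ * z⁻¹) * c⁻¹ by group]
  exact h2

theorem dvd_central (g : G) (z : ℤ) (k : ℤ) (χ : IrrCharacter G)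
    (h : ((centralizer ({g} : Set G)).index : ℂ) * (χ : G → ℂ) g = (k * z : ℤ))
    : (k * z) % (deg P.hG χ : ℤ) = 0 := by
  obtain ⟨hd, -, hd0, -, -⟩ := deg_spec P.hG χ
  have hI := irr_isIntegral_central χ g
  rw [h, hd] at hI
  obtain ⟨r, hr⟩ := exists_int_eq_of_isIntegral hI (((k * z : ℤ) : ℚ) / (deg P.hG χ : ℚ))
    (by push_cast; ring)
  have hne : (deg P.hG χ : ℂ) ≠ 0 := by exact_mod_cast hd0.ne'
  have h2 : k * z = r * deg P.hG χ := by
    rw [div_eq_iff hne] at hr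
    exact_mod_cast hr
  exact Int.emod_eq_zero_of_dvd ⟨r, by rw [h2]; ring⟩

/-- Every row satisfies the conditions. -/
theorem good_row {x : G} (X : XCol x) (hx : orderOf x = 11)
    (hyN : P.y ∈ normalizer ((zpowers x : Subgroup G) : Set G)) {χ : IrrCharacter G}
    (hχ : χ ∈ X.reps) :
    Good (Nat.card (centralizer ({P.s} : Set G))) (P.row X χ) := by
  obtain ⟨hd, hu, hk, hm⟩ := row_facts P.hG X hχ
  have hu2 : 0 ≤ X.u χ % 2 := Int.emod_nonneg _ two_ne_zero
  have hab := fiveSum_le P.hG X hx (card_centralizer_eleven P.hG hx)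
    (card_normalizer_eleven P.hG hx) P.hy hyN χ
  obtain ⟨-, -, ha5, -, ha0⟩ := fiveSum_spec P.hG P.hy χ
  obtain ⟨hw, hs, -, h1, h2, h3, h4, hpar, hw0⟩ := P.tenSum_spec χ
  obtain ⟨z, hz, hz4, hz1, hz2⟩ := exists_value_involution P.hG χ P.hs (X.mem_reps hχ)
    (deg_spec P.hG χ).1
  have hzs : z = P.sVal χ := by
    rw [hs] at hz
    exact_mod_cast hz.symm
  subst hzs
  -- column norms
  have hss : ∑ ψ, P.sVal ψ * P.sVal ψ = (Nat.card (centralizer ({P.s} : Set G)) : ℤ) := by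
    apply Int.cast_injective (α := ℂ)
    push_cast
    rw [← column_orthogonality_of_isConj (IsConj.refl P.s)]
    exact Finset.sum_congr rfl fun ψ _ => by rw [P.sVal_eq, map_intCast]
  have hsb := X.item_le (fun ψ => P.sVal ψ * P.sVal ψ) (fun ψ => mul_self_nonneg _)
    (fun ψ => by simp only [P.sVal_conj]) hχ
  rw [hss, P.sVal_trivial] at hsb
  have haa : ∑ ψ, fiveSum P.hG P.hy ψ * fiveSum P.hG P.hy ψ = 40 := by
    apply Int.cast_injective (α := ℂ)
    push_cast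
    rw [← P.sum_norm_pair P.y (P.y ^ 2) rfl P.centralizer_y_sq Iff.rfl]
    exact Finset.sum_congr rfl fun ψ _ => by rw [P.aVal_eq, map_intCast]
  have hww : ∑ ψ, P.wVal ψ * P.wVal ψ = 40 := by
    apply Int.cast_injective (α := ℂ)
    push_cast
    rw [← P.sum_norm_pair (P.y * P.s) (P.y ^ 2 * P.s) P.centralizer_ys P.centralizer_y_sq_s
      P.isConj_sq_s_iff]
    exact Finset.sum_congr rfl fun ψ _ => by rw [P.wVal_eq, map_intCast]
  have hab2 := X.item_le (fun ψ => fiveSum P.hG P.hy ψ * fiveSum P.hG P.hy ψ)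
    (fun ψ => mul_self_nonneg _) (fun ψ => by simp only [fiveSum_conj]) hχ
  rw [haa, fiveSum_trivial] at hab2
  have hwb := X.item_le (fun ψ => P.wVal ψ * P.wVal ψ) (fun ψ => mul_self_nonneg _)
    (fun ψ => by simp only [P.wVal_conj]) hχ
  rw [hww, P.wVal_trivial] at hwb
  -- central characters
  have cs := P.dvd_central P.s (P.sVal χ) (95040 / (Nat.card (centralizer ({P.s} : Set G)) : ℤ)) χ
    (by rw [hs, Int.cast_mul, ← P.index_s]; norm_num)
  have hidx : ∀ g : G, centralizer ({g} : Set G) = centralizer ({P.y} : Set G) →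
      ((centralizer ({g} : Set G)).index : ℂ) = 95040 / Nat.card (centralizer ({P.y} : Set G)) := by
    intro g hg
    have h := index_centralizer_mul_card g
    rw [P.hG.2, hg] at h
    rw [hg, eq_div_iff (Nat.cast_ne_zero.mpr Nat.card_pos.ne')]
    exact_mod_cast h
  have cpair : ∀ (g g' : G) (v : ℤ), centralizer ({g} : Set G) = centralizer ({P.y} : Set G) →
      centralizer ({g'} : Set G) = centralizer ({P.y} : Set G) →
      (IsConj g g' ↔ IsConj P.y (P.y ^ 2)) → (χ : G → ℂ) g + (χ : G → ℂ) g' = v →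
      (4752 * v) % (deg P.hG χ : ℤ) = 0 := by
    intro g g' v hg hg' hiff hv
    obtain ⟨hd', -, hd0, -, -⟩ := deg_spec P.hG χ
    have hne : (deg P.hG χ : ℂ) ≠ 0 := by exact_mod_cast hd0.ne'
    have hI : IsIntegral ℤ (((4752 * v : ℤ) : ℂ) / (deg P.hG χ : ℂ)) := by
      rcases P.hCy with h10 | h20
      · have hc : IsConj g g' := hiff.mpr (P.isConj_sq_iff.mpr h10)
        have hgg : (χ : G → ℂ) g' = (χ : G → ℂ) g :=
          (isClassFunction_apply_eq (irr_isClassFunction χ) hc).symm ▸ rfl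
        have hI := irr_isIntegral_central χ g
        rw [hidx g hg, h10, hd'] at hI
        rw [hgg] at hv
        rwa [show ((4752 * v : ℤ) : ℂ) / (deg P.hG χ : ℂ) =
          95040 / ((10 : ℕ) : ℂ) * (χ : G → ℂ) g / (deg P.hG χ : ℂ) by
            push_cast; rw [← hv]; ring]
      · have hI := (irr_isIntegral_central χ g).add (irr_isIntegral_central χ g')
        rw [hidx g hg, hidx g' hg', h20, hd'] at hI
        rwa [show ((4752 * v : ℤ) : ℂ) / (deg P.hG χ : ℂ) =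
          95040 / ((20 : ℕ) : ℂ) * (χ : G → ℂ) g / (deg P.hG χ : ℂ) +
            95040 / ((20 : ℕ) : ℂ) * (χ : G → ℂ) g' / (deg P.hG χ : ℂ) by
            push_cast; rw [← hv]; ring]
    obtain ⟨r, hr⟩ := exists_int_eq_of_isIntegral hI (((4752 * v : ℤ) : ℚ) / (deg P.hG χ : ℚ))
      (by push_cast; ring)
    have h2 : 4752 * v = r * deg P.hG χ := by
      rw [div_eq_iff hne] at hr
      exact_mod_cast hr
    exact Int.emod_eq_zero_of_dvd ⟨r, by rw [h2]; ring⟩
  have ca := cpair P.y (P.y ^ 2) _ rfl P.centralizer_y_sq Iff.rfl (P.aVal_eq χ)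
  have cw := cpair (P.y * P.s) (P.y ^ 2 * P.s) _ P.centralizer_ys P.centralizer_y_sq_s
    P.isConj_sq_s_iff hw
  refine ⟨hd, hu, rfl, hk, ?_, ?_, ?_⟩
  · simp only [row, okS, Bool.and_eq_true]
    exact ⟨⟨⟨⟨decide_eq_true (by linarith), decide_eq_true hz4⟩, decide_eq_true hz1⟩,
      decide_eq_true hz2⟩, decide_eq_true cs⟩
  · simp only [row, okA, Bool.and_eq_true, Bool.or_eq_true, hm]
    refine ⟨⟨⟨⟨⟨decide_eq_true (by omega), ?_⟩, decide_eq_true hab.1⟩, decide_eq_true hab.2⟩,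
      decide_eq_true (by linarith)⟩, decide_eq_true ca⟩
    by_cases h5 : (deg P.hG χ : ℤ) % 5 = 0
    · exact Or.inr (decide_eq_true (ha0 (by exact_mod_cast Int.dvd_of_emod_eq_zero h5)))
    · exact Or.inl (decide_eq_true h5)
  · simp only [row, okW, Bool.and_eq_true, Bool.or_eq_true]
    refine ⟨⟨⟨⟨⟨⟨⟨decide_eq_true hpar, ?_⟩, decide_eq_true (by linarith)⟩, decide_eq_true cw⟩,
      decide_eq_true h1⟩, decide_eq_true h3⟩, decide_eq_true h2⟩, decide_eq_true h4⟩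
    by_cases h5 : (deg P.hG χ : ℤ) % 5 = 0
    · exact Or.inr (decide_eq_true (hw0 (by exact_mod_cast Int.dvd_of_emod_eq_zero h5)))
    · exact Or.inl (decide_eq_true h5)

end Pack

end Cfsg.Agent.Lib.Recog95040
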