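import Mathlib
import Cfsg.Agent.Lib.Recog95040.Passage
import Cfsg.Agent.Lib.Recog95040.Table

/-!
The possible tables on the columns `x`, `y`, `y * s`, `s`.
-/

set_option autoImplicit false
set_option linter.style.haveILetI false

namespace Cfsg.Agent.Lib.Recog95040

open Cfsg Subgroup
open Cfsg.Agent.Lib.Chars Cfsg.Agent.Lib.SmallGroups
open scoped ComplexConjugate

universe u

variable {G : Type u} [Group G] [Fintype G]

/-- Orthogonality for integral combinations of columns. -/
theorem sum_cols_eq_zero {α β : IrrCharacter G → ℤ} (A B : List G)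
    (hα : ∀ χ : IrrCharacter G, ((α χ : ℤ) : ℂ) = (A.map fun g => (χ : G → ℂ) g).sum)
    (hβ : ∀ χ : IrrCharacter G, ((β χ : ℤ) : ℂ) = (B.map fun g => (χ : G → ℂ) g).sum)
    (hAB : ∀ g ∈ A, ∀ h ∈ B, orderOf g ≠ orderOf h) : ∑ χ, α χ * β χ = 0 := by
  apply Int.cast_injective (α := ℂ)
  rw [Int.cast_sum, Int.cast_zero]
  calc ∑ χ, ((α χ * β χ : ℤ) : ℂ)
      = ∑ χ : IrrCharacter G, (A.map fun g => (χ : G → ℂ) g *
          (B.map fun h => conj ((χ : G → ℂ) h)).sum).sum := by
        refine Finset.sum_congr rfl fun χ _ => ?_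
        rw [Int.cast_mul, hα, ← map_intCast (starRingEnd ℂ) (β χ), hβ, map_list_sum, List.map_map,
          List.sum_map_mul_right]
        rfl
    _ = 0 := by
        clear hα hβ
        induction A with
        | nil => simp
        | cons a A ih =>
          simp only [List.map_cons, List.sum_cons, Finset.sum_add_distrib]
          rw [ih (fun g hg => hAB g (List.mem_cons_of_mem _ hg)), add_zero]
          have ha := fun h hh => hAB a List.mem_cons_self h hh
          clear ih hAB
          induction B with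
          | nil => simp
          | cons b B ih2 =>
            simp only [List.map_cons, List.sum_cons, mul_add, Finset.sum_add_distrib]
            rw [ih2 (fun h hh => ha h (List.mem_cons_of_mem _ hh)),
              sum_mul_conj_eq_zero (ha b List.mem_cons_self), add_zero]

namespace Pack

variable (P : Pack G) [Fact (Nat.Prime 5)]

/-- The outcome of the classification. -/
theorem classify : ∃ (x : G) (X : XCol x), orderOf x = 11 ∧
    P.y ∈ normalizer ((zpowers x : Subgroup G) : Set G) ∧
    Nat.card (centralizer ({P.s} : Set G)) = 240 ∧ Nat.card P.Inverting = 5 ∧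
    Nat.card {a : G // IsConj P.s a ∧ IsConj P.s (a * P.s)} = 20 ∧
    ((∃ χ, fiveSum P.hG P.hy χ % 2 = 1) ∨ (∃ χ, P.row X χ = Cert.eleven) ∨
      (X.reps.map (P.row X)).Perm Cert.listA) := by
  classical
  haveI : Fact (Nat.Prime 11) := ⟨by norm_num⟩
  obtain ⟨x, hx, hyN⟩ := P.exists_x
  obtain ⟨X⟩ := exists_xCol hx (card_centralizer_eleven P.hG hx) (card_normalizer_eleven P.hG hx)
  refine ⟨x, X, hx, hyN, ?_⟩
  set C := Nat.card (centralizer ({P.s} : Set G)) with hC
  set a := fiveSum P.hG P.hy with ha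
  set d : IrrCharacter G → ℤ := fun χ => (deg P.hG χ : ℤ) with hd
  set R := X.reps.map (P.row X) with hR
  have hgood : ∀ e ∈ R, Good (C : ℤ) e := fun e he => by
    obtain ⟨χ, hχ, rfl⟩ := List.mem_map.mp he
    exact P.good_row X hx hyN hχ
  -- the column of the identity and the other columns
  have cd : ∀ χ : IrrCharacter G, ((d χ : ℤ) : ℂ) = ([(1 : G)].map fun g => (χ : G → ℂ) g).sum :=
    fun χ => by simp [hd, (deg_spec P.hG χ).1]
  have ca : ∀ χ : IrrCharacter G, ((a χ : ℤ) : ℂ) =
      ([P.y, P.y ^ 2].map fun g => (χ : G → ℂ) g).sum :=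
    fun χ => by simp [ha, ← P.aVal_eq χ]
  have cw : ∀ χ : IrrCharacter G, ((P.wVal χ : ℤ) : ℂ) =
      ([P.y * P.s, P.y ^ 2 * P.s].map fun g => (χ : G → ℂ) g).sum :=
    fun χ => by simp [← P.wVal_eq χ]
  have cs : ∀ χ : IrrCharacter G, ((P.sVal χ : ℤ) : ℂ) =
      ([P.s].map fun g => (χ : G → ℂ) g).sum :=
    fun χ => by simp [P.sVal_eq χ]
  have cu : ∀ χ : IrrCharacter G, ((X.u χ : ℤ) : ℂ) =
      ([x, x⁻¹].map fun g => (χ : G → ℂ) g).sum :=
    fun χ => by simp [← X.val χ]
  have o1 : orderOf (1 : G) = 1 := orderOf_one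
  have oy := P.hy
  have oy2 := P.orderOf_y_sq
  have oz := P.orderOf_ys
  have oz2 := P.orderOf_y_sq_s
  have os := P.hs
  have oxi : orderOf x⁻¹ = 11 := by rw [orderOf_inv, hx]
  have z1 : ∑ χ, d χ * a χ = 0 := sum_cols_eq_zero _ _ cd ca (by simp; omega)
  have z2 : ∑ χ, d χ * P.wVal χ = 0 := sum_cols_eq_zero _ _ cd cw (by simp; omega)
  have z3 : ∑ χ, d χ * P.sVal χ = 0 := sum_cols_eq_zero _ _ cd cs (by simp; omega)
  have z4 : ∑ χ, d χ * X.u χ = 0 := sum_cols_eq_zero _ _ cd cu (by simp; omega)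
  have z5 : ∑ χ, a χ * P.wVal χ = 0 := sum_cols_eq_zero _ _ ca cw (by simp; omega)
  have z6 : ∑ χ, a χ * P.sVal χ = 0 := sum_cols_eq_zero _ _ ca cs (by simp; omega)
  have z7 : ∑ χ, P.wVal χ * P.sVal χ = 0 := sum_cols_eq_zero _ _ cw cs (by simp; omega)
  have z8 : ∑ χ, X.u χ * a χ = 0 := sum_cols_eq_zero _ _ cu ca (by simp; omega)
  have z9 : ∑ χ, X.u χ * P.wVal χ = 0 := sum_cols_eq_zero _ _ cu cw (by simp; omega)
  have z10 : ∑ χ, X.u χ * P.sVal χ = 0 := sum_cols_eq_zero _ _ cu cs (by simp; omega)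
  have hss : ∑ ψ, P.sVal ψ * P.sVal ψ = (C : ℤ) := by
    apply Int.cast_injective (α := ℂ)
    push_cast
    rw [hC, ← column_orthogonality_of_isConj (IsConj.refl P.s)]
    exact Finset.sum_congr rfl fun ψ _ => by rw [P.sVal_eq, map_intCast]
  have haa : ∑ ψ, a ψ * a ψ = 40 := by
    apply Int.cast_injective (α := ℂ)
    push_cast
    rw [← P.sum_norm_pair P.y (P.y ^ 2) rfl P.centralizer_y_sq Iff.rfl]
    exact Finset.sum_congr rfl fun ψ _ => by rw [P.aVal_eq, map_intCast]
  have hww : ∑ ψ, P.wVal ψ * P.wVal ψ = 40 := by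
    apply Int.cast_injective (α := ℂ)
    push_cast
    rw [← P.sum_norm_pair (P.y * P.s) (P.y ^ 2 * P.s) P.centralizer_ys P.centralizer_y_sq_s
      P.isConj_sq_s_iff]
    exact Finset.sum_congr rfl fun ψ _ => by rw [P.wVal_eq, map_intCast]
  -- three columns
  have hidx : ((centralizer ({P.s} : Set G)).index : ℂ) * (C : ℂ) = 95040 := by
    have h := index_centralizer_mul_card P.s
    rw [P.hG.2] at h
    exact_mod_cast h
  have hC0 : (C : ℂ) ≠ 0 := Nat.cast_ne_zero.mpr Nat.card_pos.ne'
  have triple : ∀ (f : IrrCharacter G → ℤ) (A : List G),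
      (∀ χ : IrrCharacter G, ((f χ : ℤ) : ℂ) = (A.map fun g => (χ : G → ℂ) g⁻¹).sum) →
      ∑ χ, P.sVal χ * P.sVal χ * f χ * (95040 / d χ) =
        (C : ℤ) * C * (A.map fun g => (P.pairs g : ℤ)).sum := by
    intro f A hf
    apply Int.cast_injective (α := ℂ)
    rw [Int.cast_sum, Int.cast_mul, Int.cast_mul, Int.cast_natCast]
    have h1 : ∀ g, (C : ℂ) * C * (P.pairs g : ℂ) = (95040 : ℂ) *
        ∑ χ : IrrCharacter G, (χ : G → ℂ) P.s ^ 2 * (χ : G → ℂ) g⁻¹ / (χ : G → ℂ) 1 := fun g => by
      refine mul_left_cancel₀ (show (95040 : ℂ) ≠ 0 by norm_num) ?_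
      calc (95040 : ℂ) * ((C : ℂ) * C * (P.pairs g : ℂ))
          = (C : ℂ) * C * ((95040 : ℂ) * (P.pairs g : ℂ)) := by ring
        _ = _ := by rw [P.pairs_eq g, ← hidx]; ring
    have h2 : (C : ℂ) * C * (((A.map fun g => (P.pairs g : ℤ)).sum : ℤ) : ℂ) =
        (A.map fun g => (95040 : ℂ) * ∑ χ : IrrCharacter G,
          (χ : G → ℂ) P.s ^ 2 * (χ : G → ℂ) g⁻¹ / (χ : G → ℂ) 1).sum := by
      clear hf
      induction A with
      | nil => simp
      | cons b A ih =>
        simp only [List.map_cons, List.sum_cons, Int.cast_add, Int.cast_natCast, mul_add, ih, h1]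
    rw [h2]
    calc ∑ χ, ((P.sVal χ * P.sVal χ * f χ * (95040 / d χ) : ℤ) : ℂ)
        = ∑ χ : IrrCharacter G, (95040 : ℂ) *
            ((χ : G → ℂ) P.s ^ 2 * (A.map fun g => (χ : G → ℂ) g⁻¹).sum / (χ : G → ℂ) 1) := by
          refine Finset.sum_congr rfl fun χ _ => ?_
          rw [Int.cast_mul, Int.cast_mul, Int.cast_mul, cast_card_div P.hG χ, hf, P.sVal_eq]
          ring
      _ = _ := by
          clear h2 hf
          induction A with
          | nil => simp
          | cons b A ih =>
            simp only [List.map_cons, List.sum_cons, mul_add, add_div, Finset.sum_add_distrib]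
            rw [ih, Finset.mul_sum]
  have t1 : ∑ χ, P.sVal χ * P.sVal χ * X.u χ * (95040 / d χ) = 0 := by
    rw [triple X.u [x, x⁻¹] fun χ => by simp [← X.val χ, add_comm]]
    simp [P.pairs_eleven hx, P.pairs_eleven oxi]
  have t2 : ∑ χ, P.sVal χ * P.sVal χ * a χ * (95040 / d χ) =
      (C : ℤ) * C * (2 * (Nat.card P.Inverting : ℤ)) := by
    rw [triple a [P.y, P.y ^ 2] fun χ => ?_]
    · have e1 := P.pairs_pow (j := 1) (k := 1) (by rw [pow_one, pow_one])
      rw [pow_one] at e1
      have e2 := P.pairs_pow (j := 2) (k := 3) P.y_sq_cube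
      simp only [List.map_cons, List.map_nil, List.sum_cons, List.sum_nil, e1, e2]
      ring
    · simp only [List.map_cons, List.map_nil, List.sum_cons, List.sum_nil, add_zero, irr_inv, ha]
      rw [← map_add, P.aVal_eq, map_intCast]
  have t3 : ∑ χ, P.sVal χ * P.sVal χ * P.sVal χ * (95040 / d χ) =
      (C : ℤ) * C * (P.pairs P.s : ℤ) := by
    rw [triple P.sVal [P.s] fun χ => by
      simp [irr_inv, P.sVal_eq]]
    simp
  -- trivial character and sums over the rows
  have vt : d (trivialIrr G) = 1 ∧ a (trivialIrr G) = 2 ∧ P.wVal (trivialIrr G) = 2 ∧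
      P.sVal (trivialIrr G) = 1 ∧ X.u (trivialIrr G) = 2 :=
    ⟨by simp [hd, deg_trivial], fiveSum_trivial P.hG P.hy, P.wVal_trivial, P.sVal_trivial,
      X.u_trivial⟩
  obtain ⟨td, ta, tw, ts, tu⟩ := vt
  have hM : ∀ χ, (P.row X χ).pr = X.u χ % 2 := fun χ => rfl
  have S : ∀ (g : It → Int) (f : IrrCharacter G → ℤ), (∀ χ, g (P.row X χ) = f χ) →
      (∀ χ, f (irrConj χ) = f χ) → (R.map fun e => e.M * g e).sum =
        ∑ χ, f χ - f (trivialIrr G) := fun g f h1 h2 => X.sum_items (P.row X) hM g f h1 h2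
  have hc : ∀ χ, d (irrConj χ) = d χ ∧ a (irrConj χ) = a χ := fun χ =>
    ⟨by simp [hd, deg_conj], fiveSum_conj P.hG P.hy χ⟩
  have sdd : (R.map fun e => e.M * (e.d * e.d)).sum = 95039 := by
    rw [S _ (fun χ => d χ * d χ) (fun χ => rfl) (fun χ => by simp only [hc]), td,
      show ∑ χ, d χ * d χ = 95040 from sum_deg_sq P.hG]; norm_num
  have saa : (R.map fun e => e.M * (e.a * e.a)).sum = 36 := by
    rw [S _ (fun χ => a χ * a χ) (fun χ => rfl) (fun χ => by simp only [hc]), ta, haa]; norm_num
  have sww : (R.map fun e => e.M * (e.w * e.w)).sum = 36 := by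
    rw [S _ (fun χ => P.wVal χ * P.wVal χ) (fun χ => rfl) (fun χ => by simp only [P.wVal_conj]),
      tw, hww]; norm_num
  have sss : (R.map fun e => e.M * (e.s * e.s)).sum = (C : ℤ) - 1 := by
    rw [S _ (fun χ => P.sVal χ * P.sVal χ) (fun χ => rfl) (fun χ => by simp only [P.sVal_conj]),
      ts, hss]; norm_num
  have suu : (R.map fun e => e.M * (e.u * e.u)).sum = 18 := by
    rw [S _ (fun χ => X.u χ * X.u χ) (fun χ => rfl) (fun χ => by simp only [X.u_conj]), tu, X.sq]
    norm_num
  have spr : (R.map fun e => e.pr).sum = 1 := X.sum_pr (P.row X) hM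
  have sda : (R.map fun e => e.M * (e.d * e.a)).sum = -2 := by
    rw [S _ (fun χ => d χ * a χ) (fun χ => rfl) (fun χ => by simp only [hc]), td, ta, z1]; norm_num
  have sdw : (R.map fun e => e.M * (e.d * e.w)).sum = -2 := by
    rw [S _ (fun χ => d χ * P.wVal χ) (fun χ => rfl) (fun χ => by simp only [hc, P.wVal_conj]),
      td, tw, z2]; norm_num
  have sds : (R.map fun e => e.M * (e.d * e.s)).sum = -1 := by
    rw [S _ (fun χ => d χ * P.sVal χ) (fun χ => rfl) (fun χ => by simp only [hc, P.sVal_conj]),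
      td, ts, z3]; norm_num
  have sdu : (R.map fun e => e.M * (e.d * e.u)).sum = -2 := by
    rw [S _ (fun χ => d χ * X.u χ) (fun χ => rfl) (fun χ => by simp only [hc, X.u_conj]),
      td, tu, z4]; norm_num
  have saw : (R.map fun e => e.M * (e.a * e.w)).sum = -4 := by
    rw [S _ (fun χ => a χ * P.wVal χ) (fun χ => rfl) (fun χ => by simp only [hc, P.wVal_conj]),
      ta, tw, z5]; norm_num
  have sas : (R.map fun e => e.M * (e.a * e.s)).sum = -2 := by
    rw [S _ (fun χ => a χ * P.sVal χ) (fun χ => rfl) (fun χ => by simp only [hc, P.sVal_conj]),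
      ta, ts, z6]; norm_num
  have sws : (R.map fun e => e.M * (e.w * e.s)).sum = -2 := by
    rw [S _ (fun χ => P.wVal χ * P.sVal χ) (fun χ => rfl)
      (fun χ => by simp only [P.wVal_conj, P.sVal_conj]), tw, ts, z7]; norm_num
  have sua : (R.map fun e => e.M * (e.u * e.a)).sum = -4 := by
    rw [S _ (fun χ => X.u χ * a χ) (fun χ => rfl) (fun χ => by simp only [hc, X.u_conj]),
      ta, tu, z8]; norm_num
  have suw : (R.map fun e => e.M * (e.u * e.w)).sum = -4 := by
    rw [S _ (fun χ => X.u χ * P.wVal χ) (fun χ => rfl)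
      (fun χ => by simp only [P.wVal_conj, X.u_conj]), tw, tu, z9]; norm_num
  have sus : (R.map fun e => e.M * (e.u * e.s)).sum = -2 := by
    rw [S _ (fun χ => X.u χ * P.sVal χ) (fun χ => rfl)
      (fun χ => by simp only [P.sVal_conj, X.u_conj]), ts, tu, z10]; norm_num
  have sssu : (R.map fun e => e.M * (e.s * e.s * e.u * (95040 / e.d))).sum = -190080 := by
    rw [S _ (fun χ => P.sVal χ * P.sVal χ * X.u χ * (95040 / d χ)) (fun χ => rfl)
      (fun χ => by simp only [hc, P.sVal_conj, X.u_conj]), td, ts, tu, t1]; norm_num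
  -- first stage
  set L1 := (R.filter fun e => decide (e.u ≠ 0)).map It.proj with hL1
  have hz : ∀ f : It → Int, (∀ e, e.u = 0 → e.pr = 0 → f e = 0) →
      ((R.filter fun e => decide (e.u ≠ 0)).map f).sum = (R.map f).sum := fun f hf =>
    sum_filter_of_zero _ f R fun e he hp => by
      have h0 : e.u = 0 := by simpa using hp
      exact hf _ h0 (by rw [(hgood e he).hpr, h0]; rfl)
  have hM0 : ∀ e ∈ R, 0 ≤ e.M := fun e he => by
    rw [It.M, (hgood e he).hpr]; omega
  have hfin1 : ∀ t6 : ℤ, t6 = (C : ℤ) - 1 →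
      Engine.final [false, false, false, false, false, true, true]
        (Engine.rem It.vec1 [18, 1, -2, -2, -190080, 95039, t6] L1) = true := by
    intro t6 ht
    set ps : List ((It → Int) × Int) :=
      [(fun e => e.M * (e.u * e.u), 18), (fun e => e.pr, 1), (fun e => e.M * (e.d * e.u), -2),
        (fun e => e.M * (e.u * e.s), -2), (fun e => e.M * (e.s * e.s * e.u * (95040 / e.d)), -190080),
        (fun e => e.M * (e.d * e.d), 95039), (fun e => e.M * (e.s * e.s), t6)] with hps
    have h := rem_map ps L1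
    simp only [hps, List.map_cons, List.map_nil] at h
    rw [show It.vec1 = fun e : It => [e.M * (e.u * e.u), e.pr, e.M * (e.d * e.u), e.M * (e.u * e.s),
      e.M * (e.s * e.s * e.u * (95040 / e.d)), e.M * (e.d * e.d), e.M * (e.s * e.s)] from rfl, h]
    have hp : ∀ f : It → Int, (L1.map f).sum =
        ((R.filter fun e => decide (e.u ≠ 0)).map fun e => f e.proj).sum := fun f => by
      rw [hL1, List.map_map]; rfl
    simp only [Engine.final, Bool.and_eq_true, decide_eq_true_eq, beq_iff_eq, hp]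
    simp only [It.proj, It.M]
    simp only [It.M] at suu sdu sus sssu sdd sss
    rw [hz (fun e => (1 + e.pr) * (e.u * e.u)) (fun e h0 _ => by rw [h0]; ring),
      hz (fun e => e.pr) (fun e _ h => h),
      hz (fun e => (1 + e.pr) * (e.d * e.u)) (fun e h0 _ => by rw [h0]; ring),
      hz (fun e => (1 + e.pr) * (e.u * e.s)) (fun e h0 _ => by rw [h0]; ring),
      hz (fun e => (1 + e.pr) * (e.s * e.s * e.u * (95040 / e.d))) (fun e h0 _ => by rw [h0]; ring),
      suu, spr, sdu, sus, sssu]
    have h5 := sum_filter_le (fun e => decide (e.u ≠ 0)) (fun e => (1 + e.pr) * (e.d * e.d)) R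
      fun e he => mul_nonneg (hM0 e he) (mul_self_nonneg _)
    have h6 := sum_filter_le (fun e => decide (e.u ≠ 0)) (fun e => (1 + e.pr) * (e.s * e.s)) R
      fun e he => mul_nonneg (hM0 e he) (mul_self_nonneg _)
    rw [sdd] at h5
    rw [sss] at h6
    refine ⟨by norm_num, by norm_num, by norm_num, by norm_num, by norm_num, by omega, by omega, ?_⟩
    trivial
  -- second stage
  have hfin2 : ∀ t3 : ℤ, t3 = (C : ℤ) - 1 →
      Engine.final [false, false, false, false, false, false, false, false, false, false, false,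
        false, false, false, false, false, false]
        (Engine.rem It.vec [95039, 36, 36, t3, 18, 1, -2, -2, -1, -2, -4, -2, -2, -4, -4, -2,
          -190080] R) = true := by
    intro t3' ht
    set ps : List ((It → Int) × Int) :=
      [(fun e => e.M * (e.d * e.d), 95039), (fun e => e.M * (e.a * e.a), 36),
        (fun e => e.M * (e.w * e.w), 36), (fun e => e.M * (e.s * e.s), t3'),
        (fun e => e.M * (e.u * e.u), 18), (fun e => e.pr, 1), (fun e => e.M * (e.d * e.a), -2),
        (fun e => e.M * (e.d * e.w), -2), (fun e => e.M * (e.d * e.s), -1),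
        (fun e => e.M * (e.d * e.u), -2), (fun e => e.M * (e.a * e.w), -4),
        (fun e => e.M * (e.a * e.s), -2), (fun e => e.M * (e.w * e.s), -2),
        (fun e => e.M * (e.u * e.a), -4), (fun e => e.M * (e.u * e.w), -4),
        (fun e => e.M * (e.u * e.s), -2),
        (fun e => e.M * (e.s * e.s * e.u * (95040 / e.d)), -190080)] with hps
    have h := rem_map ps R
    simp only [hps, List.map_cons, List.map_nil] at h
    rw [show It.vec = fun e : It => [e.M * (e.d * e.d), e.M * (e.a * e.a), e.M * (e.w * e.w),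
      e.M * (e.s * e.s), e.M * (e.u * e.u), e.pr, e.M * (e.d * e.a), e.M * (e.d * e.w),
      e.M * (e.d * e.s), e.M * (e.d * e.u), e.M * (e.a * e.w), e.M * (e.a * e.s),
      e.M * (e.w * e.s), e.M * (e.u * e.a), e.M * (e.u * e.w), e.M * (e.u * e.s),
      e.M * (e.s * e.s * e.u * (95040 / e.d))] from rfl, h]
    simp only [Engine.final, Bool.and_eq_true, beq_iff_eq, sdd, saa, sww, sss, suu, spr, sda, sdw,
      sds, sdu, saw, sas, sws, sua, suw, sus, sssu, ht, sub_self, and_self]
  -- membership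
  have hmem : ∀ (items proj : List It), gen (C : ℤ) = items →
      items.all (fun e => decide (e.u = 0) || proj.contains e.proj) = true →
      ∀ e ∈ L1, e ∈ proj := by
    intro items proj hgen hall e he
    obtain ⟨e', he', rfl⟩ := List.mem_map.mp he
    obtain ⟨heR, hu0⟩ := List.mem_filter.mp he'
    have hi : e' ∈ items := hgen ▸ mem_gen (by rcases P.hCs with h | h | h <;> omega) (hgood e' heR)
    have h := List.all_eq_true.mp hall e' hi
    simp only [Bool.or_eq_true, decide_eq_true_eq, List.contains_iff_mem] at h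
    exact h.resolve_left (of_decide_eq_true hu0)
  have hmem2 : ∀ (items sol rest : List It), gen (C : ℤ) = items → sol.Perm L1 →
      (items.filter fun e => decide (e.u = 0) || sol.contains e.proj) = rest →
      ∀ e ∈ R, e ∈ rest := by
    intro items sol rest hgen hsol hrest e he
    rw [← hrest, List.mem_filter]
    refine ⟨hgen ▸ mem_gen (by rcases P.hCs with h | h | h <;> omega) (hgood e he), ?_⟩
    simp only [Bool.or_eq_true, decide_eq_true_eq, List.contains_iff_mem]
    by_cases h0 : e.u = 0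
    · exact Or.inl h0
    · exact Or.inr (hsol.mem_iff.mpr (List.mem_map.mpr
        ⟨e, List.mem_filter.mpr ⟨he, decide_eq_true h0⟩, rfl⟩))
  rcases P.hCs with h40 | h240 | h1440
  · exfalso
    have hC' : (C : ℤ) = 40 := by rw [hC, h40]; rfl
    obtain ⟨L', -, hP⟩ := Engine.check_main Cert.check40 Cert.proj40_ok
      (hmem _ _ (hC' ▸ Cert.gen40_eq) Cert.items40_proj) (hfin1 39 (by omega))
    exact Bool.noConfusion hP
  · have hC' : (C : ℤ) = 240 := by rw [hC, h240]; rfl
    have hgen : gen (C : ℤ) = Cert.items240 := hC' ▸ Cert.gen240_eq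
    obtain ⟨L', hL', hP⟩ := Engine.check_main Cert.check240 Cert.proj240_ok
      (hmem _ _ hgen Cert.items240_proj) (hfin1 239 (by omega))
    simp only [Bool.or_eq_true, List.isPerm_iff] at hP
    obtain ⟨L2, hL2, hleaf⟩ : ∃ L2, L2.Perm R ∧ Cert.leaf L2 = true := by
      rcases hP with hP | hP
      · exact Engine.check_main Cert.check240a Cert.rest240a_ok
          (hmem2 _ _ _ hgen (hP.symm.trans hL') Cert.rest240a_eq) (hfin2 239 (by omega))
      · exact Engine.check_main Cert.check240b Cert.rest240b_ok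
          (hmem2 _ _ _ hgen (hP.symm.trans hL') Cert.rest240b_eq) (hfin2 239 (by omega))
    have hA : Cert.sumA L2 = (240 * 240) * (2 * (Nat.card P.Inverting : ℤ)) := by
      rw [Cert.sumA, (hL2.map _).sum_eq,
        S _ (fun χ => a χ * (P.sVal χ * P.sVal χ) * (95040 / d χ)) (fun χ => rfl)
          (fun χ => by simp only [hc, P.sVal_conj]), td, ta, ts,
        show ∑ χ, a χ * (P.sVal χ * P.sVal χ) * (95040 / d χ) =
          ∑ χ, P.sVal χ * P.sVal χ * a χ * (95040 / d χ) from
            Finset.sum_congr rfl fun χ _ => by ring, t2, hC']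
      norm_num
    have hS : Cert.sumS L2 = (240 * 240) * (P.pairs P.s : ℤ) := by
      rw [Cert.sumS, (hL2.map _).sum_eq,
        S _ (fun χ => P.sVal χ * (P.sVal χ * P.sVal χ) * (95040 / d χ)) (fun χ => rfl)
          (fun χ => by simp only [hc, P.sVal_conj]), td, ts,
        show ∑ χ, P.sVal χ * (P.sVal χ * P.sVal χ) * (95040 / d χ) =
          ∑ χ, P.sVal χ * P.sVal χ * P.sVal χ * (95040 / d χ) from
            Finset.sum_congr rfl fun χ _ => by ring, t3, hC']
      norm_num
    obtain ⟨k, hk⟩ := P.five_dvd_inverting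
    simp only [Cert.leaf, Bool.or_eq_true, Bool.not_eq_true', Bool.and_eq_false_iff,
      decide_eq_false_iff_not, Bool.and_eq_true, decide_eq_true_eq, hA, hS] at hleaf
    rcases hleaf with (h | h) | ⟨⟨h1, h2⟩, h3⟩
    · exact absurd (by rw [hk]; push_cast; omega) h
    · exact absurd (by positivity) h
    refine ⟨h240, by omega, ?_, ?_⟩
    · rw [← P.pairs_s]; omega
    rcases h3 with (h3 | h3) | h3
    · left
      obtain ⟨e, he, he2⟩ := List.any_eq_true.mp h3
      obtain ⟨χ, -, rfl⟩ := List.mem_map.mp (hL2.mem_iff.mp he)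
      exact ⟨χ, of_decide_eq_true he2⟩
    · right; left
      rw [List.contains_iff_mem] at h3
      obtain ⟨χ, -, hχ⟩ := List.mem_map.mp (hL2.mem_iff.mp h3)
      exact ⟨χ, hχ⟩
    · right; right
      exact hL2.symm.trans (List.isPerm_iff.mp h3)
  · exfalso
    have hC' : (C : ℤ) = 1440 := by rw [hC, h1440]; rfl
    have hgen : gen (C : ℤ) = Cert.items1440 := hC' ▸ Cert.gen1440_eq
    obtain ⟨L', hL', hP⟩ := Engine.check_main Cert.check1440 Cert.proj1440_ok
      (hmem _ _ hgen Cert.items1440_proj) (hfin1 1439 (by omega))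
    simp only [Bool.or_eq_true, List.isPerm_iff] at hP
    rcases hP with hP | hP
    · obtain ⟨L2, -, hf⟩ := Engine.check_main Cert.check1440a Cert.rest1440a_ok
        (hmem2 _ _ _ hgen (hP.symm.trans hL') Cert.rest1440a_eq) (hfin2 1439 (by omega))
      exact Bool.noConfusion hf
    · obtain ⟨L2, -, hf⟩ := Engine.check_main Cert.check1440b Cert.rest1440b_ok
        (hmem2 _ _ _ hgen (hP.symm.trans hL') Cert.rest1440b_eq) (hfin2 1439 (by omega))
      exact Bool.noConfusion hf

end Pack

end Cfsg.Agent.Lib.Recog95040
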