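import Mathlib
import Cfsg.Agent.Lib.Recog95040.Tools
import Cfsg.Agent.Lib.Recog95040.Values

/-!
Extensions of a cyclic group by an element normalizing it, averages over them, determinants on
eigenspaces of an involution, and operators of order four.
-/

set_option autoImplicit false
set_option linter.style.haveILetI false
set_option linter.unusedSectionVars false

namespace Cfsg.Agent.Lib.Recog95040

open Cfsg Subgroup
open Cfsg.Agent.Lib.Chars
open scoped ComplexConjugate

universe u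

variable {G : Type u} [Group G]

/-- The product of a subgroup with the first `n` powers of an element normalizing it. -/
def extendBy [Finite G] (H : Subgroup G) (g : G) (n : ℕ) (hn : 0 < n) (hg : g ^ n ∈ H)
    (hnorm : ∀ h ∈ H, g * h * g⁻¹ ∈ H) : Subgroup G :=
  Subgroup.closure ((H : Set G) ∪ {g})

theorem mem_extendBy [Finite G] {H : Subgroup G} {g : G} {n : ℕ} (hn : 0 < n) (hg : g ^ n ∈ H)
    (hnorm : ∀ h ∈ H, g * h * g⁻¹ ∈ H) {z : G} :
    z ∈ extendBy H g n hn hg hnorm ↔ ∃ h ∈ H, ∃ j < n, z = h * g ^ j := by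
  classical
  constructor
  · intro hz
    unfold extendBy at hz
    rw [← Subgroup.mem_toSubmonoid, Subgroup.closure_toSubmonoid_of_finite] at hz
    have hpow : ∀ (j : ℕ) (h : G), h ∈ H → g ^ j * h * (g ^ j)⁻¹ ∈ H := by
      intro j
      induction j with
      | zero => intro h hh; simpa using hh
      | succ j ih =>
        intro h hh
        have := ih _ (hnorm h hh)
        rw [pow_succ]
        convert this using 1
        group
    have hred : ∀ (h : G), h ∈ H → ∀ j : ℕ, ∃ h' ∈ H, ∃ i < n, h * g ^ j = h' * g ^ i := by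
      intro h hh j
      refine ⟨h * (g ^ n) ^ (j / n), mul_mem hh (pow_mem hg _), j % n, Nat.mod_lt _ hn, ?_⟩
      rw [mul_assoc, ← pow_mul, ← pow_add, Nat.div_add_mod]
    induction hz using Submonoid.closure_induction with
    | mem z hz =>
      rcases hz with hz | hz
      · exact ⟨z, hz, 0, hn, by simp⟩
      · rw [Set.mem_singleton_iff] at hz
        obtain ⟨h', hh', i, hi, he⟩ := hred 1 (one_mem H) 1
        exact ⟨h', hh', i, hi, by rw [hz, ← he, one_mul, pow_one]⟩
    | one => exact ⟨1, one_mem H, 0, hn, by simp⟩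
    | mul z w _ _ ihz ihw =>
      obtain ⟨h, hh, j, -, rfl⟩ := ihz
      obtain ⟨k, hk, i, -, rfl⟩ := ihw
      obtain ⟨h', hh', i', hi', he⟩ := hred (h * (g ^ j * k * (g ^ j)⁻¹))
        (mul_mem hh (hpow j k hk)) (j + i)
      exact ⟨h', hh', i', hi', by rw [← he, pow_add]; group⟩
  · rintro ⟨h, hh, j, -, rfl⟩
    have hgK : g ∈ extendBy H g n hn hg hnorm :=
      Subgroup.subset_closure (Set.mem_union_right _ (Set.mem_singleton g))
    exact mul_mem (Subgroup.subset_closure (Set.mem_union_left _ hh)) (pow_mem hgK j)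

/-- Sums and order of such an extension. -/
theorem sum_extendBy [Fintype G] {H : Subgroup G} {g : G} {n : ℕ} (hn : 0 < n) (hg : g ^ n ∈ H)
    (hnorm : ∀ h ∈ H, g * h * g⁻¹ ∈ H) (hfree : ∀ i, 0 < i → i < n → g ^ i ∉ H) [Fintype H]
    [Fintype (extendBy H g n hn hg hnorm)] :
    Nat.card (extendBy H g n hn hg hnorm) = Nat.card H * n ∧
      ∀ φ : G → ℂ, ∑ z : extendBy H g n hn hg hnorm, φ z =
        ∑ j ∈ Finset.range n, ∑ h : H, φ ((h : G) * g ^ j) := by
  classical
  let f : Fin n × H → extendBy H g n hn hg hnorm := fun z => ⟨(z.2 : G) * g ^ (z.1 : ℕ),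
    (mem_extendBy hn hg hnorm).mpr ⟨_, z.2.2, _, z.1.2, rfl⟩⟩
  have hf : Function.Bijective f := by
    constructor
    · rintro ⟨i, h⟩ ⟨i', h'⟩ he
      have he' : (h : G) * g ^ (i : ℕ) = h' * g ^ (i' : ℕ) := congrArg Subtype.val he
      have key : ∀ {a b : ℕ}, a ≤ b → b < n → ∀ {c d : H},
          (c : G) * g ^ a = d * g ^ b → a = b := by
        intro a b hab hb c d hcd
        have h3 : g ^ (b - a) = (d : G)⁻¹ * c := by
          rw [eq_inv_mul_iff_mul_eq]
          apply mul_right_cancel (b := g ^ a)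
          rw [mul_assoc, ← pow_add, Nat.sub_add_cancel hab, hcd]
        by_contra hne
        exact hfree (b - a) (by omega) (by omega) (h3 ▸ mul_mem (inv_mem d.2) c.2)
      have hii : (i : ℕ) = i' := by
        rcases le_total (i : ℕ) i' with hle | hle
        · exact key hle i'.2 he'
        · exact (key hle i.2 he'.symm).symm
      rw [hii, mul_left_inj] at he'
      exact Prod.ext (Fin.ext hii) (Subtype.ext he')
    · rintro ⟨z, hz⟩
      obtain ⟨h, hh, j, hj, rfl⟩ := (mem_extendBy hn hg hnorm).mp hz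
      exact ⟨(⟨j, hj⟩, ⟨h, hh⟩), rfl⟩
  refine ⟨?_, fun φ => ?_⟩
  · rw [← Nat.card_congr (Equiv.ofBijective f hf), Nat.card_prod, Nat.card_fin, mul_comm]
  · refine Eq.trans (Fintype.sum_equiv (Equiv.ofBijective f hf) (fun z => φ ((f z : extendBy H g n hn hg hnorm) : G))
      (fun z => φ (z : G)) fun z => rfl).symm ?_
    rw [Fintype.sum_prod_type,
      ← Fin.sum_univ_eq_sum_range (fun j => ∑ h : H, φ ((h : G) * g ^ j)) n]

theorem le_extendBy [Finite G] {H : Subgroup G} {g : G} {n : ℕ} (hn : 0 < n) (hg : g ^ n ∈ H)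
    (hnorm : ∀ h ∈ H, g * h * g⁻¹ ∈ H) : H ≤ extendBy H g n hn hg hnorm :=
  fun h hh => Subgroup.subset_closure (Or.inl hh)

/-- The projection on the fixed space of a subgroup. -/
noncomputable def proj {n : ℕ} (ρ : Representation ℂ G (Fin n → ℂ)) (H : Subgroup G) [Fintype H] :
    Module.End ℂ (Fin n → ℂ) :=
  (Nat.card H : ℂ)⁻¹ • ∑ h : H, ρ (h : G)

section Proj

variable [Finite G] {n : ℕ} (ρ : Representation ℂ G (Fin n → ℂ)) (H : Subgroup G) [Fintype H]

theorem trace_proj : LinearMap.trace ℂ _ (proj ρ H) =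
    (Nat.card H : ℂ)⁻¹ * ∑ h : H, ρ.character (h : G) := by
  rw [proj, map_smul, map_sum, smul_eq_mul]
  rfl

theorem mul_proj {h : G} (hh : h ∈ H) : ρ h * proj ρ H = proj ρ H := by
  rw [proj, mul_smul_comm, Finset.mul_sum]
  congr 1
  refine Fintype.sum_equiv (Equiv.mulLeft (⟨h, hh⟩ : H)) _ _ fun k => ?_
  rw [← map_mul]; rfl

theorem proj_mul {h : G} (hh : h ∈ H) : proj ρ H * ρ h = proj ρ H := by
  rw [proj, smul_mul_assoc, Finset.sum_mul]
  congr 1
  refine Fintype.sum_equiv (Equiv.mulRight (⟨h, hh⟩ : H)) _ _ fun k => ?_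
  rw [← map_mul]; rfl

theorem proj_mul_proj {K : Subgroup G} [Fintype K] (h : H ≤ K) :
    proj ρ H * proj ρ K = proj ρ K ∧ proj ρ K * proj ρ H = proj ρ K := by
  have hc : (Nat.card H : ℂ) ≠ 0 := Nat.cast_ne_zero.mpr Nat.card_pos.ne'
  constructor
  · rw [show proj ρ H = (Nat.card H : ℂ)⁻¹ • ∑ y : H, ρ (y : G) from rfl, smul_mul_assoc,
      Finset.sum_mul, Finset.sum_congr rfl fun y _ => mul_proj ρ K (h y.2), Finset.sum_const,
      Finset.card_univ, ← Nat.card_eq_fintype_card, ← Nat.cast_smul_eq_nsmul ℂ, smul_smul,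
      inv_mul_cancel₀ hc, one_smul]
  · rw [show proj ρ H = (Nat.card H : ℂ)⁻¹ • ∑ y : H, ρ (y : G) from rfl, mul_smul_comm,
      Finset.mul_sum, Finset.sum_congr rfl fun y _ => proj_mul ρ K (h y.2), Finset.sum_const,
      Finset.card_univ, ← Nat.card_eq_fintype_card, ← Nat.cast_smul_eq_nsmul ℂ, smul_smul,
      inv_mul_cancel₀ hc, one_smul]

/-- Equal fixed dimensions give equal fixed spaces. -/
theorem proj_eq_of_sum_eq {K : Subgroup G} [Fintype K] (h : H ≤ K)
    (he : (Nat.card H : ℂ)⁻¹ * ∑ x : H, ρ.character (x : G) =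
      (Nat.card K : ℂ)⁻¹ * ∑ x : K, ρ.character (x : G)) : proj ρ H = proj ρ K := by
  have hR : IsIdempotentElem (proj ρ H - proj ρ K) := by
    show (proj ρ H - proj ρ K) * (proj ρ H - proj ρ K) = _
    rw [mul_sub, sub_mul, sub_mul, (proj_mul_proj ρ H (le_refl H)).1, (proj_mul_proj ρ H h).1,
      (proj_mul_proj ρ H h).2, (proj_mul_proj ρ K (le_refl K)).1, sub_self, sub_zero]
  refine sub_eq_zero.mp (LinearMap.IsIdempotentElem.eq_zero_of_trace_eq_zero hR ?_)
  rw [map_sub, trace_proj, trace_proj, he, sub_self]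

end Proj

/-- The trace data of an operator of order four. -/
theorem det_order_four {T : Module.End ℂ (Fin 11 → ℂ)} (h : T ^ 4 = 1) {z : ℤ}
    (hz : LinearMap.trace ℂ _ T = z) (h2 : LinearMap.trace ℂ _ (T * T) = 7)
    (hdet : LinearMap.det T = -1) : (z - 3) % 4 = 0 := by
  classical
  obtain ⟨ι, _, b, μ, hμ, hb⟩ := exists_eigenbasis_of_pow_eq_one T (m := 4) (by norm_num) h
  have hn : Fintype.card ι = 11 := by
    rw [← Module.finrank_eq_card_basis b, Module.finrank_fin_fun]
  have hcase : ∀ i, ∃ k : Fin 4, μ i = Complex.I ^ (k : ℕ) := by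
    intro i
    rcases sq_eq_one_iff.mp (show (μ i ^ 2) ^ 2 = 1 by rw [← pow_mul]; exact hμ i) with h1 | h1
    · rcases sq_eq_one_iff.mp h1 with h3 | h3
      · exact ⟨0, by simp [h3]⟩
      · exact ⟨2, by simp [h3]⟩
    · rw [← Complex.I_sq, sq_eq_sq_iff_eq_or_eq_neg] at h1
      rcases h1 with h3 | h3
      · exact ⟨1, by simp [h3]⟩
      · exact ⟨3, by simp [h3, pow_succ]⟩
  choose k hk using hcase
  set N : Fin 4 → ℕ := fun j => (Finset.univ.filter fun i => k i = j).card
  have hsum : ∀ F : Fin 4 → ℂ, ∑ i, F (k i) = ∑ j, (N j : ℂ) * F j := by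
    intro F
    rw [← Finset.sum_fiberwise_of_maps_to (g := k) (t := Finset.univ) fun i _ => Finset.mem_univ _]
    refine Finset.sum_congr rfl fun j _ => ?_
    rw [Finset.sum_congr rfl (g := fun _ => F j) fun i hi => by rw [(Finset.mem_filter.mp hi).2],
      Finset.sum_const, nsmul_eq_mul]
  have htot := hsum fun _ => 1
  simp only [Finset.sum_const, Finset.card_univ, hn, nsmul_eq_mul, mul_one, Fin.sum_univ_four]
    at htot
  rw [trace_eq_sum_of_eigenbasis T b μ hb, Finset.sum_congr rfl fun i _ => hk i,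
    hsum fun j => Complex.I ^ (j : ℕ)] at hz
  have hb2 : ∀ i, (T * T) (b i) = (μ i * μ i) • b i := fun i => by
    rw [Module.End.mul_apply, hb, map_smul, hb, smul_smul]
  rw [trace_eq_sum_of_eigenbasis (T * T) b (fun i => μ i * μ i) hb2,
    Finset.sum_congr rfl fun i _ => by rw [hk i],
    hsum fun j => Complex.I ^ (j : ℕ) * Complex.I ^ (j : ℕ)] at h2
  rw [Fin.sum_univ_four] at hz h2
  simp only [Fin.val_zero, Fin.val_one, Fin.val_two, show ((3 : Fin 4) : ℕ) = 3 from rfl,
    pow_zero, pow_one, pow_succ, one_mul, mul_one, Complex.I_mul_I, neg_one_mul, mul_neg] at hz h2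
  rw [← LinearMap.det_toMatrix b] at hdet
  have hm : LinearMap.toMatrix b b T = Matrix.diagonal μ := by
    ext i j
    rw [LinearMap.toMatrix_apply, hb, map_smul, Module.Basis.repr_self, Finsupp.smul_single,
      smul_eq_mul, mul_one, Finsupp.single_apply, Matrix.diagonal_apply]
    split_ifs with h1 h2 h3 <;> simp_all
  rw [hm, Matrix.det_diagonal, Finset.prod_congr rfl fun i _ => hk i,
    Finset.prod_pow_eq_pow_sum] at hdet
  have hre := congrArg Complex.re hz
  have him := congrArg Complex.im hz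
  have hre2 := congrArg Complex.re h2
  simp at hre him hre2
  have e13 : N 1 = N 3 := by exact_mod_cast (show ((N 1 : ℕ) : ℝ) = N 3 by linarith)
  have e02 : (N 0 : ℤ) - N 2 = z := by exact_mod_cast (show (N 0 : ℝ) - N 2 = z by linarith)
  have e7 : (N 0 : ℤ) + N 2 - N 1 - N 3 = 7 := by
    exact_mod_cast (show (N 0 : ℝ) + N 2 - N 1 - N 3 = 7 by linarith)
  have e11 : N 0 + N 1 + N 2 + N 3 = 11 := by exact_mod_cast htot.symm
  have hks : (∑ i, (k i : ℕ)) = N 1 + 2 * N 2 + 3 * N 3 := by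
    have := hsum fun j => ((j : ℕ) : ℂ)
    rw [Fin.sum_univ_four] at this
    simp at this
    rw [← Nat.cast_inj (R := ℂ)]
    push_cast
    linear_combination this
  have hodd : (∑ i, (k i : ℕ)) % 4 = 2 := by
    rw [← Nat.mod_add_div (∑ i, (k i : ℕ)) 4, pow_add, pow_mul, Complex.I_pow_four, one_pow,
      mul_one] at hdet
    have h4 := Nat.mod_lt (∑ i, (k i : ℕ)) (by norm_num : 4 > 0)
    generalize (∑ i, (k i : ℕ)) % 4 = r at hdet h4
    interval_cases r
    · norm_num at hdet
    · exact absurd (congrArg Complex.im hdet) (by simp)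
    · rfl
    · exact absurd (congrArg Complex.im hdet) (by simp [pow_succ])
  omega

/-- The action of the centralizer of an involution on one eigenspace, extended by one. -/
noncomputable def eigenEnd {n : ℕ} (ρ : Representation ℂ G (Fin n → ℂ)) (s : G) (ε : ℂ) (g : G) :
    Module.End ℂ (Fin n → ℂ) :=
  (2 : ℂ)⁻¹ • (ρ g + ε • ρ (g * s) + 1 - ε • ρ s)

theorem eigenEnd_mul {n : ℕ} (ρ : Representation ℂ G (Fin n → ℂ)) {s : G} (hs : s * s = 1) {ε : ℂ}
    (hε : ε * ε = 1) {g h : G} (hg : g * s = s * g) (hh : h * s = s * h) :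
    eigenEnd ρ s ε g * eigenEnd ρ s ε h = eigenEnd ρ s ε (g * h) := by
  have r1 : ρ g * ρ h = ρ (g * h) := (map_mul ρ g h).symm
  have r2 : ρ g * ρ (h * s) = ρ (g * h * s) := by rw [← map_mul, mul_assoc]
  have r3 : ρ g * ρ s = ρ (g * s) := (map_mul ρ g s).symm
  have r4 : ρ (g * s) * ρ h = ρ (g * h * s) := by
    rw [← map_mul, mul_assoc g s h, ← hh, ← mul_assoc]
  have r5 : ρ (g * s) * ρ (h * s) = ρ (g * h) := by
    rw [← map_mul]; congr 1
    rw [mul_assoc g s, ← mul_assoc s h s, ← hh, mul_assoc h s s, hs, mul_one]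
  have r6 : ρ (g * s) * ρ s = ρ g := by rw [← map_mul, mul_assoc, hs, mul_one]
  have r7 : ρ s * ρ h = ρ (h * s) := by rw [← map_mul, hh]
  have r8 : ρ s * ρ (h * s) = ρ h := by
    rw [← map_mul, ← mul_assoc, ← hh, mul_assoc, hs, mul_one]
  have r9 : ρ s * ρ s = 1 := by rw [← map_mul, hs, map_one]
  simp only [eigenEnd, smul_mul_assoc, mul_smul_comm, smul_smul, mul_add, add_mul, mul_sub, sub_mul,
    mul_one, one_mul, r1, r2, r3, r4, r5, r6, r7, r8, r9, hε, smul_add, smul_sub, mul_assoc]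
  match_scalars <;> ring_nf <;> simp [pow_two, hε] <;> ring

/-- The determinant on one eigenspace. -/
noncomputable def eigenDet {n : ℕ} (ρ : Representation ℂ G (Fin n → ℂ)) (s : G) (hs : s * s = 1)
    (ε : ℂ) (hε : ε * ε = 1) : centralizer ({s} : Set G) →* ℂˣ :=
  MonoidHom.toHomUnits
    { toFun := fun g => LinearMap.det (eigenEnd ρ s ε (g : G))
      map_one' := by
        have : eigenEnd ρ s ε ((1 : centralizer ({s} : Set G)) : G) = 1 := by
          rw [Subgroup.coe_one, eigenEnd, map_one, one_mul]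
          match_scalars <;> norm_num
        rw [this, map_one]
      map_mul' := fun a b => by
        rw [← map_mul, eigenEnd_mul ρ hs hε (mem_centralizer_singleton_iff.mp a.2)
          (mem_centralizer_singleton_iff.mp b.2), Subgroup.coe_mul] }

theorem eigenDet_apply {n : ℕ} (ρ : Representation ℂ G (Fin n → ℂ)) (s : G) (hs : s * s = 1)
    (ε : ℂ) (hε : ε * ε = 1) (g : centralizer ({s} : Set G)) :
    ((eigenDet ρ s hs ε hε g : ℂˣ) : ℂ) = LinearMap.det (eigenEnd ρ s ε (g : G)) := rfl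

theorem trace_eigenEnd {n : ℕ} (ρ : Representation ℂ G (Fin n → ℂ)) (s : G) (ε : ℂ) (g : G) :
    LinearMap.trace ℂ _ (eigenEnd ρ s ε g) =
      (2 : ℂ)⁻¹ * (ρ.character g + ε * ρ.character (g * s) + n - ε * ρ.character s) := by
  rw [eigenEnd, map_smul, map_sub, map_add, map_add, map_smul, map_smul, LinearMap.trace_one,
    Module.finrank_fin_fun]
  rfl

end Cfsg.Agent.Lib.Recog95040
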