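/-
The centralizer of order 240 of an involution centralizing the normalizer of a Sylow 5-subgroup in a
simple group of order 95040: two fusion facts.
-/
import Mathlib
import Cfsg.Agent.Lib.Recog95040.Eleven

set_option autoImplicit false
set_option linter.style.haveILetI false
set_option linter.unusedSectionVars false

namespace Cfsg.Agent.Lib.Recog95040

open Subgroup MulAction Cfsg
open Cfsg.Agent.Lib.Order7920 (exists_mem_orderOf exists_sylow_eq card_subgroupOf dvd_card_of_free
  card_fixedBy_add_moved card_fixedBy_modEq smul_mk_eq_iff dvd_card_of_index smul_fixedBy_compl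
  relIndex_mul_card_inf)

universe u

section Abstract

variable {K : Type u} [Group K] [Finite K]

/-- Any element of order `p` is a conjugate of a power of any other one when `p²` does not divide
the order. -/
theorem exists_conj_mem_zpowers {p : ℕ} [hp : Fact p.Prime] (hp2 : ¬ p ^ 2 ∣ Nat.card K) {y z : K}
    (hy : orderOf y = p) (hz : orderOf z = p) : ∃ g : K, g * z * g⁻¹ ∈ zpowers y := by
  obtain ⟨Q1, hQ1⟩ := exists_sylow_eq (G := K) (p := p) (H := zpowers z) (k := 1)
    (by rw [Nat.card_zpowers, hz, pow_one]) hp2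
  obtain ⟨Q2, hQ2⟩ := exists_sylow_eq (G := K) (p := p) (H := zpowers y) (k := 1)
    (by rw [Nat.card_zpowers, hy, pow_one]) hp2
  obtain ⟨g, hg⟩ := exists_smul_eq K Q1 Q2
  refine ⟨g, ?_⟩
  rw [← hQ2, ← hg]
  open scoped Pointwise in
  exact Subgroup.smul_mem_pointwise_smul _ (MulAut.conj g) _ (hQ1 ▸ mem_zpowers z)

/-- Frattini argument for an element of prime order. -/
theorem exists_mul_mem_normalizer {p : ℕ} [hp : Fact p.Prime] (hp2 : ¬ p ^ 2 ∣ Nat.card K) {y : K}
    (hy : orderOf y = p) {M : Subgroup K} (hyM : y ∈ M) {k : K} (hk : k * y * k⁻¹ ∈ M) :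
    ∃ m ∈ M, m * k ∈ normalizer ((zpowers y : Subgroup K) : Set K) := by
  obtain ⟨m, hm⟩ := exists_conj_mem_zpowers (K := M) (p := p)
    (fun h => hp2 (h.trans (card_subgroup_dvd_card M)))
    (y := ⟨y, hyM⟩) (z := ⟨k * y * k⁻¹, hk⟩) (by rwa [Subgroup.orderOf_mk])
    (by rw [Subgroup.orderOf_mk, show k * y * k⁻¹ = MulAut.conj k y from rfl, MulEquiv.orderOf_eq, hy])
  refine ⟨m, m.2, ?_⟩
  obtain ⟨i, hi⟩ := mem_zpowers_iff.mp hm
  have hi' : y ^ i = (m : K) * (k * y * k⁻¹) * (m : K)⁻¹ := congrArg Subtype.val hi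
  rw [mem_normalizer_iff_map_conj_eq, MonoidHom.map_zpowers]
  refine eq_of_le_of_card_ge ?_ ?_
  · rw [zpowers_le]
    refine mem_zpowers_iff.mpr ⟨i, ?_⟩
    show y ^ i = (m : K) * k * y * ((m : K) * k)⁻¹
    rw [hi']; group
  · rw [Nat.card_zpowers, Nat.card_zpowers]
    exact (MulEquiv.orderOf_eq (MulAut.conj ((m : K) * k)) y).ge

/-- A permutation of order at most two. -/
theorem sign_of_sq {X : Type*} [Fintype X] [DecidableEq X] (τ : Equiv.Perm X) (h : τ ^ 2 = 1) :
    ∃ m : ℕ, Nat.card {x : X // τ x = x} + 2 * m = Nat.card X ∧ Equiv.Perm.sign τ = (-1) ^ m := by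
  have htype : ∀ n ∈ τ.cycleType, n = 2 := by
    intro n hn
    have h2 : n ∣ 2 := (Equiv.Perm.dvd_of_mem_cycleType hn).trans (orderOf_dvd_of_pow_eq_one h)
    have := Equiv.Perm.two_le_of_mem_cycleType hn
    have := Nat.le_of_dvd two_pos h2
    omega
  have hrep := Multiset.eq_replicate_of_mem htype
  have hsum := τ.sum_cycleType
  rw [hrep, Multiset.sum_replicate, smul_eq_mul] at hsum
  refine ⟨τ.cycleType.card, ?_, ?_⟩
  · have e : {x : X // τ x = x} ≃ {x : X // ¬ x ∈ τ.support} :=
      Equiv.subtypeEquivRight fun x => by rw [Equiv.Perm.mem_support, not_not]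
    rw [Nat.card_congr e, Nat.card_eq_fintype_card, Fintype.card_subtype_compl, Fintype.card_coe,
      Nat.card_eq_fintype_card]
    have := Finset.card_le_univ τ.support
    omega
  · rw [Equiv.Perm.sign_of_cycleType, hrep, Multiset.sum_replicate, Multiset.card_replicate,
      smul_eq_mul, pow_add, pow_mul', neg_one_sq, one_pow, one_mul]

variable (hK : Nat.card K = 240) {y : K} (hy : orderOf y = 5)
  (hN : Nat.card (normalizer ((zpowers y : Subgroup K) : Set K)) = 40)

include hK hy hN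

local notation "Nm" => normalizer ((zpowers y : Subgroup K) : Set K)

theorem card_points : Nat.card (K ⧸ Nm) = 6 := by
  have := (Nm).card_mul_index
  rw [hN, hK] at this
  rw [← index_eq_card]
  omega

theorem five_mem (z : K) (hz : orderOf z = 5) (hzN : z ∈ Nm) : z ∈ zpowers y := by
  haveI : Fact (Nat.Prime 5) := ⟨by norm_num⟩
  have hy' : y ∈ Nm := le_normalizer (mem_zpowers y)
  obtain ⟨g, hg⟩ := exists_conj_mem_zpowers (K := Nm) (p := 5) (by rw [hN]; norm_num)
    (y := ⟨y, hy'⟩) (z := ⟨z, hzN⟩) (by rwa [Subgroup.orderOf_mk]) (by rwa [Subgroup.orderOf_mk])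
  obtain ⟨i, hi⟩ := mem_zpowers_iff.mp hg
  have hi' : y ^ i = (g : K) * z * (g : K)⁻¹ := congrArg Subtype.val hi
  exact (mem_normalizer_iff.mp g.2 z).mpr (mem_zpowers_iff.mpr ⟨i, hi'⟩)

/-- `y` fixes only its own point. -/
theorem fix_unique (x : K ⧸ Nm) (hx : y • x = x) : x = ((1 : K) : K ⧸ Nm) := by
  rw [← QuotientGroup.out_eq' x, smul_mk_eq_iff] at hx
  set z := x.out⁻¹ * y * x.out with hz
  have hzo : orderOf z = 5 := by
    rw [hz, show x.out⁻¹ * y * x.out = MulAut.conj x.out⁻¹ y by simp, MulEquiv.orderOf_eq, hy]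
  obtain ⟨i, hi⟩ := mem_zpowers_iff.mp (five_mem hK hy hN z hzo hx)
  have hout : x.out⁻¹ ∈ Nm := by
    rw [mem_normalizer_iff_map_conj_eq, MonoidHom.map_zpowers]
    refine eq_of_le_of_card_ge ?_ ?_
    · rw [zpowers_le]
      refine mem_zpowers_iff.mpr ⟨i, ?_⟩
      show y ^ i = x.out⁻¹ * y * x.out⁻¹⁻¹
      rw [hi, hz, inv_inv]
    · rw [Nat.card_zpowers, Nat.card_zpowers]
      exact (MulEquiv.orderOf_eq (MulAut.conj x.out⁻¹) y).ge
  conv_lhs => rw [← QuotientGroup.out_eq' x]
  rw [QuotientGroup.eq, mul_one]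
  exact hout

theorem smul_base {g : K} (hg : g ∈ Nm) : g • ((1 : K) : K ⧸ Nm) = ((1 : K) : K ⧸ Nm) := by
  rw [smul_mk_eq_iff]; simpa using hg

/-- `y` is transitive on the other five points. -/
theorem orbit_others {x x' : K ⧸ Nm} (hx : x ≠ ((1 : K) : K ⧸ Nm))
    (hx' : x' ≠ ((1 : K) : K ⧸ Nm)) : ∃ i : ℕ, y ^ i • x = x' := by
  classical
  haveI := Fintype.ofFinite (K ⧸ Nm)
  set x0 := ((1 : K) : K ⧸ Nm)
  let f : Fin 5 → {b : K ⧸ Nm // b ≠ x0} := fun i => ⟨y ^ (i : ℕ) • x, fun e => hx (by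
    refine smul_left_cancel (y ^ (i : ℕ)) (e.trans ?_)
    exact (smul_base hK hy hN (pow_mem (le_normalizer (mem_zpowers y)) _)).symm)⟩
  have hinj : Function.Injective f := by
    intro i j hij
    have e : y ^ (i : ℕ) • x = y ^ (j : ℕ) • x := congrArg Subtype.val hij
    by_contra hne
    wlog hlt : (i : ℕ) < j generalizing i j
    · exact this hij.symm e.symm (Ne.symm hne)
        (by rcases lt_trichotomy (i : ℕ) j with h | h | h
            · exact absurd h hlt
            · exact absurd (Fin.ext h) hne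
            · exact h)
    have h1 : y ^ ((j : ℕ) - i) • x = x := by
      refine smul_left_cancel (y ^ (i : ℕ)) ?_
      rw [smul_smul, ← pow_add, Nat.add_sub_cancel' hlt.le, e]
    refine hx (fix_unique hK hy hN x ?_)
    have hco : (((j : ℕ) - i)).Coprime (orderOf y) := by
      rw [hy]
      have hj := j.isLt
      refine ((Nat.Prime.coprime_iff_not_dvd (by norm_num)).mpr fun hd => ?_).symm
      have := Nat.le_of_dvd (by omega) hd
      omega
    obtain ⟨m, hm⟩ := exists_pow_eq_self_of_coprime hco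
    have h2 : (y ^ ((j : ℕ) - i)) ^ m • x = x :=
      pow_mem (show y ^ ((j : ℕ) - i) ∈ stabilizer K x from h1) m
    rwa [hm] at h2
  have hcard : Nat.card {b : K ⧸ Nm // b ≠ x0} = 5 := by
    rw [Nat.card_eq_fintype_card, Fintype.card_subtype_compl, Fintype.card_subtype_eq,
      ← Nat.card_eq_fintype_card, card_points hK hy hN]
  have hbij : Function.Bijective f := by
    rw [Fintype.bijective_iff_injective_and_card]
    exact ⟨hinj, by rw [Fintype.card_fin, ← Nat.card_eq_fintype_card (α := {b : K ⧸ Nm // b ≠ x0}), hcard]⟩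
  obtain ⟨i, hi⟩ := hbij.2 ⟨x', hx'⟩
  exact ⟨i, congrArg Subtype.val hi⟩

/-- A normal subgroup containing `y` and meeting its normalizer in its centralizer. -/
theorem false_of_normal (h3 : ¬ 3 ∣ Nat.card (centralizer ({y} : Set K))) {M : Subgroup K}
    (hM : M.Normal) (hyM : y ∈ M) (hNM : Nm ⊓ M ≤ centralizer ({y} : Set K)) : False := by
  haveI : Fact (Nat.Prime 5) := ⟨by norm_num⟩
  haveI : Fact (Nat.Prime 3) := ⟨Nat.prime_three⟩
  have h25 : ¬ 5 ^ 2 ∣ Nat.card K := by rw [hK]; norm_num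
  have hfr : ∀ k : K, ∃ m ∈ M, m * k ∈ Nm := fun k =>
    exists_mul_mem_normalizer h25 hy hyM (hM.conj_mem y hyM k)
  have hmod := relIndex_normalizer_mod hy hyM h25
  have hidx : (Nm).index = 6 := by rw [index_eq_card]; exact card_points hK hy hN
  have hle : (Nm).relIndex M ≤ 6 := by
    have h := relIndex_le_of_le_right (H := Nm) (K := M) (L := ⊤) le_top
      (by rw [relIndex_top_right, hidx]; norm_num)
    rwa [relIndex_top_right, hidx] at h
  have hne : (Nm).relIndex M ≠ 1 := by
    intro h1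
    rw [relIndex_eq_one] at h1
    have htop : Nm = ⊤ := by
      rw [eq_top_iff]
      intro k _
      obtain ⟨m, hm, hmk⟩ := hfr k
      have := (Nm).mul_mem ((Nm).inv_mem (h1 hm)) hmk
      rwa [inv_mul_cancel_left] at this
    rw [htop, card_top, hK] at hN
    omega
  have hmul := relIndex_mul_card_inf Nm M
  have h3M : 3 ∣ Nat.card M := by
    rw [← hmul, show (Nm).relIndex M = 6 by omega]
    exact Dvd.dvd.mul_right (by norm_num) _
  have hPM : zpowers y ≤ M := zpowers_le.mpr hyM
  obtain ⟨PC, hPCeq⟩ := exists_sylow_eq (G := M) (p := 5) (H := (zpowers y).subgroupOf M)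
    (k := 1) (by rw [card_subgroupOf, inf_eq_left.mpr hPM, Nat.card_zpowers, hy, pow_one])
    (fun h => h25 (h.trans (card_subgroup_dvd_card M)))
  have hNC : normalizer ((PC : Subgroup M) : Set M) ≤
      centralizer ((PC : Subgroup M) : Set M) := by
    intro g hg
    rw [hPCeq, ← subgroupOf_normalizer_eq hPM, mem_subgroupOf] at hg
    have hgC : (g : K) ∈ centralizer ({y} : Set K) := hNM ⟨hg, g.2⟩
    refine mem_centralizer_iff.mpr fun v hv => Subtype.ext ?_
    rw [hPCeq, SetLike.mem_coe, mem_subgroupOf, mem_zpowers_iff] at hv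
    obtain ⟨n, hn'⟩ := hv
    show (v : K) * g = g * v
    rw [← hn']
    exact ((show Commute y (g : K) from
      (mem_centralizer_singleton_iff.mp hgC).symm).zpow_left n).eq
  have hcompl := MonoidHom.ker_transferSylow_isComplement' PC hNC
  set K0 := (MonoidHom.transferSylow PC hNC).ker with hK0
  have hcK := hcompl.card_mul
  rw [hPCeq, card_subgroupOf, inf_eq_left.mpr hPM, Nat.card_zpowers, hy] at hcK
  have hK0n : K0.Normal := MonoidHom.normal_ker _
  have hK0five : ¬ 5 ∣ Nat.card K0 := by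
    rintro ⟨j, hj⟩
    refine h25 (Dvd.dvd.trans ⟨j, ?_⟩ (card_subgroup_dvd_card M))
    rw [← hcK, hj]; ring
  set Q := K0.map M.subtype
  have hQc : Nat.card Q = Nat.card K0 := card_map_of_injective M.subtype_injective
  have hyQ : y ∈ normalizer (Q : Set K) := mem_normalizer_map hK0n hyM
  obtain ⟨R, -, hRc, hyR⟩ := exists_normalized_sylow (q := 3) hy hyQ (hQc ▸ hK0five)
  have hpos : 0 < (Nat.card Q).factorization 3 := by
    refine Nat.prime_three.factorization_pos_of_dvd Nat.card_pos.ne' ?_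
    rw [hQc]
    rw [← hcK] at h3M
    exact (Nat.Coprime.dvd_of_dvd_mul_right (by norm_num) h3M)
  have h27 : Nat.card R ∣ 240 := hK ▸ card_subgroup_dvd_card R
  rw [hRc] at h27
  have hlt : (Nat.card Q).factorization 3 < 2 := by
    by_contra hc
    have := (pow_dvd_pow 3 (not_lt.mp hc)).trans h27
    norm_num at this
  have hR3 : Nat.card R = 3 := by rw [hRc, show (Nat.card Q).factorization 3 = 1 by omega, pow_one]
  have h := card_inf_centralizer_mod hy hyR
  have h1 : Nat.card (R ⊓ centralizer ({y} : Set K) : Subgroup K) = 1 := by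
    refine ((Nat.dvd_prime Nat.prime_three).mp (hR3 ▸ card_dvd_of_le inf_le_left)).resolve_right ?_
    intro e
    exact h3 (e ▸ card_dvd_of_le inf_le_right)
  rw [h1, hR3] at h
  omega

/-- A 2-regular set of involutions of a group of order 240 with central quotient of order 60. -/
theorem fifteen_dvd (hCy : Nat.card (centralizer ({y} : Set K)) = 20) (S : Set K)
    (hS : ∀ k : K, ∀ a ∈ S, k * a * k⁻¹ ∈ S) (hS2 : ∀ a ∈ S, a * a = 1)
    (hSc : ∀ a ∈ S, ¬ ∀ k : K, Commute k a) : 15 ∣ Nat.card S := by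
  classical
  haveI : Fact (Nat.Prime 5) := ⟨by norm_num⟩
  haveI : Fact (Nat.Prime 3) := ⟨Nat.prime_three⟩
  haveI := Fintype.ofFinite (K ⧸ Nm)
  set x0 := ((1 : K) : K ⧸ Nm) with hx0
  set ρ := toPermHom K (K ⧸ Nm) with hρ
  set L := ρ.ker with hL
  have hLn : L.Normal := MonoidHom.normal_ker _
  have hLmem : ∀ l : K, l ∈ L ↔ ∀ x : K ⧸ Nm, l • x = x := fun l => by
    rw [hL, MonoidHom.mem_ker, Equiv.Perm.ext_iff]; rfl
  have hyNm : y ∈ Nm := le_normalizer (mem_zpowers y)
  have hLN : L ≤ Nm := fun l hl => by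
    have := (hLmem l).mp hl x0
    rw [hx0, smul_mk_eq_iff] at this
    simpa using this
  obtain ⟨x1, hx1⟩ : ∃ x : K ⧸ Nm, x ≠ x0 := by
    haveI : Nontrivial (K ⧸ Nm) := by
      rw [← Finite.one_lt_card_iff_nontrivial, card_points hK hy hN]; norm_num
    exact exists_ne x0
  have hyL : ∀ i : ℕ, y ^ i ∈ L → y ^ i = 1 := by
    intro i hi
    by_contra hne
    refine hx1 (fix_unique hK hy hN x1 ?_)
    have hco : i.Coprime (orderOf y) := by
      rw [hy]
      refine ((Nat.Prime.coprime_iff_not_dvd (by norm_num)).mpr fun hd => hne ?_).symm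
      rw [← orderOf_dvd_iff_pow_eq_one, hy]; exact hd
    obtain ⟨m, hm⟩ := exists_pow_eq_self_of_coprime hco
    have h2 : (y ^ i) ^ m • x1 = x1 :=
      pow_mem (show y ^ i ∈ stabilizer K x1 from (hLmem _).mp hi x1) m
    rwa [hm] at h2
  have hLy : ∀ l ∈ L, Commute l y := by
    intro l hl
    have h1 : l * y * l⁻¹ * y⁻¹ ∈ L := by
      have := L.mul_mem hl (hLn.conj_mem _ (L.inv_mem hl) y)
      rwa [show l * (y * l⁻¹ * y⁻¹) = l * y * l⁻¹ * y⁻¹ by group] at this
    obtain ⟨n, hn⟩ := mem_zpowers_iff.mp ((zpowers y).mul_mem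
      ((mem_normalizer_iff.mp (hLN hl) y).mp (mem_zpowers y)) ((zpowers y).inv_mem (mem_zpowers y)))
    obtain ⟨i, hi⟩ : ∃ i : ℕ, y ^ i = y ^ n := by
      obtain ⟨i, -, hi⟩ := Finset.mem_image.mp
        ((isOfFinOrder_of_finite y).mem_zpowers_iff_mem_range_orderOf.mp
          (mem_zpowers_iff.mpr ⟨n, rfl⟩))
      exact ⟨i, hi⟩
    rw [hn] at hi
    have := hyL i (hi ▸ h1)
    rw [hi, mul_inv_eq_one] at this
    exact mul_inv_eq_iff_eq_mul.mp this
  set C := centralizer ({y} : Set K) with hC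
  have hLC : L ≤ C := fun l hl => mem_centralizer_singleton_iff.mpr (hLy l hl).eq
  have hCN : C ≤ Nm := centralizer_le_normalizer_zpowers y
  have hdec : ∀ z ∈ C, ∃ i : ℕ, i < 5 ∧ ∃ l ∈ L, z = y ^ i * l := by
    intro z hz
    have hzc : Commute y z := (mem_centralizer_singleton_iff.mp hz).symm
    have hz0 : z • x0 = x0 := smul_base hK hy hN (hCN hz)
    obtain ⟨i, hi⟩ := orbit_others hK hy hN hx1 (x' := z • x1)
      (fun e => hx1 (smul_left_cancel z (e.trans hz0.symm)))
    refine ⟨i % 5, Nat.mod_lt _ (by norm_num), (y ^ (i % 5))⁻¹ * z, ?_, by group⟩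
    rw [← hy, pow_mod_orderOf]
    rw [hLmem]
    intro x
    rw [mul_smul, inv_smul_eq_iff]
    by_cases hx : x = x0
    · subst hx
      rw [hz0]
      exact (smul_base hK hy hN (pow_mem hyNm i)).symm
    · obtain ⟨j, rfl⟩ := orbit_others hK hy hN hx1 hx
      rw [smul_smul, ← (hzc.pow_left j).eq, mul_smul, ← hi, smul_smul, smul_smul, ← pow_add,
        ← pow_add, add_comm]
  have hLc : Nat.card L = 4 := by
    have hle : Nat.card C ≤ 5 * Nat.card L := by
      have hsurj : Function.Surjective (fun v : Fin 5 × L => (⟨y ^ (v.1 : ℕ) * v.2,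
          C.mul_mem (pow_mem (mem_centralizer_singleton_iff.mpr rfl) _) (hLC v.2.2)⟩ : C)) := by
        intro z
        obtain ⟨i, hi, l, hl, hz⟩ := hdec z.1 z.2
        exact ⟨(⟨i, hi⟩, ⟨l, hl⟩), Subtype.ext hz.symm⟩
      refine (Nat.card_le_card_of_surjective _ hsurj).trans_eq ?_
      rw [Nat.card_prod, Nat.card_fin]
    rw [hCy] at hle
    have h5 : ¬ 5 ∣ Nat.card L := by
      intro h
      obtain ⟨z, hz, hz5⟩ := exists_mem_orderOf 5 h
      obtain ⟨i, -, hi⟩ := Finset.mem_image.mp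
        ((isOfFinOrder_of_finite y).mem_zpowers_iff_mem_range_orderOf.mp
          (five_mem hK hy hN z hz5 (hLN hz)))
      have := hyL i (hi ▸ hz)
      rw [hi] at this
      rw [this, orderOf_one] at hz5
      omega
    have hd : Nat.card L ∈ Nat.divisors 20 :=
      Nat.mem_divisors.mpr ⟨hCy ▸ card_dvd_of_le hLC, by norm_num⟩
    rw [show Nat.divisors 20 = {1, 2, 4, 5, 10, 20} by decide] at hd
    simp only [Finset.mem_insert, Finset.mem_singleton] at hd
    omega
  haveI : IsMulCommutative L := by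
    haveI : Fact (Nat.Prime 2) := ⟨Nat.prime_two⟩
    exact IsPGroup.isMulCommutative_of_card_eq_prime_sq (p := 2) (by rw [hLc]; norm_num)
  have htop : ∀ M : Subgroup K, M.Normal → C ≤ M → M = ⊤ := by
    intro M hM hCM
    have hd1 : Nat.card C ∣ Nat.card (Nm ⊓ M : Subgroup K) := card_dvd_of_le (le_inf hCN hCM)
    have hd2 : Nat.card (Nm ⊓ M : Subgroup K) ∣ 40 := hN ▸ card_dvd_of_le inf_le_left
    rw [hCy] at hd1
    have hcases : Nat.card (Nm ⊓ M : Subgroup K) = 20 ∨ Nat.card (Nm ⊓ M : Subgroup K) = 40 := by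
      obtain ⟨j, hj⟩ := hd1
      rw [hj] at hd2
      have := Nat.le_of_dvd (by norm_num) hd2
      have hpos : 0 < Nat.card (Nm ⊓ M : Subgroup K) := Nat.card_pos
      have : j = 1 ∨ j = 2 := by omega
      omega
    have hyM : y ∈ M := hCM (mem_centralizer_singleton_iff.mpr rfl)
    rcases hcases with h | h
    · exact (false_of_normal hK hy hN (by rw [← hC, hCy]; norm_num) hM hyM
        (eq_of_le_of_card_ge (le_inf hCN hCM) (by rw [hCy, h])).ge).elim
    · have hNM : Nm ≤ M := fun g hg =>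
        ((eq_of_le_of_card_ge inf_le_left (by rw [h, hN])).ge hg : g ∈ Nm ⊓ M).2
      rw [eq_top_iff]
      intro k _
      obtain ⟨m, hm, hmk⟩ :=
        exists_mul_mem_normalizer (p := 5) (by rw [hK]; norm_num) hy hyM (hM.conj_mem y hyM k)
      have := M.mul_mem (M.inv_mem hm) (hNM hmk)
      rwa [inv_mul_cancel_left] at this
  have hcentral : ∀ l ∈ L, ∀ k : K, Commute k l := by
    haveI := hLn
    have h := htop (centralizer (L : Set K)) inferInstance (fun z hz => by
      obtain ⟨i, -, l, hl, rfl⟩ := hdec z hz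
      refine mul_mem (pow_mem (mem_centralizer_iff.mpr fun w hw => ((hLy w hw).eq)) i) ?_
      exact mem_centralizer_iff.mpr fun w hw =>
        congrArg Subtype.val (mul_comm' (⟨w, hw⟩ : L) ⟨l, hl⟩))
    intro l hl k
    exact (mem_centralizer_iff.mp (h.symm ▸ mem_top k : k ∈ centralizer (L : Set K)) l hl).symm
  -- all permutations are even
  set σ := (Equiv.Perm.sign).comp ρ with hσ
  have hσ1 : ∀ k : K, σ k = 1 := by
    have hy1 : σ y = 1 := by
      have h5 : σ y ^ 5 = 1 := by rw [← map_pow, ← hy, pow_orderOf_eq_one, map_one]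
      rcases Int.units_eq_one_or (σ y) with h | h
      · exact h
      · rw [h] at h5; exact absurd h5 (by decide)
    have h := htop σ.ker (MonoidHom.normal_ker _) (fun z hz => by
      obtain ⟨i, -, l, hl, rfl⟩ := hdec z hz
      rw [MonoidHom.mem_ker, map_mul, map_pow, hy1, one_pow, one_mul]
      show Equiv.Perm.sign (ρ l) = 1
      rw [MonoidHom.mem_ker.mp hl, map_one])
    intro k
    exact MonoidHom.mem_ker.mp (h.symm ▸ mem_top k : k ∈ σ.ker)
  -- stabilizers
  letI : MulAction K S :=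
    { smul := fun k a => ⟨k * a * k⁻¹, hS k a a.2⟩
      one_smul := fun a => Subtype.ext (by show (1 : K) * a * (1 : K)⁻¹ = a; simp)
      mul_smul := fun g h a => Subtype.ext (by
        show (g * h) * a * (g * h)⁻¹ = g * (h * a * h⁻¹) * g⁻¹
        group) }
  refine dvd_card_of_index (G := K) (X := S) (n := 15) fun a => ?_
  have hst : ∀ k ∈ stabilizer K a, Commute k (a : K) := fun k hk =>
    mul_inv_eq_iff_eq_mul.mp (congrArg Subtype.val hk)
  have haL : (a : K) ∉ L := fun h => hSc a a.2 (hcentral _ h)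
  have h5' : ¬ 5 ∣ Nat.card (stabilizer K a) := by
    intro h
    obtain ⟨z, hz, hz5⟩ := exists_mem_orderOf 5 h
    obtain ⟨g, hg⟩ := exists_conj_mem_zpowers (p := 5) (by rw [hK]; norm_num) hy hz5
    have hgy : y ∈ zpowers (g * z * g⁻¹) := by
      have heq : zpowers (g * z * g⁻¹) = zpowers y := by
        refine eq_of_le_of_card_ge (zpowers_le.mpr hg) ?_
        rw [Nat.card_zpowers, Nat.card_zpowers,
          show g * z * g⁻¹ = MulAut.conj g z from rfl, MulEquiv.orderOf_eq, hz5, hy]
      rw [heq]; exact mem_zpowers y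
    have hcm : Commute y (g * a * g⁻¹) := by
      obtain ⟨n, hn⟩ := mem_zpowers_iff.mp hgy
      rw [← hn]
      have : Commute (g * z * g⁻¹) (g * a * g⁻¹) := by
        show g * z * g⁻¹ * (g * a * g⁻¹) = g * a * g⁻¹ * (g * z * g⁻¹)
        calc g * z * g⁻¹ * (g * a * g⁻¹) = g * (z * a) * g⁻¹ := by group
          _ = g * (a * z) * g⁻¹ := by rw [(hst z hz).eq]
          _ = g * a * g⁻¹ * (g * z * g⁻¹) := by group
      exact this.zpow_left n
    obtain ⟨i, hi5, l, hl, hal⟩ := hdec _ (mem_centralizer_singleton_iff.mpr hcm.symm.eq)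
    have hi : y ^ (2 * i) = 1 := by
      refine hyL _ ?_
      have h2 : g * a * g⁻¹ * (g * a * g⁻¹) = 1 := by
        rw [show g * a * g⁻¹ * (g * a * g⁻¹) = g * (a * a) * g⁻¹ by group, hS2 a a.2]; group
      rw [hal, show y ^ i * l * (y ^ i * l) = y ^ i * (l * y ^ i) * l by group,
        ((hLy l hl).pow_right i).eq, show y ^ i * (y ^ i * l) * l = y ^ (2 * i) * (l * l) by
          rw [two_mul, pow_add]; group] at h2
      rw [eq_inv_of_mul_eq_one_left h2]
      exact L.inv_mem (L.mul_mem hl hl)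
    have hi0 : i = 0 := by
      have := orderOf_dvd_of_pow_eq_one hi
      rw [hy] at this
      omega
    rw [hi0, pow_zero, one_mul] at hal
    refine haL ?_
    have := hLn.conj_mem _ (hal.symm ▸ hl : g * a * g⁻¹ ∈ L) g⁻¹
    rwa [show g⁻¹ * (g * a * g⁻¹) * g⁻¹⁻¹ = a by group] at this
  have h3' : ¬ 3 ∣ Nat.card (stabilizer K a) := by
    intro h
    obtain ⟨w, hw, hw3⟩ := exists_mem_orderOf 3 h
    have hwc := hst w hw
    obtain ⟨m, hm, hms⟩ := sign_of_sq (ρ (a : K))
      (by rw [pow_two, ← map_mul, hS2 a a.2, map_one])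
    have hs1 : Equiv.Perm.sign (ρ (a : K)) = 1 := hσ1 a
    rw [hs1] at hms
    have hm2 : Even m := by
      by_contra hodd
      rw [(Nat.not_even_iff_odd.mp hodd).neg_one_pow] at hms
      exact absurd hms (by decide)
    have hfree : ∀ x : K ⧸ Nm, w • x ≠ x := by
      intro x hx
      rw [← QuotientGroup.out_eq' x, smul_mk_eq_iff] at hx
      have := Subgroup.orderOf_dvd_natCard _ hx
      rw [hN, show x.out⁻¹ * w * x.out = MulAut.conj x.out⁻¹ w by simp, MulEquiv.orderOf_eq,
        hw3] at this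
      norm_num at this
    have hd3 := dvd_card_of_free (X := K ⧸ Nm) (g := w) (p := 3)
      (by rw [← hw3, pow_orderOf_eq_one]) (S := {x | ρ (a : K) x = x})
      (fun x hx => by
        show (a : K) • w • x = w • x
        rw [smul_smul, ← hwc.eq, mul_smul]
        exact congrArg (w • ·) hx)
      (fun x _ => hfree x)
    rw [card_points hK hy hN] at hm
    have hf : Nat.card {x : K ⧸ Nm // ρ (a : K) x = x} < 6 := by
      rw [← card_points hK hy hN]
      obtain ⟨x, hx⟩ : ∃ x, ρ (a : K) x ≠ x := by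
        by_contra hall
        push Not at hall
        exact haL ((hLmem _).mpr hall)
      exact Finite.card_subtype_lt (p := fun x => ρ (a : K) x = x) hx
    change 3 ∣ Nat.card {x : K ⧸ Nm // ρ (a : K) x = x} at hd3
    obtain ⟨j, rfl⟩ := hm2
    omega
  have hmul := (stabilizer K a).card_mul_index
  rw [hK] at hmul
  have h15 : (Nat.card (stabilizer K a)).Coprime 15 := by
    rw [show 15 = 3 * 5 by norm_num]
    exact Nat.Coprime.mul_right ((Nat.Prime.coprime_iff_not_dvd Nat.prime_three).mpr h3').symm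
      ((Nat.Prime.coprime_iff_not_dvd (by norm_num)).mpr h5').symm
  exact h15.symm.dvd_of_dvd_mul_left (by rw [hmul]; norm_num)

set_option maxHeartbeats 1000000 in
/-- No element squaring to `s` when some involution is odd. -/
theorem false_of_sq (hCy : Nat.card (centralizer ({y} : Set K)) = 10) {s f a g : K}
    (hs : orderOf s = 2) (hsc : ∀ k : K, Commute k s) (hf : f ∈ Nm) (hf4 : f ^ 4 = 1)
    (hfs : f * f ≠ s) (hf2 : f * f ≠ 1) (ha : a * a = 1) (φ : K →* ℂˣ) (hφs : φ s = 1)
    (hφa : φ a = -1) (hg : g * g = s) : False := by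
  classical
  haveI : Fact (Nat.Prime 5) := ⟨by norm_num⟩
  haveI := Fintype.ofFinite (K ⧸ Nm)
  set x0 := ((1 : K) : K ⧸ Nm) with hx0
  have hs1 : s ≠ 1 := fun h => by rw [h, orderOf_one] at hs; omega
  have hs2 : s * s = 1 := by rw [← pow_two, ← hs, pow_orderOf_eq_one]
  set C := centralizer ({y} : Set K) with hC
  have hCN : C ≤ Nm := centralizer_le_normalizer_zpowers y
  have hyC : y ∈ C := mem_centralizer_singleton_iff.mpr rfl
  have hyN : y ∈ Nm := hCN hyC
  have hy5 : y ^ 5 = 1 := by rw [← hy, pow_orderOf_eq_one]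
  have hsC : s ∈ C := mem_centralizer_singleton_iff.mpr (hsc y).eq.symm
  have hsfix : ∀ x : K ⧸ Nm, s • x = x := by
    intro x
    rw [← QuotientGroup.out_eq' x, smul_mk_eq_iff, mul_assoc, ← (hsc x.out).eq,
      inv_mul_cancel_left]
    exact hCN hsC
  have hypow : ∀ i : ℕ, y ^ i = 1 → i < 5 → i = 0 := fun i h hi => by
    have := orderOf_dvd_of_pow_eq_one h
    rw [hy] at this
    omega
  have hdec : ∀ z ∈ C, ∃ i : ℕ, i < 5 ∧ (z = y ^ i ∨ z = y ^ i * s) := by
    let F : Fin 5 × Fin 2 → C := fun v => ⟨y ^ (v.1 : ℕ) * s ^ (v.2 : ℕ),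
      C.mul_mem (pow_mem hyC _) (pow_mem hsC _)⟩
    have hinj : Function.Injective F := by
      rintro ⟨i, j⟩ ⟨i', j'⟩ h
      have e : y ^ (i : ℕ) * s ^ (j : ℕ) = y ^ (i' : ℕ) * s ^ (j' : ℕ) := congrArg Subtype.val h
      have hsq : ∀ (i : ℕ) (j : ℕ), (y ^ i * s ^ j) ^ 6 = y ^ i := by
        intro i j
        rw [((hsc y).pow_pow i j).mul_pow, ← pow_mul, ← pow_mul,
          show j * 6 = 2 * (3 * j) by ring, pow_mul s, ← hs, pow_orderOf_eq_one, one_pow, mul_one,
          show i * 6 = i + 5 * i by ring, pow_add, pow_mul y, hy5, one_pow, mul_one]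
      have h1 : y ^ (i : ℕ) = y ^ (i' : ℕ) := by rw [← hsq i j, e, hsq]
      have hii : i = i' := Fin.ext (by
        have := pow_inj_mod.mp h1
        rw [hy, Nat.mod_eq_of_lt i.isLt, Nat.mod_eq_of_lt i'.isLt] at this
        exact this)
      rw [h1] at e
      have hjj : j = j' := Fin.ext (by
        have := pow_inj_mod.mp (mul_left_cancel e)
        rw [hs, Nat.mod_eq_of_lt j.isLt, Nat.mod_eq_of_lt j'.isLt] at this
        exact this)
      rw [hii, hjj]
    haveI := Fintype.ofFinite C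
    have hbij : Function.Bijective F := by
      rw [Fintype.bijective_iff_injective_and_card]
      refine ⟨hinj, ?_⟩
      rw [Fintype.card_prod, Fintype.card_fin, Fintype.card_fin,
        ← Nat.card_eq_fintype_card (α := C), hCy]
    intro z hz
    obtain ⟨⟨i, j⟩, hij⟩ := hbij.2 ⟨z, hz⟩
    refine ⟨i, i.isLt, ?_⟩
    have e : y ^ (i : ℕ) * s ^ (j : ℕ) = z := congrArg Subtype.val hij
    rcases (by omega : (j : ℕ) = 0 ∨ (j : ℕ) = 1) with h | h <;> rw [h] at e
    · left; simpa using e.symm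
    · right; simpa using e.symm
  have hCfix : ∀ z ∈ C, ∀ x : K ⧸ Nm, x ≠ x0 → z • x = x → z = 1 ∨ z = s := by
    intro z hz x hx hzx
    obtain ⟨i, hi5, hzi⟩ := hdec z hz
    have hi : i = 0 := by
      by_contra hne
      refine hx (fix_unique hK hy hN x ?_)
      have hyx : y ^ i • x = x := by
        rcases hzi with rfl | rfl
        · exact hzx
        · rwa [mul_smul, hsfix] at hzx
      have hco : i.Coprime (orderOf y) := by
        rw [hy]
        refine ((Nat.Prime.coprime_iff_not_dvd (by norm_num)).mpr fun hd => hne ?_).symm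
        omega
      obtain ⟨m, hm⟩ := exists_pow_eq_self_of_coprime hco
      have h2 : (y ^ i) ^ m • x = x :=
        pow_mem (show y ^ i ∈ stabilizer K x from hyx) m
      rwa [hm] at h2
    subst hi
    simpa using hzi
  -- action on `y`
  have hexp : ∀ e ∈ Nm, ∃ l : ℕ, 0 < l ∧ l < 5 ∧ e * y * e⁻¹ = y ^ l := by
    intro e he
    obtain ⟨l, hl, hle⟩ := Finset.mem_image.mp
      ((isOfFinOrder_of_finite y).mem_zpowers_iff_mem_range_orderOf.mp
        ((mem_normalizer_iff.mp he y).mp (mem_zpowers y)))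
    rw [Finset.mem_range, hy] at hl
    refine ⟨l, Nat.pos_of_ne_zero fun h0 => ?_, hl, hle.symm⟩
    rw [h0, pow_zero, eq_comm, conj_eq_one_iff] at hle
    rw [hle, orderOf_one] at hy
    omega
  obtain ⟨k, hk0, hk5, hfk⟩ := hexp f hf
  have hiter : ∀ (i l : ℕ), f ^ i * y ^ l * (f ^ i)⁻¹ = y ^ (k ^ i * l) := by
    intro i
    induction i with
    | zero => intro l; simp
    | succ i ih =>
      intro l
      calc f ^ (i + 1) * y ^ l * (f ^ (i + 1))⁻¹
          = f ^ i * (f * y * f⁻¹) ^ l * (f ^ i)⁻¹ := by rw [conj_pow]; group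
        _ = f ^ i * y ^ (k * l) * (f ^ i)⁻¹ := by rw [hfk, ← pow_mul]
        _ = y ^ (k ^ (i + 1) * l) := by rw [ih, pow_succ, mul_assoc]
  set t := f * f with ht
  have ht2 : t * t = 1 := by
    rw [ht, ← hf4]; simp only [pow_succ, pow_zero, one_mul, mul_assoc]
  have hk23 : k = 2 ∨ k = 3 := by
    by_contra hne
    have htC : t ∈ C := by
      refine mem_centralizer_singleton_iff.mpr ?_
      have h := hiter 2 1
      rw [pow_one, mul_one, pow_two f, ← ht] at h
      have : y ^ (k ^ 2) = y := by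
        rw [← pow_mod_orderOf, hy]
        have : k = 1 ∨ k = 4 := by omega
        rcases this with rfl | rfl <;> simp
      rw [this] at h
      exact mul_inv_eq_iff_eq_mul.mp h
    obtain ⟨i, hi5, hti⟩ := hdec t htC
    have h2 : y ^ (i + i) = 1 := by
      rcases hti with h | h
      · rw [h, ← pow_add] at ht2; exact ht2
      · rw [h, show y ^ i * s * (y ^ i * s) = y ^ i * (s * y ^ i) * s by group,
          ← ((hsc y).pow_left i).eq, show y ^ i * (y ^ i * s) * s = y ^ i * y ^ i * (s * s) by group,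
          hs2, mul_one, ← pow_add] at ht2
        exact ht2
    have hi0 : i = 0 := by
      have := orderOf_dvd_of_pow_eq_one h2
      rw [hy] at this
      omega
    rw [hi0, pow_zero, one_mul] at hti
    exact hti.elim hf2 hfs
  have hgen : ∀ e ∈ Nm, ∃ i < 4, f ^ i * e ∈ C := by
    intro e he
    obtain ⟨l, hl0, hl5, hel⟩ := hexp e he
    obtain ⟨i, hi, hil⟩ : ∃ i < 4, k ^ i * l % 5 = 1 := by
      rcases hk23 with rfl | rfl <;> interval_cases l <;> decide
    refine ⟨i, hi, mem_centralizer_singleton_iff.mpr (mul_inv_eq_iff_eq_mul.mp ?_)⟩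
    calc f ^ i * e * y * (f ^ i * e)⁻¹ = f ^ i * (e * y * e⁻¹) * (f ^ i)⁻¹ := by group
      _ = y ^ (k ^ i * l) := by rw [hel, hiter]
      _ = y := by rw [← pow_mod_orderOf, hy, hil, pow_one]
  -- characters
  have hkill : ∀ {A : Type} [CommGroup A] (ψ : K →* A), ψ y = 1 := by
    intro A _ ψ
    have h5 : ψ y ^ 5 = 1 := by rw [← map_pow, hy5, map_one]
    have h : ψ y = ψ y ^ k := by
      have := congrArg ψ hfk
      rwa [map_mul, map_mul, map_inv, map_pow, mul_inv_cancel_comm] at this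
    rcases hk23 with rfl | rfl
    · rwa [pow_two, left_eq_mul] at h
    · have h2 : ψ y ^ 2 = 1 := by
        rw [show (3 : ℕ) = 2 + 1 by norm_num, pow_succ, right_eq_mul] at h
        exact h
      rwa [show (5 : ℕ) = 2 + 2 + 1 by norm_num, pow_succ, pow_add, h2, one_mul, one_mul] at h5
  set σ : K →* ℤˣ := (Equiv.Perm.sign).comp (toPermHom K (K ⧸ Nm)) with hσ
  have hσs : σ s = 1 := by
    show Equiv.Perm.sign (toPermHom K (K ⧸ Nm) s) = 1
    rw [show toPermHom K (K ⧸ Nm) s = 1 from Equiv.ext hsfix, map_one]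
  have hCker : ∀ {A : Type} [CommGroup A] (ψ : K →* A), ψ s = 1 → ∀ z ∈ C, ψ z = 1 := by
    intro A _ ψ hψ z hz
    obtain ⟨i, -, h | h⟩ := hdec z hz <;> rw [h] <;> simp [hkill ψ, hψ]
  have hneg : (-1 : ℂˣ) ≠ 1 := fun h => by
    have := congrArg Units.val h
    norm_num at this
  have hφ4 : φ f ^ 4 = 1 := by rw [← map_pow, hf4, map_one]
  have hφt : φ t = 1 := by
    by_contra hne
    refine false_of_normal hK hy hN (by rw [← hC, hCy]; norm_num) (MonoidHom.normal_ker φ)
      (MonoidHom.mem_ker.mpr (hkill φ)) fun e he => ?_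
    obtain ⟨i, hi, hie⟩ := hgen e he.1
    have hfi : φ f ^ i = 1 := by
      have := hCker φ hφs _ hie
      rwa [map_mul, map_pow, MonoidHom.mem_ker.mp he.2, mul_one] at this
    have hi0 : i = 0 := by
      by_contra hi0
      refine hne ?_
      rw [ht, map_mul, ← pow_two]
      rcases (by omega : i = 1 ∨ i = 2 ∨ i = 3) with rfl | rfl | rfl
      · rw [pow_one] at hfi; rw [hfi, one_pow]
      · exact hfi
      · have h1 : φ f = 1 := by
          rw [show (4 : ℕ) = 3 + 1 by norm_num, pow_succ, hfi, one_mul] at hφ4; exact hφ4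
        rw [h1, one_pow]
    rwa [hi0, pow_zero, one_mul] at hie
  -- the common kernel
  set M0 := φ.ker ⊓ σ.ker with hM0
  haveI : M0.Normal := by rw [hM0]; infer_instance
  have hdecomp : ∀ c : K, ∃ i : ℕ, φ c * φ f ^ i = 1 ∧ σ c * σ f ^ i = 1 := by
    intro c
    have hyM : y ∈ M0 := ⟨MonoidHom.mem_ker.mpr (hkill φ), MonoidHom.mem_ker.mpr (hkill σ)⟩
    obtain ⟨m, hm, hmc⟩ := exists_mul_mem_normalizer (p := 5) (by rw [hK]; norm_num) hy hyM
      ((inferInstance : M0.Normal).conj_mem y hyM c)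
    obtain ⟨i, -, hi⟩ := hgen _ hmc
    refine ⟨i, ?_, ?_⟩
    · have := hCker φ hφs _ hi
      rw [map_mul, map_mul, map_pow, MonoidHom.mem_ker.mp hm.1, one_mul] at this
      rw [mul_comm]; exact this
    · have := hCker σ hσs _ hi
      rw [map_mul, map_mul, map_pow, MonoidHom.mem_ker.mp hm.2, one_mul] at this
      rw [mul_comm]; exact this
  have hφt' : φ f ^ 2 = 1 := by rw [pow_two, ← map_mul, ← ht, hφt]
  have hφf : φ f = -1 := by
    obtain ⟨i, hi, -⟩ := hdecomp a
    rw [hφa] at hi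
    obtain ⟨j, rfl | rfl⟩ : ∃ j, i = 2 * j ∨ i = 2 * j + 1 := ⟨i / 2, by omega⟩
    · rw [pow_mul, hφt', one_pow, mul_one] at hi
      exact absurd hi hneg
    · rw [pow_succ, pow_mul, hφt', one_pow, one_mul, neg_one_mul, neg_eq_iff_eq_neg] at hi
      exact hi
  -- involutive permutations with a fixed point
  have hpoint : ∀ b : K, b * b = 1 ∨ b * b = s → ∀ x : K ⧸ Nm, b • x = x →
      b * b = 1 ∧ φ b = 1 := by
    intro b hb x hx
    set b' := x.out⁻¹ * b * x.out with hb'
    have hb'N : b' ∈ Nm := by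
      rw [← QuotientGroup.out_eq' x, smul_mk_eq_iff] at hx; exact hx
    have hsq : b' * b' = b * b := by
      rw [hb', show x.out⁻¹ * b * x.out * (x.out⁻¹ * b * x.out) = x.out⁻¹ * (b * b) * x.out by group]
      rcases hb with h | h <;> rw [h]
      · group
      · rw [mul_assoc, ← (hsc x.out).eq, inv_mul_cancel_left]
    have hφb : φ b' = φ b := by rw [hb', map_mul, map_mul, map_inv]; rw [mul_comm, mul_inv_cancel_left]
    obtain ⟨i, hi, hz⟩ := hgen b' hb'N
    obtain ⟨l, hl0, hl5, hbl⟩ := hexp b' hb'N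
    have hl2 : y ^ (l * l) = y := by
      have h1 : b' * (b' * y * b'⁻¹) * b'⁻¹ = y := by
        rw [show b' * (b' * y * b'⁻¹) * b'⁻¹ = (b' * b') * y * (b' * b')⁻¹ by group, hsq]
        rcases hb with h | h <;> rw [h]
        · group
        · rw [← (hsc y).eq]; group
      rw [hbl, ← conj_pow, hbl, ← pow_mul] at h1
      exact h1
    have hl14 : l = 1 ∨ l = 4 := by
      have : l * l % 5 = 1 % 5 := hy ▸ pow_inj_mod.mp (hl2.trans (pow_one y).symm)
      interval_cases l <;> omega
    have hzk : f ^ i * b' * y * (f ^ i * b')⁻¹ = y :=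
      mul_inv_eq_iff_eq_mul.mpr (mem_centralizer_singleton_iff.mp hz)
    rw [show f ^ i * b' * y * (f ^ i * b')⁻¹ = f ^ i * (b' * y * b'⁻¹) * (f ^ i)⁻¹ by group,
      hbl, hiter] at hzk
    have hkl : k ^ i * l % 5 = 1 % 5 := hy ▸ pow_inj_mod.mp (hzk.trans (pow_one y).symm)
    have hi02 : i = 0 ∨ i = 2 := by
      rcases hk23 with rfl | rfl <;> rcases hl14 with rfl | rfl <;> interval_cases i <;>
        first | omega | norm_num at hkl
    have hφb1 : φ b = 1 := by
      have := hCker φ hφs _ hz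
      rw [map_mul, map_pow, hφb] at this
      rcases hi02 with rfl | rfl
      · simpa using this
      · rwa [hφt', one_mul] at this
    refine ⟨?_, hφb1⟩
    rcases hb with h | h
    · exact h
    exfalso
    rw [h] at hsq
    obtain ⟨j, hj, hzj⟩ := hdec _ hz
    rcases hi02 with rfl | rfl
    · rw [pow_zero, one_mul] at hzj
      have h2 : y ^ (j + j) = s := by
        rcases hzj with e | e
        · rw [e, ← pow_add] at hsq; exact hsq
        · rw [e, show y ^ j * s * (y ^ j * s) = y ^ j * (s * y ^ j) * s by group,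
            ← ((hsc y).pow_left j).eq,
            show y ^ j * (y ^ j * s) * s = y ^ j * y ^ j * (s * s) by group, hs2, mul_one,
            ← pow_add] at hsq
          exact hsq
      have h5 : s ^ 5 = 1 := by rw [← h2, ← pow_mul, mul_comm, pow_mul, hy5, one_pow]
      have := orderOf_dvd_of_pow_eq_one h5
      rw [hs] at this
      norm_num at this
    · rw [pow_two f, ← ht] at hzj
      have hbt : b' = t * (t * b') := by rw [← mul_assoc, ht2, one_mul]
      have hty : t * y ^ j = y ^ (4 * j) * t := by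
        refine mul_inv_eq_iff_eq_mul.mp ?_
        have := hiter 2 j
        rw [pow_two f, ← ht] at this
        rw [this, ← pow_mod_orderOf, hy]
        conv_rhs => rw [← pow_mod_orderOf, hy]
        congr 1
        rcases hk23 with rfl | rfl <;> omega
      have hinv2 : t * y ^ j * (t * y ^ j) = 1 := by
        calc t * y ^ j * (t * y ^ j) = y ^ (4 * j) * t * (t * y ^ j) := by rw [hty]
          _ = y ^ (4 * j) * (t * t) * y ^ j := by group
          _ = 1 := by
            rw [ht2, mul_one, ← pow_add, show 4 * j + j = 5 * j by ring, pow_mul, hy5, one_pow]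
      have hsqb : b' * b' = 1 := by
        rw [hbt]
        rcases hzj with e | e <;> rw [e]
        · exact hinv2
        · rw [← mul_assoc t (y ^ j) s, show t * y ^ j * s * (t * y ^ j * s) =
            t * y ^ j * (s * (t * y ^ j)) * s by group, ← (hsc (t * y ^ j)).eq,
            show t * y ^ j * (t * y ^ j * s) * s = t * y ^ j * (t * y ^ j) * (s * s) by group,
            hinv2, hs2, one_mul]
      exact hs1 (hsq.symm.trans hsqb)
  have hga : ∀ x : K ⧸ Nm, g • x ≠ x := fun x hx => hs1 ((hg.symm).trans (hpoint g (Or.inr hg) x hx).1)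
  have haa : ∀ x : K ⧸ Nm, a • x ≠ x := fun x hx => hneg (hφa.symm.trans (hpoint a (Or.inl ha) x hx).2)
  -- `g` is odd
  have hφg : φ g = -1 := by
    obtain ⟨m, hm, hms⟩ := sign_of_sq (toPermHom K (K ⧸ Nm) g)
      (by rw [pow_two, ← map_mul, hg]; exact Equiv.ext hsfix)
    have h0 : Nat.card {x : K ⧸ Nm // toPermHom K (K ⧸ Nm) g x = x} = 0 := by
      haveI : IsEmpty {x : K ⧸ Nm // toPermHom K (K ⧸ Nm) g x = x} := ⟨fun x => hga x.1 x.2⟩
      exact Nat.card_of_isEmpty
    rw [h0, card_points hK hy hN] at hm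
    rw [show m = 3 by omega] at hms
    have hσg : σ g = -1 := by
      show Equiv.Perm.sign (toPermHom K (K ⧸ Nm) g) = -1
      rw [hms]; rfl
    obtain ⟨i, hi, hi'⟩ := hdecomp g
    obtain ⟨j, rfl | rfl⟩ : ∃ j, i = 2 * j ∨ i = 2 * j + 1 := ⟨i / 2, by omega⟩
    · rw [pow_mul, hσg, pow_two, Int.units_mul_self, one_pow, mul_one] at hi'
      exact absurd hi' (by decide)
    · rw [pow_succ, pow_mul, hφt', one_pow, one_mul, hφf, mul_neg, mul_one, neg_eq_iff_eq_neg] at hi
      exact hi
  -- a second point fixed by `f`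
  obtain ⟨x1, hx1, hfx1⟩ : ∃ x : K ⧸ Nm, x ≠ x0 ∧ f • x = x := by
    haveI : Fact (Nat.Prime 2) := ⟨Nat.prime_two⟩
    have hp : IsPGroup 2 (zpowers f) := by
      have h4 : orderOf f ∣ 2 ^ 2 := orderOf_dvd_of_pow_eq_one (by norm_num; exact hf4)
      obtain ⟨j, -, hj⟩ := (Nat.dvd_prime_pow Nat.prime_two).mp h4
      exact IsPGroup.of_card (n := j) (by rw [Nat.card_zpowers, hj])
    have hmod := hp.card_modEq_card_fixedPoints (K ⧸ Nm)
    rw [card_points hK hy hN] at hmod
    have hx0f : x0 ∈ fixedPoints (zpowers f) (K ⧸ Nm) := fun u =>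
      smul_base hK hy hN (zpowers_le.mpr hf u.2)
    haveI : Nontrivial (fixedPoints (zpowers f) (K ⧸ Nm)) := by
      haveI : Nonempty (fixedPoints (zpowers f) (K ⧸ Nm)) := ⟨⟨x0, hx0f⟩⟩
      rw [← Finite.one_lt_card_iff_nontrivial]
      have : 0 < Nat.card (fixedPoints (zpowers f) (K ⧸ Nm)) := Nat.card_pos
      replace hmod : 6 % 2 = Nat.card (fixedPoints (zpowers f) (K ⧸ Nm)) % 2 := hmod
      omega
    obtain ⟨⟨x, hx⟩, hne⟩ := exists_ne (⟨x0, hx0f⟩ : fixedPoints (zpowers f) (K ⧸ Nm))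
    exact ⟨x, fun e => hne (Subtype.ext e), hx ⟨f, mem_zpowers f⟩⟩
  -- move both involutions to the pair `{x0, x1}`
  have hswap : ∀ b : K, (∀ x : K ⧸ Nm, b • x ≠ x) → b * b = 1 ∨ b * b = s →
      ∃ c : K, (c * b * c⁻¹) • x0 = x1 ∧ (c * b * c⁻¹) • x1 = x0 := by
    intro b hb hb2
    obtain ⟨i, hi⟩ := orbit_others hK hy hN (hb x0) hx1
    refine ⟨y ^ i, ?_, ?_⟩
    · rw [mul_smul, mul_smul]
      rw [smul_base hK hy hN ((Nm).inv_mem (pow_mem hyN i))]
      exact hi
    · rw [mul_smul, mul_smul, ← hi, inv_smul_smul, smul_smul b]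
      have hbb : (b * b) • x0 = x0 := by
        rcases hb2 with h | h <;> rw [h]
        · exact one_smul _ _
        · exact hsfix x0
      rw [hbb]
      exact smul_base hK hy hN (pow_mem hyN i)
  obtain ⟨c, hc1, hc2⟩ := hswap a haa (Or.inl ha)
  obtain ⟨c', hc1', hc2'⟩ := hswap g hga (Or.inr hg)
  set a1 := c * a * c⁻¹ with ha1
  set g1 := c' * g * c'⁻¹ with hg1
  have ha12 : a1 * a1 = 1 := by
    rw [ha1, show c * a * c⁻¹ * (c * a * c⁻¹) = c * (a * a) * c⁻¹ by group, ha]; group
  have hg12 : g1 * g1 = s := by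
    rw [hg1, show c' * g * c'⁻¹ * (c' * g * c'⁻¹) = c' * (g * g) * c'⁻¹ by group, hg,
      (hsc c').eq, mul_inv_cancel_right]
  have hφa1 : φ a1 = -1 := by rw [ha1, map_mul, map_mul, map_inv, mul_inv_cancel_comm, hφa]
  have hφg1 : φ g1 = -1 := by rw [hg1, map_mul, map_mul, map_inv, mul_inv_cancel_comm, hφg]
  have hbase : ∀ e : K, e • x0 = x0 → e ∈ Nm := fun e he => by
    rw [hx0, smul_mk_eq_iff] at he; simpa using he
  have hD : ∀ e : K, e • x0 = x0 → e • x1 = x1 →
      ∃ i < 4, f ^ i * e = 1 ∨ f ^ i * e = s := by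
    intro e he0 he1
    obtain ⟨i, hi, hie⟩ := hgen e (hbase e he0)
    refine ⟨i, hi, hCfix _ hie x1 hx1 ?_⟩
    rw [mul_smul, he1]
    exact pow_mem (show f ∈ stabilizer K x1 from hfx1) i
  have hfx0 : f • x0 = x0 := smul_base hK hy hN hf
  -- `a1` centralizes `t`
  have hat : Commute a1 t := by
    have ha1i : a1⁻¹ = a1 := inv_eq_of_mul_eq_one_right ha12
    obtain ⟨i, hi, hie⟩ := hD (a1 * f * a1⁻¹)
      (by rw [mul_smul, mul_smul, ha1i, hc1, hfx1, hc2])
      (by rw [mul_smul, mul_smul, ha1i, hc2, hfx0, hc1])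
    set u := f ^ i * (a1 * f * a1⁻¹) with hu
    have hu2 : u * u = 1 := by rcases hie with h | h <;> rw [h] <;> simp [hs2]
    have huc : ∀ v : K, Commute v u := by
      rcases hie with h | h <;> rw [h]
      · exact fun v => Commute.one_right v
      · exact hsc
    have hφi : φ f ^ i = -1 := by
      have h : φ u = 1 := by rcases hie with h | h <;> rw [h] <;> simp [hφs]
      rw [hu, map_mul, map_pow, map_mul, map_mul, map_inv, mul_inv_cancel_comm, hφf, mul_neg,
        mul_one, neg_eq_iff_eq_neg] at h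
      rw [hφf]; exact h
    have hfi : (f ^ i)⁻¹ * (f ^ i)⁻¹ = t := by
      rw [← mul_inv_rev, ← pow_add]
      interval_cases i
      · rw [pow_zero] at hφi; exact absurd hφi.symm hneg
      · rw [pow_succ, pow_one, ← ht]; exact inv_eq_of_mul_eq_one_right ht2
      · rw [hφt'] at hφi; exact absurd hφi.symm hneg
      · rw [show 3 + 3 = 4 + 2 by norm_num, pow_add, hf4, one_mul, pow_two, ← ht]
        exact inv_eq_of_mul_eq_one_right ht2
    have key : a1 * t * a1⁻¹ = t := by
      have hA : a1 * f * a1⁻¹ = (f ^ i)⁻¹ * u := by rw [hu]; group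
      calc a1 * t * a1⁻¹ = (a1 * f * a1⁻¹) * (a1 * f * a1⁻¹) := by rw [ht]; group
        _ = (f ^ i)⁻¹ * (u * (f ^ i)⁻¹) * u := by rw [hA]; group
        _ = (f ^ i)⁻¹ * ((f ^ i)⁻¹ * u) * u := by rw [← (huc (f ^ i)⁻¹).eq]
        _ = (f ^ i)⁻¹ * (f ^ i)⁻¹ * (u * u) := by group
        _ = t := by rw [hu2, mul_one, hfi]
    exact mul_inv_eq_iff_eq_mul.mp key
  -- conclusion
  obtain ⟨i, hi, hie⟩ := hD (g1 * a1) (by rw [mul_smul, hc1, hc2']) (by rw [mul_smul, hc2, hc1'])
  set u := f ^ i * (g1 * a1) with hu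
  have hu2 : u * u = 1 := by rcases hie with h | h <;> rw [h] <;> simp [hs2]
  have huc : ∀ v : K, Commute v u := by
    rcases hie with h | h <;> rw [h]
    · exact fun v => Commute.one_right v
    · exact hsc
  have hφi : φ f ^ i = 1 := by
    have h : φ u = 1 := by rcases hie with h | h <;> rw [h] <;> simp [hφs]
    rwa [hu, map_mul, map_pow, map_mul, hφg1, hφa1, neg_mul_neg, one_mul, mul_one] at h
  set d := (f ^ i)⁻¹ with hd
  have hdt : d * d = 1 ∧ Commute d a1 := by
    interval_cases i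
    · rw [hd]; simp
    · rw [pow_one, hφf] at hφi; exact absurd hφi hneg
    · have : d = t := by rw [hd, pow_two, ← ht]; exact inv_eq_of_mul_eq_one_right ht2
      rw [this]; exact ⟨ht2, hat.symm⟩
    · rw [show (3 : ℕ) = 2 + 1 by norm_num, pow_succ, hφt', one_mul, hφf] at hφi
      exact absurd hφi hneg
  have hg1e : g1 = d * u * a1 := by
    rw [hd, hu, show (f ^ i)⁻¹ * (f ^ i * (g1 * a1)) * a1 = g1 * (a1 * a1) by group, ha12, mul_one]
  apply hs1
  rw [← hg12, hg1e]
  calc d * u * a1 * (d * u * a1) = d * u * (a1 * d) * u * a1 := by group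
    _ = d * u * (d * a1) * u * a1 := by rw [hdt.2.eq]
    _ = d * (u * d) * (a1 * u) * a1 := by group
    _ = d * (d * u) * (u * a1) * a1 := by rw [(huc d).eq, (huc a1).eq]
    _ = d * d * (u * u) * (a1 * a1) := by group
    _ = 1 := by rw [hdt.1, hu2, ha12]; simp

end Abstract

section Translation

variable {G : Type u} [Group G] [Finite G] {y s : G}

theorem restrict_data (hcent : ∀ g ∈ normalizer ((zpowers y : Subgroup G) : Set G), Commute g s)
    (hN : Nat.card (normalizer ((zpowers y : Subgroup G) : Set G)) = 40) :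
    ∃ y' : centralizer ({s} : Set G), (y' : G) = y ∧
      normalizer ((zpowers y : Subgroup G) : Set G) ≤ centralizer ({s} : Set G) ∧
      Nat.card (normalizer ((zpowers y' : Subgroup (centralizer ({s} : Set G))) :
        Set (centralizer ({s} : Set G)))) = 40 ∧
      Nat.card (centralizer ({y'} : Set (centralizer ({s} : Set G)))) =
        Nat.card (centralizer ({y} : Set G)) := by
  have hle : normalizer ((zpowers y : Subgroup G) : Set G) ≤ centralizer ({s} : Set G) :=
    fun g hg => mem_centralizer_singleton_iff.mpr (hcent g hg).eq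
  refine ⟨⟨y, hle (le_normalizer (mem_zpowers y))⟩, rfl, hle, ?_, ?_⟩
  · set y' : centralizer ({s} : Set G) := ⟨y, hle (le_normalizer (mem_zpowers y))⟩
    have h1 : (zpowers y).subgroupOf (centralizer ({s} : Set G)) = zpowers y' := by
      ext v
      rw [mem_subgroupOf, mem_zpowers_iff, mem_zpowers_iff]
      refine exists_congr fun n => ⟨fun h => Subtype.ext ?_, fun h => ?_⟩
      · exact h
      · exact congrArg Subtype.val h
    rw [← h1, ← subgroupOf_normalizer_eq (zpowers_le.mpr (hle (le_normalizer (mem_zpowers y)))),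
      Nat.card_congr (subgroupOfEquivOfLe hle).toEquiv, hN]
  · refine Nat.card_congr
      { toFun := fun v => ⟨v.1.1, mem_centralizer_singleton_iff.mpr
          (congrArg Subtype.val (mem_centralizer_singleton_iff.mp v.2))⟩
        invFun := fun v => ⟨⟨v.1, hle (centralizer_le_normalizer_zpowers y v.2)⟩,
          mem_centralizer_singleton_iff.mpr (Subtype.ext (mem_centralizer_singleton_iff.mp v.2))⟩
        left_inv := fun v => rfl
        right_inv := fun v => rfl }

omit [Finite G] in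
theorem involution_pair {a : G} (hs : orderOf s = 2) (ha : IsConj s a) (has : IsConj s (a * s)) :
    a * a = 1 ∧ a * s = s * a := by
  have hs2 : s * s = 1 := by rw [← pow_two, ← hs, pow_orderOf_eq_one]
  obtain ⟨g, hg⟩ := isConj_iff.mp ha
  obtain ⟨h, hh⟩ := isConj_iff.mp has
  have ha2 : a * a = 1 := by
    rw [← hg, show g * s * g⁻¹ * (g * s * g⁻¹) = g * (s * s) * g⁻¹ by group, hs2]; group
  have h2 : a * s * (a * s) = 1 := by
    rw [← hh, show h * s * h⁻¹ * (h * s * h⁻¹) = h * (s * s) * h⁻¹ by group, hs2]; group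
  refine ⟨ha2, ?_⟩
  calc a * s = (a * s)⁻¹ := eq_inv_of_mul_eq_one_left h2
    _ = s * a := by
      rw [mul_inv_rev, inv_eq_of_mul_eq_one_right hs2, inv_eq_of_mul_eq_one_right ha2]

set_option maxHeartbeats 1000000 in
/-- (F) With `|C(y)| = 20` the number of `a` with `a, as` conjugate to `s` is not 20. -/
theorem false_of_centralizer_twenty (hG : IsM12 G) (hy : orderOf y = 5) (hs : orderOf s = 2)
    (hcent : ∀ g ∈ normalizer ((zpowers y : Subgroup G) : Set G), Commute g s)
    (hN : Nat.card (normalizer ((zpowers y : Subgroup G) : Set G)) = 40)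
    (hCs : Nat.card (centralizer ({s} : Set G)) = 240)
    (hCy : Nat.card (centralizer ({y} : Set G)) = 20)
    (hP : Nat.card {a : G // IsConj s a ∧ IsConj s (a * s)} = 20) : False := by
  haveI : Fact (Nat.Prime 5) := ⟨by norm_num⟩
  set C := centralizer ({s} : Set G) with hC
  obtain ⟨y', hy', hle, hN', hC'⟩ := restrict_data hcent hN
  let S : Set C := {a | IsConj s (a : G) ∧ IsConj s ((a : G) * s)}
  have hs2 : s * s = 1 := by rw [← pow_two, ← hs, pow_orderOf_eq_one]
  have hSconj : ∀ k : C, ∀ a ∈ S, k * a * k⁻¹ ∈ S := by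
    intro k a ha
    have hks : (k : G) * s = s * k := mem_centralizer_singleton_iff.mp k.2
    refine ⟨?_, ?_⟩
    · exact ha.1.trans (isConj_iff.mpr ⟨k, rfl⟩)
    · refine ha.2.trans (isConj_iff.mpr ⟨k, ?_⟩)
      show (k : G) * (a * s) * (k : G)⁻¹ = k * a * (k : G)⁻¹ * s
      calc (k : G) * (a * s) * (k : G)⁻¹ = k * a * (k : G)⁻¹ * (k * s) * (k : G)⁻¹ := by group
        _ = k * a * (k : G)⁻¹ * (s * k) * (k : G)⁻¹ := by rw [hks]
        _ = k * a * (k : G)⁻¹ * s := by group
  have hSc : ∀ a ∈ S, ¬ ∀ k : C, Commute k a := by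
    intro a ha hall
    obtain ⟨g, hg⟩ := isConj_iff.mp ha.1
    have hle2 : C ≤ centralizer ({(a : G)} : Set G) := fun v hv =>
      mem_centralizer_singleton_iff.mpr (congrArg Subtype.val (hall ⟨v, hv⟩).eq)
    have hcard : Nat.card (centralizer ({(a : G)} : Set G)) = 240 := by
      rw [← hCs, ← hg]
      refine (Nat.card_congr ((MulAut.conj g).toEquiv.subtypeEquiv fun v => ?_)).symm
      show v ∈ centralizer ({s} : Set G) ↔ g * v * g⁻¹ ∈ centralizer ({g * s * g⁻¹} : Set G)
      rw [mem_centralizer_singleton_iff, mem_centralizer_singleton_iff]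
      constructor
      · intro h
        calc g * v * g⁻¹ * (g * s * g⁻¹) = g * (v * s) * g⁻¹ := by group
          _ = g * (s * v) * g⁻¹ := by rw [h]
          _ = g * s * g⁻¹ * (g * v * g⁻¹) := by group
      · intro h
        calc v * s = g⁻¹ * (g * v * g⁻¹ * (g * s * g⁻¹)) * g := by group
          _ = g⁻¹ * (g * s * g⁻¹ * (g * v * g⁻¹)) * g := by rw [h]
          _ = s * v := by group
    have heq : C = centralizer ({(a : G)} : Set G) := eq_of_le_of_card_ge hle2 (by rw [hcard, hCs])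
    -- `g` normalizes `C`, so lies in it
    have hgy : g * y * g⁻¹ ∈ C := by
      rw [heq, mem_centralizer_singleton_iff, ← hg]
      have hys : y * s = s * y := (hcent y (le_normalizer (mem_zpowers y))).eq
      calc g * y * g⁻¹ * (g * s * g⁻¹) = g * (y * s) * g⁻¹ := by group
        _ = g * (s * y) * g⁻¹ := by rw [hys]
        _ = g * s * g⁻¹ * (g * y * g⁻¹) := by group
    obtain ⟨m, hm, hmg⟩ := exists_mul_mem_normalizer (p := 5) (by rw [hG.2]; norm_num) hy
      (show y ∈ C by rw [← hy']; exact y'.2) hgy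
    have hgC : g ∈ C := by
      have := C.mul_mem (C.inv_mem hm) (hle hmg)
      rwa [inv_mul_cancel_left] at this
    have has : (a : G) = s := by
      rw [← hg, mem_centralizer_singleton_iff.mp hgC, mul_inv_cancel_right]
    have h1 := ha.2
    rw [has, hs2, isConj_one_left] at h1
    rw [h1, orderOf_one] at hs
    omega
  have hS2 : ∀ a ∈ S, a * a = 1 := fun a ha => Subtype.ext (involution_pair hs ha.1 ha.2).1
  have h15 := fifteen_dvd (K := C) hCs (y := y') (by rw [← Subgroup.orderOf_coe, hy', hy]) hN'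
    (hC'.trans hCy) S hSconj hS2 hSc
  have hcardS : Nat.card S = 20 := by
    rw [← hP]
    exact Nat.card_congr
      { toFun := fun a => ⟨a.1.1, a.2⟩
        invFun := fun a => ⟨⟨a.1, mem_centralizer_singleton_iff.mpr
          (involution_pair hs a.2.1 a.2.2).2⟩, a.2⟩
        left_inv := fun a => rfl
        right_inv := fun a => rfl }
  rw [hcardS] at h15
  omega

set_option maxHeartbeats 1000000 in
/-- (G1) With `|C(y)| = 10` and an odd pair `a, as`, the square of `f` is not conjugate to `s`. -/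
theorem not_isConj_sq (_hG : IsM12 G) (hy : orderOf y = 5) (hs : orderOf s = 2)
    (hcent : ∀ g ∈ normalizer ((zpowers y : Subgroup G) : Set G), Commute g s)
    (hN : Nat.card (normalizer ((zpowers y : Subgroup G) : Set G)) = 40)
    (hCs : Nat.card (centralizer ({s} : Set G)) = 240)
    (hCy : Nat.card (centralizer ({y} : Set G)) = 10)
    {f a : G} (hf : f ∈ normalizer ((zpowers y : Subgroup G) : Set G)) (hf4 : orderOf f = 4)
    (hfs : f * f ≠ s) (ha : IsConj s a) (has : IsConj s (a * s))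
    (φ : centralizer ({s} : Set G) →* ℂˣ)
    (hφs : ∀ h, φ ⟨s, h⟩ = 1) (hφa : ∀ h, φ ⟨a, h⟩ = -1) : ¬ IsConj s (f * f) := by
  intro hconj
  obtain ⟨y', hy', hle, hN', hC'⟩ := restrict_data hcent hN
  obtain ⟨g0, hg0⟩ := isConj_iff.mp hconj
  obtain ⟨ha2, hacomm⟩ := involution_pair hs ha has
  have hsC : s ∈ centralizer ({s} : Set G) := mem_centralizer_singleton_iff.mpr rfl
  have hgg : g0⁻¹ * f * g0 * (g0⁻¹ * f * g0) = s := by
    rw [show g0⁻¹ * f * g0 * (g0⁻¹ * f * g0) = g0⁻¹ * (f * f) * g0 by group, ← hg0]; group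
  have hgC : g0⁻¹ * f * g0 ∈ centralizer ({s} : Set G) := by
    rw [mem_centralizer_singleton_iff, ← hgg]; group
  have hf2 : f * f ≠ 1 := fun h => by
    have := orderOf_dvd_of_pow_eq_one ((pow_two f).trans h)
    rw [hf4] at this
    norm_num at this
  refine false_of_sq (K := ↥(centralizer ({s} : Set G))) hCs (y := y') (by rw [← Subgroup.orderOf_coe, hy', hy]) hN'
    (hC'.trans hCy) (s := ⟨s, hsC⟩) (f := ⟨f, hle hf⟩)
    (a := ⟨a, mem_centralizer_singleton_iff.mpr hacomm⟩) (g := ⟨_, hgC⟩)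
    (by rw [Subgroup.orderOf_mk, hs]) (fun k => Subtype.ext (mem_centralizer_singleton_iff.mp k.2))
    ?_ (Subtype.ext (by rw [Subgroup.coe_pow, Subgroup.coe_one, ← hf4, pow_orderOf_eq_one]))
    (fun h => hfs (congrArg Subtype.val h)) (fun h => hf2 (congrArg Subtype.val h))
    (Subtype.ext ha2) φ (hφs _) (hφa _) (Subtype.ext hgg)
  refine mem_normalizer_iff.mpr fun v => ?_
  have key : ∀ w : centralizer ({s} : Set G), w ∈ zpowers y' ↔ (w : G) ∈ zpowers y := fun w => by
    rw [mem_zpowers_iff, mem_zpowers_iff, ← hy']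
    exact exists_congr fun n => ⟨fun h => congrArg Subtype.val h, fun h => Subtype.ext h⟩
  rw [key, key]
  exact mem_normalizer_iff.mp hf (v : G)

end Translation

end Cfsg.Agent.Lib.Recog95040
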