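import Mathlib
import Cfsg.Agent.Lib.Recog95040.Averages
import Cfsg.Agent.Lib.Recog95040.CentralizerS
import Cfsg.Agent.Lib.Recog95040.Classify

/-!
The centralizer of `y` has order ten: the element of order four in the normalizer of `⟨y⟩`, the
linear characters of the centralizer of `s`, and the values at the involutions inverting `y`.
-/

set_option autoImplicit false
set_option linter.style.haveILetI false
set_option linter.unusedSectionVars false

namespace Cfsg.Agent.Lib.Recog95040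

open Cfsg Subgroup
open Cfsg.Agent.Lib.Chars Cfsg.Agent.Lib.SmallGroups
open scoped ComplexConjugate

universe u

variable {G : Type u} [Group G] [Fintype G]

/-- Translates of an element acting as the `r`-th power are conjugate to it. -/
theorem char_pow_mul (χ : IrrCharacter G) {y g : G} (hy : y ^ 5 = 1) {r : ℕ}
    (hg : g * y * g⁻¹ = y ^ r) (hr : r % 5 ≠ 1) (i : ℕ) :
    (χ : G → ℂ) (y ^ i * g) = (χ : G → ℂ) g := by
  have key : ∀ k : ℕ, y ^ k * g * (y ^ k)⁻¹ = y ^ k * (y ^ (r * k))⁻¹ * g := by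
    intro k
    have h1 : g * y ^ k * g⁻¹ = y ^ (r * k) := by rw [← conj_pow, hg, ← pow_mul]
    rw [← h1]
    group
  have hred : ∀ a b : ℕ, a % 5 = b % 5 → y ^ a = y ^ b := fun a b h => by
    rw [← Nat.mod_add_div a 5, ← Nat.mod_add_div b 5, pow_add, pow_add, pow_mul, pow_mul, hy,
      one_pow, one_pow, h]
  obtain ⟨k, hk⟩ : ∃ k : ℕ, (i + r * k) % 5 = k % 5 := by
    have : ∀ r i : Fin 5, r ≠ 1 → ∃ k : Fin 5, ((i : ℕ) + (r : ℕ) * k) % 5 = (k : ℕ) % 5 := by
      decide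
    obtain ⟨k, hk⟩ := this ⟨r % 5, Nat.mod_lt _ (by norm_num)⟩ ⟨i % 5, Nat.mod_lt _ (by norm_num)⟩
      (fun h => hr (congrArg Fin.val h))
    exact ⟨k, by simpa [Nat.add_mod, Nat.mul_mod] using hk⟩
  have h2 : y ^ i = y ^ k * (y ^ (r * k))⁻¹ := by
    rw [eq_mul_inv_iff_mul_eq, ← pow_add]
    exact hred _ _ hk
  rw [h2, ← key]
  exact irr_isClassFunction χ g (y ^ k)

namespace Pack

variable (P : Pack G)

/-- The case of a centralizer of order ten, with an element of order four. -/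
structure Four : Type u where
  f : G
  hC : Nat.card (centralizer ({P.s} : Set G)) = 240
  hy10 : Nat.card (centralizer ({P.y} : Set G)) = 10
  hfy : f * P.y * f⁻¹ = P.y ^ 2
  hf4 : orderOf f = 4
  one_class : IsConj P.s (f * f) ↔ ¬ IsConj P.s (f * f * P.s)

namespace Four

variable {P} (F : P.Four)

/-- The involution `f * f`. -/
def t : G := F.f * F.f

theorem f_mem : F.f ∈ normalizer ((zpowers P.y : Subgroup G) : Set G) := by
  rw [mem_normalizer_iff_map_conj_eq, MonoidHom.map_zpowers]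
  show zpowers (F.f * P.y * F.f⁻¹) = zpowers P.y
  rw [F.hfy]
  refine le_antisymm (zpowers_le.mpr (pow_mem (mem_zpowers P.y) 2)) (zpowers_le.mpr ?_)
  have := pow_mem (mem_zpowers (P.y ^ 2)) 3
  rwa [P.y_sq_cube] at this

theorem f_comm : Commute F.f P.s := P.hcent _ F.f_mem

theorem f_pow : F.f ^ 4 = 1 := orderOf_dvd_iff_pow_eq_one.mp (dvd_of_eq F.hf4)

theorem t_mul : F.t * F.t = 1 := by
  rw [t, ← F.f_pow, pow_succ, pow_succ, pow_succ, pow_one]
  group

theorem t_ne : F.t ≠ 1 := fun h => by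
  have := orderOf_dvd_of_pow_eq_one ((pow_two F.f).trans h)
  rw [F.hf4] at this
  norm_num at this

theorem orderOf_t : orderOf F.t = 2 := orderOf_eq_prime (by rw [pow_two]; exact F.t_mul) F.t_ne

theorem t_comm : Commute F.t P.s := F.f_comm.mul_left F.f_comm

theorem t_y : F.t * P.y * F.t⁻¹ = P.y ^ 4 := by
  calc F.t * P.y * F.t⁻¹ = F.f * (F.f * P.y * F.f⁻¹) * F.f⁻¹ := by rw [t]; group
    _ = P.y ^ 4 := by rw [F.hfy, ← conj_pow, F.hfy, ← pow_mul]

theorem t_ne_s : F.t ≠ P.s := fun h => by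
  have h1 := F.t_y
  rw [h, ← P.hys.eq, mul_inv_cancel_right] at h1
  have h3 : P.y ^ 3 = 1 := by
    have : P.y ^ 3 * P.y = 1 * P.y := by rw [← pow_succ, one_mul, ← h1]
    exact mul_right_cancel this
  have := orderOf_dvd_of_pow_eq_one h3
  rw [P.hy] at this
  norm_num at this

theorem orderOf_ts : orderOf (F.t * P.s) = 2 := by
  refine orderOf_eq_prime ?_ fun h => F.t_ne_s ?_
  · rw [F.t_comm.mul_pow, pow_two, pow_two, F.t_mul, P.s_mul, one_mul]
  · rw [eq_inv_of_mul_eq_one_left h]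
    exact inv_eq_of_mul_eq_one_right P.s_mul

theorem ts_y : F.t * P.s * P.y * (F.t * P.s)⁻¹ = P.y ^ 4 := by
  calc F.t * P.s * P.y * (F.t * P.s)⁻¹ = F.t * (P.s * P.y * P.s⁻¹) * F.t⁻¹ := by group
    _ = P.y ^ 4 := by rw [← P.hys.eq, mul_inv_cancel_right, F.t_y]

include F in
theorem centralizer_eq : centralizer ({P.y} : Set G) = zpowers (P.y * P.s) := by
  refine (Subgroup.eq_of_le_of_card_ge (zpowers_le.mpr ?_) (le_of_eq ?_)).symm
  · rw [mem_centralizer_singleton_iff]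
    exact ((Commute.refl P.y).mul_left P.hys.symm).eq
  · rw [F.hy10, Nat.card_zpowers, P.orderOf_ys]

/-- The elements of the normalizer. -/
theorem exists_decomp {g : G} (hg : g ∈ normalizer ((zpowers P.y : Subgroup G) : Set G)) :
    ∃ j < 4, g * (F.f ^ j)⁻¹ ∈ centralizer ({P.y} : Set G) := by
  have h1 : g * P.y * g⁻¹ ∈ zpowers P.y := (mem_normalizer_iff.mp hg _).mp (mem_zpowers _)
  classical
  rw [mem_zpowers_iff_mem_range_orderOf, P.hy] at h1
  simp only [Finset.mem_image, Finset.mem_range] at h1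
  obtain ⟨k, hk, hky⟩ := h1
  have hk0 : k ≠ 0 := by
    rintro rfl
    rw [pow_zero] at hky
    have h2 := P.hy
    rw [conj_eq_one_iff.mp hky.symm, orderOf_one] at h2
    norm_num at h2
  have hf : ∀ j : ℕ, F.f ^ j * P.y * (F.f ^ j)⁻¹ = P.y ^ (2 ^ j) := by
    intro j
    induction j with
    | zero => simp
    | succ j ih =>
      rw [pow_succ' F.f, pow_succ 2]
      calc F.f * F.f ^ j * P.y * (F.f * F.f ^ j)⁻¹
          = F.f * (F.f ^ j * P.y * (F.f ^ j)⁻¹) * F.f⁻¹ := by group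
        _ = _ := by rw [ih, ← conj_pow, F.hfy, ← pow_mul, mul_comm]
  obtain ⟨j, hj, hjk⟩ : ∃ j < 4, 2 ^ j % 5 = k := by
    interval_cases k
    · omega
    · exact ⟨0, by norm_num⟩
    · exact ⟨1, by norm_num⟩
    · exact ⟨3, by norm_num⟩
    · exact ⟨2, by norm_num⟩
  refine ⟨j, hj, mem_centralizer_singleton_iff.mpr ?_⟩
  have h2 : F.f ^ j * P.y * (F.f ^ j)⁻¹ = g * P.y * g⁻¹ := by
    rw [hf, ← hky, ← hjk]
    conv_lhs => rw [← Nat.mod_add_div (2 ^ j) 5, pow_add, pow_mul, P.y_pow, one_pow, mul_one]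
  have h3 : g * (F.f ^ j)⁻¹ * (g * P.y * g⁻¹) = g * P.y * g⁻¹ * (g * (F.f ^ j)⁻¹) := by
    nth_rewrite 1 [← h2]
    group
  have h4 : P.y = (g * P.y * g⁻¹) ^ (2 ^ (4 - j)) := by
    rw [← h2, hf, ← pow_mul, ← pow_add, show j + (4 - j) = 4 by omega,
      show 2 ^ 4 = 5 * 3 + 1 from rfl, pow_succ, pow_mul, P.y_pow, one_pow, one_mul]
  rw [h4]
  exact ((show Commute (g * (F.f ^ j)⁻¹) (g * P.y * g⁻¹) from h3).pow_right _).eq

/-- Linear characters of the centralizer of `s` killing `s`. -/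
theorem linear_facts (φ : centralizer ({P.s} : Set G) →* ℂˣ) (hs : ∀ h, φ ⟨P.s, h⟩ = 1) :
    (∀ h, φ ⟨F.t, h⟩ = 1) ∧
      ((∀ h, φ ⟨F.f, h⟩ = 1) → ∀ z, φ z = 1) ∧
      (∀ h, φ ⟨F.f, h⟩ = 1 ∨ φ ⟨F.f, h⟩ = -1) := by
  haveI : Fact (Nat.Prime 5) := ⟨by norm_num⟩
  obtain ⟨y', hy', hle, hN', hC'⟩ := restrict_data (s := P.s) (y := P.y) P.hcent P.hN
  have hyo : orderOf y' = 5 := by rw [← Subgroup.orderOf_coe, hy', P.hy]
  have hfC : F.f ∈ centralizer ({P.s} : Set G) := hle F.f_mem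
  have hsC : P.s ∈ centralizer ({P.s} : Set G) := mem_centralizer_singleton_iff.mpr rfl
  set f' : centralizer ({P.s} : Set G) := ⟨F.f, hfC⟩ with hf'
  have hy1 : φ y' = 1 := by
    have h1 : f' * y' * f'⁻¹ = y' ^ 2 := Subtype.ext (by simp [hf', hy', F.hfy])
    have h2 := congrArg φ h1
    rw [map_mul, map_mul, map_inv, mul_comm (φ f') (φ y'), mul_inv_cancel_right, map_pow,
      pow_two] at h2
    exact (mul_eq_left.mp h2.symm)
  have hCy : ∀ z : centralizer ({P.s} : Set G), (z : G) ∈ centralizer ({P.y} : Set G) →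
      φ z = 1 := by
    intro z hz
    rw [F.centralizer_eq] at hz
    obtain ⟨i, hi⟩ := hz
    have hz' : z = (y' * ⟨P.s, hsC⟩) ^ i := Subtype.ext (by rw [← hi]; simp [hy'])
    rw [hz', map_zpow, map_mul, hy1, hs, one_mul, one_zpow]
  have hN : ∀ z : centralizer ({P.s} : Set G),
      (z : G) ∈ normalizer ((zpowers P.y : Subgroup G) : Set G) → ∃ j < 4, φ z = φ f' ^ j := by
    intro z hz
    obtain ⟨j, hj, hj'⟩ := F.exists_decomp hz
    refine ⟨j, hj, ?_⟩
    have h1 := hCy (z * (f' ^ j)⁻¹) (by simpa [hf'] using hj')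
    rwa [map_mul, map_inv, map_pow, mul_inv_eq_one] at h1
  have hf4 : φ f' ^ 4 = 1 := by
    rw [← map_pow, show f' ^ 4 = 1 from Subtype.ext (by simpa [hf'] using F.f_pow), map_one]
  have hnorm : ∀ z : centralizer ({P.s} : Set G),
      z ∈ normalizer ((zpowers y' : Subgroup (centralizer ({P.s} : Set G))) : Set _) →
      (z : G) ∈ normalizer ((zpowers P.y : Subgroup G) : Set G) := by
    intro z hz
    rw [mem_normalizer_iff_map_conj_eq, MonoidHom.map_zpowers] at hz ⊢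
    have := congrArg (Subgroup.map (centralizer ({P.s} : Set G)).subtype) hz
    simpa [MonoidHom.map_zpowers, hy'] using this
  have hsq : φ f' ^ 2 = 1 := by
    by_contra hne
    refine false_of_normal (hK := F.hC) (hy := hyo) (hN := hN') ?_ (M := φ.ker)
      (MonoidHom.normal_ker φ) hy1 fun z hz => ?_
    · rw [hC', F.hy10]; norm_num
    obtain ⟨hzN, hzM⟩ := hz
    have hzM' : φ z = 1 := hzM
    obtain ⟨j, hj, hj'⟩ := F.exists_decomp (hnorm z hzN)
    obtain ⟨i, hi, hi'⟩ := hN z (hnorm z hzN)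
    have h1 := hCy (z * (f' ^ j)⁻¹) (by simpa [hf'] using hj')
    rw [map_mul, map_inv, map_pow, hzM', one_mul, inv_eq_one] at h1
    have hj0 : j = 0 := by
      interval_cases j
      · rfl
      · rw [pow_one] at h1; exact absurd (by rw [h1, one_pow]) hne
      · exact absurd h1 hne
      · rw [pow_succ, h1, one_mul] at hf4
        exact absurd (by rw [hf4, one_pow]) hne
    rw [hj0, pow_zero, inv_one, mul_one] at hj'
    rw [mem_centralizer_singleton_iff] at hj' ⊢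
    exact Subtype.ext (by simpa [hy'] using hj')
  refine ⟨fun h => ?_, fun hf1 z => ?_, fun h => ?_⟩
  · rw [show (⟨F.t, h⟩ : centralizer ({P.s} : Set G)) = f' ^ 2 from
      Subtype.ext (by simp [hf', t, pow_two]), map_pow, hsq]
  · obtain ⟨m, hm, hmz⟩ := exists_mul_mem_normalizer (K := centralizer ({P.s} : Set G)) (p := 5)
      (by rw [F.hC]; norm_num) hyo (M := φ.ker) hy1 (k := z)
      ((MonoidHom.normal_ker φ).conj_mem y' hy1 z)
    obtain ⟨j, -, hj⟩ := hN _ (hnorm _ hmz)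
    rw [map_mul, show φ m = 1 from hm, one_mul, hf1 hfC, one_pow] at hj
    exact hj
  · have h2 : ((φ f' : ℂˣ) : ℂ) ^ 2 = 1 := by rw [← Units.val_pow_eq_pow_val, hsq, Units.val_one]
    rcases sq_eq_one_iff.mp h2 with h3 | h3
    · exact Or.inl (Units.ext h3)
    · exact Or.inr (Units.ext (by simpa using h3))

theorem t_mem : F.t ∈ centralizer ({P.s} : Set G) := mem_centralizer_singleton_iff.mpr F.t_comm.eq

/-- The determinant on an eigenspace of `s` at an involution. -/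
theorem eigenDet_involution {n : ℕ} (ρ : Representation ℂ G (Fin n → ℂ)) {b : G}
    (hb : b * b = 1) (hbs : b * P.s = P.s * b) :
    ∃ k : ℕ, ρ.character b + ρ.character (b * P.s) = (n : ℂ) + ρ.character P.s - 4 * k ∧
      ∀ h, ((eigenDet ρ P.s P.s_mul 1 (one_mul 1) ⟨b, h⟩ : ℂˣ) : ℂ) = (-1 : ℂ) ^ k := by
  have h1 : eigenEnd ρ P.s 1 b * eigenEnd ρ P.s 1 b = 1 := by
    rw [eigenEnd_mul ρ P.s_mul (one_mul 1) hbs hbs, hb, eigenEnd, map_one, one_mul]
    match_scalars <;> norm_num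
  obtain ⟨k, -, htr, hdet⟩ := det_involution _ h1
  refine ⟨k, ?_, fun h => by rw [eigenDet_apply, ← hdet]⟩
  rw [trace_eigenEnd, one_mul, one_mul] at htr
  linear_combination 2 * htr

theorem eigenDet_s {n : ℕ} (ρ : Representation ℂ G (Fin n → ℂ)) (h : P.s ∈ centralizer ({P.s} : Set G)) :
    eigenDet ρ P.s P.s_mul 1 (one_mul 1) ⟨P.s, h⟩ = 1 := by
  apply Units.ext
  rw [eigenDet_apply, Units.val_one,
    show eigenEnd ρ P.s 1 P.s = 1 by
      rw [eigenEnd, P.s_mul, map_one]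
      match_scalars <;> norm_num, map_one]

/-- A row with an odd determinant shows that `t` is not conjugate to `s`. -/
theorem odd_row (χ : IrrCharacter G) {a : G} (ha : IsConj P.s a) (has : IsConj P.s (a * P.s))
    {d : ℕ} {z : ℤ} (hd : (χ : G → ℂ) 1 = d) (hz : (χ : G → ℂ) P.s = z)
    (hodd : ((d : ℤ) - z) % 8 = 4) : IsConj P.s (F.t * P.s) ∧
      ∀ (n : ℕ) (ρ : Representation ℂ G (Fin n → ℂ)), ρ.character = (χ : G → ℂ) →
        ∀ h, eigenDet ρ P.s P.s_mul 1 (one_mul 1) ⟨F.f, h⟩ = -1 := by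
  have hneg : ∀ (n : ℕ) (ρ : Representation ℂ G (Fin n → ℂ)), ρ.character = (χ : G → ℂ) →
      ∀ h, eigenDet ρ P.s P.s_mul 1 (one_mul 1) ⟨a, h⟩ = -1 := by
    intro n ρ hρ h
    obtain ⟨ha2, hac⟩ := involution_pair P.hs ha has
    obtain ⟨k, hk, hdet⟩ := eigenDet_involution (P := P) ρ ha2 hac
    have hn : (n : ℂ) = d := by
      rw [← hd, ← hρ, Representation.char_one, Module.finrank_fin_fun]
    have e1 : ρ.character a = (z : ℂ) := by
      rw [hρ, ← hz]
      exact (isClassFunction_apply_eq (irr_isClassFunction χ) ha).symm ▸ rfl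
    have e2 : ρ.character (a * P.s) = (z : ℂ) := by
      rw [hρ, ← hz]
      exact (isClassFunction_apply_eq (irr_isClassFunction χ) has).symm ▸ rfl
    rw [e1, e2, hn, hρ, hz] at hk
    have hk' : (z : ℤ) + z = (d : ℤ) + z - 4 * k := by exact_mod_cast hk
    apply Units.ext
    rw [hdet h, (Nat.odd_iff.mpr (by omega : k % 2 = 1)).neg_one_pow]
    simp
  refine ⟨?_, fun n ρ hρ h => ?_⟩
  · by_contra hc
    obtain ⟨n, ρ, -, hρ⟩ := χ.2
    exact not_isConj_sq P.hG P.hy P.hs P.hcent P.hN F.hC F.hy10 F.f_mem F.hf4 F.t_ne_s ha has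
      (eigenDet ρ P.s P.s_mul 1 (one_mul 1)) (eigenDet_s ρ) (hneg n ρ hρ)
      (F.one_class.mpr hc)
  · obtain ⟨-, h2, h3⟩ := F.linear_facts _ (eigenDet_s ρ)
    rcases h3 h with h4 | h4
    · exfalso
      have h5 := h2 (fun h' => h4) ⟨a, mem_centralizer_singleton_iff.mpr
        (involution_pair P.hs ha has).2⟩
      rw [hneg n ρ hρ] at h5
      have := congrArg Units.val h5
      norm_num at this
    · exact h4

end Four

/-- The element of order four. -/
theorem exists_four [Fact (Nat.Prime 5)] (hC : Nat.card (centralizer ({P.s} : Set G)) = 240)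
    (hI : Nat.card P.Inverting = 5)
    (hP : Nat.card {a : G // IsConj P.s a ∧ IsConj P.s (a * P.s)} = 20) : Nonempty P.Four := by
  classical
  have hy10 : Nat.card (centralizer ({P.y} : Set G)) = 10 := P.hCy.resolve_right fun h20 =>
    false_of_centralizer_twenty P.hG P.hy P.hs P.hcent P.hN hC h20 hP
  obtain ⟨g, hg⟩ := isConj_iff.mp (P.isConj_sq_iff.mpr hy10)
  set N := normalizer ((zpowers P.y : Subgroup G) : Set G) with hNdef
  have hgN : g ∈ N := by
    rw [hNdef, mem_normalizer_iff_map_conj_eq, MonoidHom.map_zpowers]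
    show zpowers (g * P.y * g⁻¹) = zpowers P.y
    rw [hg]
    refine le_antisymm (zpowers_le.mpr (pow_mem (mem_zpowers P.y) 2)) (zpowers_le.mpr ?_)
    have := pow_mem (mem_zpowers (P.y ^ 2)) 3
    rwa [P.y_sq_cube] at this
  have hgk : ∀ k : ℕ, g ^ k * P.y * (g ^ k)⁻¹ = P.y ^ (2 ^ k) := by
    intro k
    induction k with
    | zero => simp
    | succ k ih =>
      rw [pow_succ' g, pow_succ 2]
      calc g * g ^ k * P.y * (g * g ^ k)⁻¹ = g * (g ^ k * P.y * (g ^ k)⁻¹) * g⁻¹ := by group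
        _ = _ := by rw [ih, ← conj_pow, hg, ← pow_mul, mul_comm]
  obtain ⟨f, hf⟩ : ∃ f : G, f = g ^ 5 := ⟨_, rfl⟩
  have hfy : f * P.y * f⁻¹ = P.y ^ 2 := by
    rw [hf, hgk, show 2 ^ 5 = 5 * 6 + 2 from rfl, pow_add, pow_mul, P.y_pow, one_pow, one_mul]
  have hg40 : g ^ 40 = 1 := by
    have h1 := pow_card_eq_one' (x := (⟨g, hgN⟩ : N))
    rw [P.hN] at h1
    simpa [Subtype.ext_iff] using h1
  have hcy : centralizer ({P.y} : Set G) = zpowers (P.y * P.s) := by
    refine (Subgroup.eq_of_le_of_card_ge (zpowers_le.mpr ?_) (le_of_eq ?_)).symm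
    · rw [mem_centralizer_singleton_iff]
      exact ((Commute.refl P.y).mul_left P.hys.symm).eq
    · rw [hy10, Nat.card_zpowers, P.orderOf_ys]
  have hf4c : f ^ 4 ∈ zpowers (P.y * P.s) := by
    rw [← hcy, mem_centralizer_singleton_iff, hf, ← pow_mul, ← mul_inv_eq_iff_eq_mul, hgk,
      show 2 ^ (5 * 4) = 5 * 209715 + 1 from rfl, pow_succ, pow_mul, P.y_pow, one_pow, one_mul]
  have ht_y : f * f * P.y * (f * f)⁻¹ = P.y⁻¹ := by
    calc f * f * P.y * (f * f)⁻¹ = f * (f * P.y * f⁻¹) * f⁻¹ := by group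
      _ = P.y⁻¹ := by
        rw [hfy, ← conj_pow, hfy, ← pow_mul, eq_inv_iff_mul_eq_one, ← pow_succ, P.y_pow]
  have hfN : f ∈ N := by rw [hf]; exact pow_mem hgN 5
  have hfs : Commute f P.s := P.hcent f hfN
  -- elements inverting `y`
  have hinvert : ∀ a : G, a * P.y * a⁻¹ = P.y⁻¹ → ∃ (j : ℕ) (k : ℕ),
      a = f * f * (P.y ^ j * P.s ^ k) := by
    intro a ha
    have hc : (f * f)⁻¹ * a ∈ zpowers (P.y * P.s) := by
      rw [← hcy, mem_centralizer_singleton_iff, ← mul_inv_eq_iff_eq_mul]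
      calc (f * f)⁻¹ * a * P.y * ((f * f)⁻¹ * a)⁻¹
          = (f * f)⁻¹ * (a * P.y * a⁻¹) * (f * f) := by
            simp only [mul_inv_rev, inv_inv, mul_assoc]
        _ = P.y := by rw [ha, ← ht_y]; group
    rw [mem_zpowers_iff_mem_range_orderOf, P.orderOf_ys] at hc
    simp only [Finset.mem_image, Finset.mem_range] at hc
    obtain ⟨i, -, hi⟩ := hc
    refine ⟨i, i, ?_⟩
    rw [← P.hys.mul_pow, hi, mul_inv_cancel_left]
  obtain ⟨a₀, ha₀⟩ : P.Inverting.Nonempty := by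
    by_contra hemp
    rw [Set.not_nonempty_iff_eq_empty] at hemp
    rw [hemp] at hI
    simp at hI
  have hs_sq : ∀ k : ℕ, P.s ^ k * P.s ^ k = 1 := fun k => by
    rw [← (Commute.refl P.s).mul_pow k, P.s_mul, one_pow]
  have hsq : ∀ j k : ℕ, f * f * (P.y ^ j * P.s ^ k) * (f * f * (P.y ^ j * P.s ^ k)) = f ^ 4 := by
    intro j k
    have h1 : f * f * P.y ^ j * (f * f)⁻¹ = (P.y ^ j)⁻¹ := by
      rw [← conj_pow, ht_y, inv_pow]
    have h2 : Commute (f * f) (P.s ^ k) := (hfs.mul_left hfs).pow_right k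
    have h4 : f ^ 4 = f * f * (f * f) := by simp [pow_succ, mul_assoc]
    have hcm : f ^ 4 ∈ centralizer ({P.y} : Set G) := hcy ▸ hf4c
    have h3 : Commute (f ^ 4) (P.y ^ j) :=
      (show Commute (f ^ 4) P.y from mem_centralizer_singleton_iff.mp hcm).pow_right j
    have hBA : P.s ^ k * P.y ^ j = P.y ^ j * P.s ^ k := (P.hys.pow_pow j k).symm.eq
    have hA : f * f * P.y ^ j = (P.y ^ j)⁻¹ * (f * f) := mul_inv_eq_iff_eq_mul.mp h1
    calc f * f * (P.y ^ j * P.s ^ k) * (f * f * (P.y ^ j * P.s ^ k))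
        = f * f * P.y ^ j * (P.s ^ k * (f * f)) * (P.y ^ j * P.s ^ k) := by group
      _ = f * f * P.y ^ j * (f * f * P.s ^ k) * (P.y ^ j * P.s ^ k) := by rw [h2.eq]
      _ = (f * f * P.y ^ j) * (f * f) * (P.s ^ k * P.y ^ j) * P.s ^ k := by group
      _ = (P.y ^ j)⁻¹ * (f * f) * (f * f) * (P.y ^ j * P.s ^ k) * P.s ^ k := by rw [hA, hBA]
      _ = (P.y ^ j)⁻¹ * (f * f * (f * f)) * P.y ^ j * (P.s ^ k * P.s ^ k) := by group
      _ = f ^ 4 := by rw [hs_sq, mul_one, ← h4, mul_assoc, h3.eq, inv_mul_cancel_left]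
  have hf40 : f ^ 4 = 1 := by
    obtain ⟨j, k, hjk⟩ := hinvert a₀ ha₀.2
    rw [← hsq j k, ← hjk]
    exact P.mul_self_cls (P.mem_cls.mpr ha₀.1)
  have hf2 : f * f ≠ 1 := fun h => by
    rw [h, one_mul, inv_one, mul_one] at ht_y
    have h2 : P.y ^ 2 = 1 := by rw [pow_two]; nth_rewrite 1 [ht_y]; exact inv_mul_cancel _
    have := Nat.le_of_dvd two_pos (orderOf_dvd_of_pow_eq_one h2)
    rw [P.hy] at this
    omega
  have hord : orderOf f = 4 := by
    haveI : Fact (Nat.Prime 2) := ⟨Nat.prime_two⟩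
    refine orderOf_eq_prime_pow (p := 2) (n := 1) ?_ ?_
    · rw [pow_one, pow_two]; exact hf2
    · exact hf40
  -- conjugation by powers of `y`
  have hconj : ∀ (j : ℕ) (u : G), u * P.y * u⁻¹ = P.y⁻¹ → IsConj u (u * P.y ^ j) := by
    intro j u hu
    refine isConj_iff.mpr ⟨P.y ^ (2 * j), ?_⟩
    have h1 : u * P.y ^ (2 * j) * u⁻¹ = (P.y ^ (2 * j))⁻¹ := by rw [← conj_pow, hu, inv_pow]
    have h2 : P.y ^ (2 * j) * u = u * (P.y ^ (2 * j))⁻¹ := by
      have h3 : u * (P.y ^ (2 * j))⁻¹ * u⁻¹ = P.y ^ (2 * j) := by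
        rw [← conj_inv, h1, inv_inv]
      nth_rewrite 1 [← h3]
      group
    rw [h2, mul_assoc]
    congr 1
    rw [← mul_inv_rev, inv_eq_iff_mul_eq_one, ← pow_add, ← pow_add,
      show 2 * j + 2 * j + j = 5 * j by ring, pow_mul, P.y_pow, one_pow]
  have htsy : f * f * P.s * P.y * (f * f * P.s)⁻¹ = P.y⁻¹ := by
    calc f * f * P.s * P.y * (f * f * P.s)⁻¹ = f * f * (P.s * P.y * P.s⁻¹) * (f * f)⁻¹ := by group
      _ = P.y⁻¹ := by rw [← P.hys.eq, mul_inv_cancel_right, ht_y]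
  refine ⟨⟨f, hC, hy10, hfy, hord, fun h1 h2 => ?_, fun h2 => ?_⟩⟩
  · -- both: ten inverting elements
    let φ : Fin 5 × Fin 2 → P.Inverting := fun z =>
      ⟨f * f * P.s ^ (z.2 : ℕ) * P.y ^ (z.1 : ℕ), by
        have hu : f * f * P.s ^ (z.2 : ℕ) * P.y * (f * f * P.s ^ (z.2 : ℕ))⁻¹ = P.y⁻¹ ∧
            IsConj P.s (f * f * P.s ^ (z.2 : ℕ)) := by
          rcases z with ⟨i, k⟩
          fin_cases k
          · show f * f * P.s ^ 0 * P.y * (f * f * P.s ^ 0)⁻¹ = P.y⁻¹ ∧ IsConj P.s (f * f * P.s ^ 0)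
            rw [pow_zero, mul_one]
            exact ⟨ht_y, h1⟩
          · show f * f * P.s ^ 1 * P.y * (f * f * P.s ^ 1)⁻¹ = P.y⁻¹ ∧ IsConj P.s (f * f * P.s ^ 1)
            rw [pow_one]
            exact ⟨htsy, h2⟩
        refine ⟨hu.2.trans (hconj _ _ hu.1), ?_⟩
        calc _ = f * f * P.s ^ (z.2 : ℕ) * (P.y ^ (z.1 : ℕ) * P.y * (P.y ^ (z.1 : ℕ))⁻¹) *
              (f * f * P.s ^ (z.2 : ℕ))⁻¹ := by group
          _ = _ := by rw [← pow_succ, pow_succ', mul_inv_cancel_right]; exact hu.1⟩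
    have hφ : Function.Injective φ := by
      rintro ⟨i, k⟩ ⟨i', k'⟩ h
      have h' : P.s ^ (k : ℕ) * P.y ^ (i : ℕ) = P.s ^ (k' : ℕ) * P.y ^ (i' : ℕ) := by
        have := congrArg Subtype.val h
        simpa [φ, mul_assoc] using this
      have h6 : ∀ k : ℕ, (P.s ^ k) ^ 5 = P.s ^ k := fun k => by
        rw [← pow_mul, show k * 5 = k + 2 * (2 * k) by ring, pow_add, pow_mul, pow_two, P.s_mul,
          one_pow, mul_one]
      have h7 : ∀ i : ℕ, (P.y ^ i) ^ 5 = 1 := fun i => by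
        rw [← pow_mul, mul_comm, pow_mul, P.y_pow, one_pow]
      have h5 := congrArg (· ^ 5) h'
      simp only [(P.hys.symm.pow_pow (k : ℕ) (i : ℕ)).mul_pow,
        (P.hys.symm.pow_pow (k' : ℕ) (i' : ℕ)).mul_pow, h6, h7, mul_one] at h5
      have hk : (k : ℕ) = k' := by
        have h8 := pow_inj_mod.mp h5
        rwa [P.hs, Nat.mod_eq_of_lt k.2, Nat.mod_eq_of_lt k'.2] at h8
      rw [hk, mul_right_inj] at h'
      have hi := pow_inj_mod.mp h'
      rw [P.hy, Nat.mod_eq_of_lt i.2, Nat.mod_eq_of_lt i'.2] at hi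
      exact Prod.ext (Fin.ext hi) (Fin.ext hk)
    have := Nat.card_le_card_of_injective φ hφ
    rw [hI] at this
    simp at this
  · -- neither: none
    by_contra h1
    obtain ⟨j, k, hjk⟩ := hinvert a₀ ha₀.2
    have hk' : P.s ^ k = 1 ∨ P.s ^ k = P.s := by
      rcases Nat.even_or_odd' k with ⟨m, rfl | rfl⟩
      · left; rw [pow_mul, pow_two, P.s_mul, one_pow]
      · right; rw [pow_succ, pow_mul, pow_two, P.s_mul, one_pow, one_mul]
    rcases hk' with hk' | hk' <;> rw [hk'] at hjk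
    · rw [mul_one] at hjk
      exact h1 (ha₀.1.trans (hjk ▸ hconj j _ ht_y).symm)
    · rw [(P.hys.pow_left j).eq, ← mul_assoc] at hjk
      exact h2 (ha₀.1.trans (hjk ▸ hconj j _ htsy).symm)

end Pack

end Cfsg.Agent.Lib.Recog95040
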