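import Mathlib
import Cfsg.Agent.Lib.Recog95040.Four

/-!
The values at the involutions inverting `y` and their averages over small subgroups.
-/

set_option autoImplicit false
set_option linter.style.haveILetI false
set_option linter.unusedSectionVars false

namespace Cfsg.Agent.Lib.Recog95040

open Cfsg Subgroup
open Cfsg.Agent.Lib.Chars Cfsg.Agent.Lib.SmallGroups Cfsg.Agent.Lib.SmallGroups.PrimeChar
open scoped ComplexConjugate

universe u

variable {G : Type u} [Group G] [Fintype G]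

theorem conj_mem_zpowers {H : G} {g : G} (h : g * H * g⁻¹ ∈ zpowers H) :
    ∀ z ∈ zpowers H, g * z * g⁻¹ ∈ zpowers H := by
  rintro _ ⟨i, rfl⟩
  show g * H ^ i * g⁻¹ ∈ zpowers H
  rw [← conj_zpow]
  exact zpow_mem h i

namespace Pack.Four

variable {P : Pack G} (F : P.Four) [Fact (Nat.Prime 5)]

/-- The value at `t`. -/
noncomputable def tVal (χ : IrrCharacter G) : ℤ :=
  (exists_int_apply_involution χ F.orderOf_t).choose

theorem tVal_eq (χ : IrrCharacter G) : (χ : G → ℂ) F.t = F.tVal χ :=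
  (exists_int_apply_involution χ F.orderOf_t).choose_spec

theorem tVal_trivial : F.tVal (trivialIrr G) = 1 := by
  have h := F.tVal_eq (trivialIrr G)
  rw [trivialIrr_apply] at h
  exact_mod_cast h.symm

theorem tVal_conj (χ : IrrCharacter G) : F.tVal (irrConj χ) = F.tVal χ := by
  have h := F.tVal_eq (irrConj χ)
  rw [irrConj_apply, F.tVal_eq, map_intCast] at h
  exact_mod_cast h.symm

include F in
theorem val_y (χ : IrrCharacter G) : (χ : G → ℂ) (P.y ^ 2) = (χ : G → ℂ) P.y :=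
  (isClassFunction_apply_eq (irr_isClassFunction χ) (P.isConj_sq_iff.mpr F.hy10)).symm ▸ rfl

theorem val_translate_t (χ : IrrCharacter G) (i : ℕ) :
    (χ : G → ℂ) (P.y ^ i * F.t) = (χ : G → ℂ) F.t :=
  char_pow_mul χ P.y_pow F.t_y (by norm_num) i

theorem val_translate_ts (χ : IrrCharacter G) (i : ℕ) :
    (χ : G → ℂ) (P.y ^ i * (F.t * P.s)) = (χ : G → ℂ) (F.t * P.s) :=
  char_pow_mul χ P.y_pow F.ts_y (by norm_num) i

theorem val_coset_t (χ : IrrCharacter G) (i : ℕ) :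
    (χ : G → ℂ) ((P.y * P.s) ^ i * F.t) =
      if i % 2 = 0 then (χ : G → ℂ) F.t else (χ : G → ℂ) (F.t * P.s) := by
  rw [P.hys.mul_pow]
  rcases Nat.even_or_odd' i with ⟨m, rfl | rfl⟩
  · rw [if_pos (by omega), pow_mul P.s, pow_two, P.s_mul, one_pow, mul_one, F.val_translate_t]
  · rw [if_neg (by omega), pow_succ P.s, pow_mul P.s, pow_two, P.s_mul, one_pow, one_mul,
      mul_assoc, ← F.t_comm.eq, F.val_translate_ts]

theorem z_t : F.t * (P.y * P.s) * F.t⁻¹ = (P.y * P.s)⁻¹ := by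
  have h : P.y ^ 4 = P.y⁻¹ := by rw [eq_inv_iff_mul_eq_one, ← pow_succ]; exact P.y_pow
  calc F.t * (P.y * P.s) * F.t⁻¹ = F.t * P.y * F.t⁻¹ * (F.t * P.s * F.t⁻¹) := by group
    _ = P.y⁻¹ * P.s⁻¹ := by
      rw [F.t_y, h, F.t_comm.eq, mul_inv_cancel_right, inv_eq_of_mul_eq_one_right P.s_mul]
    _ = _ := by rw [mul_inv_rev, (P.hys.inv_inv).eq]

theorem t_sq_mem (H : Subgroup G) : F.t ^ 2 ∈ H := by
  rw [pow_two, F.t_mul]; exact one_mem H

theorem ts_sq_mem (H : Subgroup G) : (F.t * P.s) ^ 2 ∈ H := by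
  rw [orderOf_dvd_iff_pow_eq_one.mp (dvd_of_eq F.orderOf_ts)]; exact one_mem H

theorem norm_z : ∀ h ∈ zpowers (P.y * P.s), F.t * h * F.t⁻¹ ∈ zpowers (P.y * P.s) :=
  conj_mem_zpowers (by rw [F.z_t]; exact inv_mem (mem_zpowers _))

theorem norm_y : ∀ h ∈ zpowers P.y, F.t * h * F.t⁻¹ ∈ zpowers P.y :=
  conj_mem_zpowers (by rw [F.t_y]; exact pow_mem (mem_zpowers _) _)

theorem norm_y' : ∀ h ∈ zpowers P.y, F.t * P.s * h * (F.t * P.s)⁻¹ ∈ zpowers P.y :=
  conj_mem_zpowers (by rw [F.ts_y]; exact pow_mem (mem_zpowers _) _)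

theorem not_mem_of_inverting {u : G} (hu : u * P.y * u⁻¹ = P.y ^ 4) (H : G)
    (hH : Commute P.y H) : u ∉ zpowers H := by
  rintro ⟨i, hi⟩
  have h1 : Commute P.y u := hi ▸ hH.zpow_right i
  rw [← h1.eq, mul_inv_cancel_right] at hu
  have h3 : P.y ^ 3 = 1 := by
    have h : P.y ^ 3 * P.y = 1 * P.y := by rw [← pow_succ, one_mul, ← hu]
    exact mul_right_cancel h
  have := orderOf_dvd_of_pow_eq_one h3
  rw [P.hy] at this
  norm_num at this

/-- Restrictions on the value at `t` from averages over dihedral subgroups. -/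
theorem t_bounds (hts : IsConj P.s (F.t * P.s)) (χ : IrrCharacter G) :
    let p := (deg P.hG χ : ℤ) + P.sVal χ + 2 * fiveSum P.hG P.hy χ + 2 * P.wVal χ
    let q := (deg P.hG χ : ℤ) - P.sVal χ + 2 * fiveSum P.hG P.hy χ - 2 * P.wVal χ
    (p + 5 * F.tVal χ + 5 * P.sVal χ) % 20 = 0 ∧ (q + 5 * F.tVal χ - 5 * P.sVal χ) % 20 = 0 ∧
      0 ≤ p + 5 * F.tVal χ + 5 * P.sVal χ ∧ 0 ≤ p - 5 * F.tVal χ - 5 * P.sVal χ ∧
      0 ≤ q + 5 * F.tVal χ - 5 * P.sVal χ ∧ 0 ≤ q - 5 * F.tVal χ + 5 * P.sVal χ := by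
  classical
  intro p q
  set z := P.y * P.s with hz
  have hsv : (χ : G → ℂ) (F.t * P.s) = (P.sVal χ : ℂ) := by
    rw [← P.sVal_eq]
    exact (isClassFunction_apply_eq (irr_isClassFunction χ) hts).symm ▸ rfl
  have htfree : ∀ i, 0 < i → i < 2 → F.t ^ i ∉ zpowers z := by
    intro i h1 h2
    rw [show i = 1 by omega, pow_one]
    exact not_mem_of_inverting (P := P) F.t_y z ((Commute.refl P.y).mul_right P.hys)
  have hfy1 : ∀ i, 0 < i → i < 2 → F.t ^ i ∉ zpowers P.y := by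
    intro i h1 h2
    rw [show i = 1 by omega, pow_one]
    exact not_mem_of_inverting (P := P) F.t_y _ (Commute.refl P.y)
  have hfy2 : ∀ i, 0 < i → i < 2 → (F.t * P.s) ^ i ∉ zpowers P.y := by
    intro i h1 h2
    rw [show i = 1 by omega, pow_one]
    exact not_mem_of_inverting (P := P) F.ts_y _ (Commute.refl P.y)
  set K := extendBy (zpowers z) F.t 2 two_pos (F.t_sq_mem _) F.norm_z with hK
  set A := extendBy (zpowers P.y) F.t 2 two_pos (F.t_sq_mem _) F.norm_y with hA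
  set B := extendBy (zpowers P.y) (F.t * P.s) 2 two_pos (F.ts_sq_mem _) F.norm_y' with hB
  obtain ⟨cK, sK⟩ := sum_extendBy two_pos (F.t_sq_mem _) F.norm_z htfree
  obtain ⟨cA, sA⟩ := sum_extendBy two_pos (F.t_sq_mem _) F.norm_y hfy1
  obtain ⟨cB, sB⟩ := sum_extendBy two_pos (F.ts_sq_mem _) F.norm_y' hfy2
  have hzK : zpowers z ≤ K := le_extendBy _ _ _
  have hyz : zpowers P.y ≤ zpowers z := by
    rw [← F.centralizer_eq, zpowers_le, mem_centralizer_singleton_iff]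
  have hs_z : P.s ∈ zpowers z := by
    rw [← F.centralizer_eq, mem_centralizer_singleton_iff]
    exact P.hys.symm.eq
  have htK : F.t ∈ K := (mem_extendBy _ _ _).mpr ⟨1, one_mem _, 1, by norm_num, by simp⟩
  have hAK : A ≤ K := by
    intro v hv
    obtain ⟨h, hh, j, -, rfl⟩ := (mem_extendBy _ _ _).mp hv
    exact mul_mem (hzK (hyz hh)) (pow_mem htK j)
  have hBK : B ≤ K := by
    intro v hv
    obtain ⟨h, hh, j, -, rfl⟩ := (mem_extendBy _ _ _).mp hv
    exact mul_mem (hzK (hyz hh)) (pow_mem (mul_mem htK (hzK hs_z)) j)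
  have hz_sum : ∑ h : zpowers z, (χ : G → ℂ) h = (p : ℂ) := (P.tenSum_spec χ).2.2.1
  have hy_sum : ∑ h : zpowers P.y, (χ : G → ℂ) h =
      ((deg P.hG χ : ℤ) + 2 * fiveSum P.hG P.hy χ : ℤ) := (fiveSum_spec P.hG P.hy χ).2.1
  have hKsum : ∑ v : K, (χ : G → ℂ) v = (p : ℂ) + 5 * F.tVal χ + 5 * P.sVal χ := by
    rw [sK (χ : G → ℂ), show Finset.range 2 = {0, 1} from rfl, Finset.sum_pair zero_ne_one]
    simp only [pow_zero, mul_one, pow_one]
    rw [hz_sum, sum_zpowers z (fun g => (χ : G → ℂ) (g * F.t)), P.orderOf_ys]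
    simp only [Finset.sum_range_succ, Finset.sum_range_zero, hz, F.val_coset_t, F.tVal_eq, hsv]
    norm_num
    ring
  have hAsum : ∑ v : A, (χ : G → ℂ) v =
      ((deg P.hG χ : ℤ) + 2 * fiveSum P.hG P.hy χ : ℤ) + 5 * (F.tVal χ : ℂ) := by
    rw [sA (χ : G → ℂ), show Finset.range 2 = {0, 1} from rfl, Finset.sum_pair zero_ne_one]
    simp only [pow_zero, mul_one, pow_one]
    rw [hy_sum, sum_zpowers P.y (fun g => (χ : G → ℂ) (g * F.t)), P.hy]
    simp only [F.val_translate_t, F.tVal_eq, Finset.sum_const, Finset.card_range, nsmul_eq_mul]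
    norm_num
  have hBsum : ∑ v : B, (χ : G → ℂ) v =
      ((deg P.hG χ : ℤ) + 2 * fiveSum P.hG P.hy χ : ℤ) + 5 * (P.sVal χ : ℂ) := by
    rw [sB (χ : G → ℂ), show Finset.range 2 = {0, 1} from rfl, Finset.sum_pair zero_ne_one]
    simp only [pow_zero, mul_one, pow_one]
    rw [hy_sum, sum_zpowers P.y (fun g => (χ : G → ℂ) (g * (F.t * P.s))), P.hy]
    simp only [F.val_translate_ts, hsv, Finset.sum_const, Finset.card_range, nsmul_eq_mul]
    norm_num
  have nK : Nat.card K = 20 := by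
    rw [cK, Nat.card_zpowers, P.orderOf_ys]; norm_num
  have nA : Nat.card A = 10 := by
    rw [cA, Nat.card_zpowers, P.hy]; norm_num
  have nB : Nat.card B = 10 := by
    rw [cB, Nat.card_zpowers, P.hy]; norm_num
  obtain ⟨n1, h1⟩ := CharCount.exists_nat_sum_subgroup χ K
  rw [hKsum, nK] at h1
  obtain ⟨n2, h2⟩ := exists_nat_average_sub χ hzK
  rw [hKsum, nK, hz_sum, Nat.card_zpowers, P.orderOf_ys] at h2
  obtain ⟨n3, h3⟩ := exists_nat_average_sub χ hAK
  rw [hKsum, hAsum, nK, nA] at h3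
  obtain ⟨n4, h4⟩ := exists_nat_average_sub χ hBK
  rw [hKsum, hBsum, nK, nB] at h4
  have e1 : p + 5 * F.tVal χ + 5 * P.sVal χ = 20 * n1 := by
    apply Int.cast_injective (α := ℂ)
    push_cast at h1 ⊢
    linear_combination h1
  have e2 : p - 5 * F.tVal χ - 5 * P.sVal χ = 20 * n2 := by
    apply Int.cast_injective (α := ℂ)
    push_cast at h2 ⊢
    linear_combination (20 : ℂ) * h2
  have e3 : q + 5 * F.tVal χ - 5 * P.sVal χ = 20 * n3 := by
    apply Int.cast_injective (α := ℂ)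
    simp only [p, q] at h3 ⊢
    push_cast at h3 ⊢
    linear_combination (20 : ℂ) * h3
  have e4 : q - 5 * F.tVal χ + 5 * P.sVal χ = 20 * n4 := by
    apply Int.cast_injective (α := ℂ)
    simp only [p, q] at h4 ⊢
    push_cast at h4 ⊢
    linear_combination (20 : ℂ) * h4
  omega

/-- The value at `t` is congruent to the degree modulo eight. -/
theorem t_mod (hts : IsConj P.s (F.t * P.s)) (χ : IrrCharacter G) :
    (F.tVal χ - (deg P.hG χ : ℤ)) % 8 = 0 := by
  obtain ⟨n, ρ, -, hρ⟩ := χ.2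
  obtain ⟨k, hk, hdet⟩ := eigenDet_involution (P := P) ρ F.t_mul F.t_comm.eq
  have hn : (n : ℂ) = (deg P.hG χ : ℂ) := by
    rw [← (deg_spec P.hG χ).1, ← hρ, Representation.char_one, Module.finrank_fin_fun]
  have e2 : (χ : G → ℂ) (F.t * P.s) = (P.sVal χ : ℂ) := by
    rw [← P.sVal_eq]
    exact (isClassFunction_apply_eq (irr_isClassFunction χ) hts).symm ▸ rfl
  rw [hρ, e2, F.tVal_eq, P.sVal_eq, hn] at hk
  have hk' : F.tVal χ + P.sVal χ = (deg P.hG χ : ℤ) + P.sVal χ - 4 * k := by exact_mod_cast hk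
  have h1 := (F.linear_facts _ (eigenDet_s ρ)).1 F.t_mem
  have h2 := hdet F.t_mem
  rw [h1, Units.val_one] at h2
  have hev : k % 2 = 0 := by
    by_contra h
    rw [(Nat.odd_iff.mpr (by omega : k % 2 = 1)).neg_one_pow] at h2
    norm_num at h2
  omega

end Pack.Four

end Cfsg.Agent.Lib.Recog95040
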