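import Mathlib
import Cfsg.Agent.Lib.Recog95040.TVal

/-!
A subgroup of order 7920 as the stabilizer of a vector.
-/

set_option autoImplicit false
set_option linter.style.haveILetI false
set_option linter.unusedSectionVars false

namespace Cfsg.Agent.Lib.Recog95040

open Cfsg Subgroup
open Cfsg.Agent.Lib.Chars Cfsg.Agent.Lib.SmallGroups Cfsg.Agent.Lib.SmallGroups.PrimeChar
open scoped ComplexConjugate

universe u

/-- A group of order `660` with an element of order four has a subgroup of order `330`. -/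
theorem exists_card_330 {A : Type u} [Group A] [Finite A] (hA : Nat.card A = 660) {g : A}
    (hg : orderOf g = 4) : ∃ L : Subgroup A, Nat.card L = 330 := by
  classical
  cases nonempty_fintype A
  let ψ : A →* ℤˣ :=
    { toFun := fun h => Equiv.Perm.sign (Equiv.mulRight h)
      map_one' := by
        rw [show Equiv.mulRight (1 : A) = 1 from Equiv.ext fun z => mul_one z, map_one]
      map_mul' := fun a b => by
        rw [show Equiv.mulRight (a * b) = Equiv.mulRight b * Equiv.mulRight a from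
          Equiv.ext fun z => (mul_assoc z a b).symm, map_mul, mul_comm] }
  -- the element acts on each coset of its powers as a cycle of length four
  let g₀ : zpowers g := ⟨g, mem_zpowers g⟩
  let e : A ≃ (A ⧸ zpowers g) × zpowers g :=
    { toFun := fun z => ((z : A ⧸ zpowers g), ⟨((z : A ⧸ zpowers g).out)⁻¹ * z,
        QuotientGroup.eq.mp (QuotientGroup.out_eq' _)⟩)
      invFun := fun q => q.1.out * (q.2 : A)
      left_inv := fun z => mul_inv_cancel_left _ _
      right_inv := fun q => by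
        have hq : ((q.1.out * (q.2 : A) : A) : A ⧸ zpowers g) = q.1 := by
          rw [QuotientGroup.mk_mul_of_mem _ q.2.2, QuotientGroup.out_eq']
        refine Prod.ext hq (Subtype.ext ?_)
        show ((q.1.out * (q.2 : A) : A) : A ⧸ zpowers g).out⁻¹ * (q.1.out * (q.2 : A)) = _
        rw [hq, inv_mul_cancel_left] }
  have hcongr : e.permCongr (Equiv.mulRight g) =
      Equiv.prodCongrRight (fun _ : A ⧸ zpowers g => Equiv.mulRight g₀) := by
    refine Equiv.ext fun q => ?_
    rw [Equiv.permCongr_apply]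
    apply e.symm.injective
    rw [Equiv.symm_apply_apply]
    show q.1.out * (q.2 : A) * g = q.1.out * ((q.2 : A) * g)
    rw [mul_assoc]
  have hcz : Nat.card (zpowers g) = 4 := by rw [Nat.card_zpowers, hg]
  have hq : Fintype.card (A ⧸ zpowers g) = 165 := by
    have h := (zpowers g).card_mul_index
    rw [hcz, hA] at h
    rw [← Nat.card_eq_fintype_card, ← index_eq_card]
    omega
  have hτ : Equiv.Perm.sign (Equiv.mulRight g₀) = -1 := by
    let ε : Fin 4 ≃ zpowers g :=
      (finCongr hg.symm).trans (finEquivZPowers (isOfFinOrder_of_finite g))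
    have h : ε.symm.permCongr (Equiv.mulRight g₀) = finRotate 4 := by
      refine Equiv.ext fun i => ?_
      rw [Equiv.permCongr_apply, Equiv.symm_symm]
      apply ε.injective
      rw [Equiv.apply_symm_apply]
      refine Subtype.ext ?_
      show g ^ (i : ℕ) * g = g ^ ((finRotate 4 i : Fin 4) : ℕ)
      rw [← pow_succ, finRotate_succ_apply, Fin.val_add, Fin.val_one]
      conv_lhs => rw [← pow_mod_orderOf, hg]
    rw [← Equiv.Perm.sign_permCongr ε.symm, h, sign_finRotate]
    rfl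
  have hg' : ψ g = -1 := by
    show Equiv.Perm.sign (Equiv.mulRight g) = -1
    rw [← Equiv.Perm.sign_permCongr e, hcongr, Equiv.Perm.sign_prodCongrRight, Finset.prod_const,
      Finset.card_univ, hτ, hq]
    rfl
  refine ⟨ψ.ker, ?_⟩
  have hr : ψ.range = ⊤ := by
    rw [eq_top_iff]
    intro u _
    rcases Int.units_eq_one_or u with rfl | rfl
    · exact one_mem _
    · exact ⟨g, hg'⟩
  have h := ψ.ker.card_mul_index
  rw [index_ker, hr, Subgroup.card_top, Nat.card_eq_fintype_card (α := ℤˣ),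
    Fintype.card_units_int, hA] at h
  omega

variable {G : Type u} [Group G] [Fintype G]

theorem char_translate_eleven (χ : IrrCharacter G) {x g : G} (hx : orderOf x = 11)
    (hC : Nat.card (centralizer ({x} : Set G)) = 11)
    (hg : g ∈ normalizer ((zpowers x : Subgroup G) : Set G)) (hgx : g ∉ zpowers x)
    (z : zpowers x) : (χ : G → ℂ) ((z : G) * g) = (χ : G → ℂ) g := by
  haveI : Fact (Nat.Prime 11) := ⟨by norm_num⟩
  have hcx : Nat.card (zpowers x) = 11 := by rw [Nat.card_zpowers, hx]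
  have hCx : centralizer ({x} : Set G) = zpowers x :=
    (Subgroup.eq_of_le_of_card_ge (zpowers_le.mpr (mem_centralizer_singleton_iff.mpr rfl))
      (by rw [hC, hcx])).symm
  have hmem : ∀ c : zpowers x, (c : G) * g * (c : G)⁻¹ * g⁻¹ ∈ zpowers x := fun c => by
    have h1 : g * (c : G)⁻¹ * g⁻¹ ∈ zpowers x := (mem_normalizer_iff.mp hg _).mp (inv_mem c.2)
    simpa [mul_assoc] using mul_mem c.2 h1
  let φ : zpowers x → zpowers x := fun c => ⟨_, hmem c⟩
  have hφ : Function.Injective φ := by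
    intro c d h
    have h' : (c : G) * g * (c : G)⁻¹ * g⁻¹ = d * g * (d : G)⁻¹ * g⁻¹ := congrArg Subtype.val h
    rw [mul_left_inj] at h'
    have hcomm : (d : G)⁻¹ * c * g = g * ((d : G)⁻¹ * c) := by
      calc (d : G)⁻¹ * c * g = (d : G)⁻¹ * ((c : G) * g * (c : G)⁻¹) * c := by group
        _ = _ := by rw [h']; group
    have hdc : (d : G)⁻¹ * c ∈ zpowers x := mul_mem (inv_mem d.2) c.2
    by_contra hne
    have hne1 : (d : G)⁻¹ * c ≠ 1 := fun h1 => hne (Subtype.ext (inv_mul_eq_one.mp h1).symm)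
    apply hgx
    rw [← hCx, centralizer_eq_of_prime hcx (mem_zpowers x) (by rintro rfl; simp at hx),
      ← centralizer_eq_of_prime hcx hdc hne1, mem_centralizer_singleton_iff]
    exact hcomm.symm
  obtain ⟨c, hc⟩ := (Finite.injective_iff_surjective.mp hφ) z
  have hc' : (c : G) * g * (c : G)⁻¹ * g⁻¹ = z := congrArg Subtype.val hc
  rw [← hc', inv_mul_cancel_right]
  exact irr_isClassFunction χ g c

theorem exists_nat_trace {n : ℕ} {E : Module.End ℂ (Fin n → ℂ)} (h : IsIdempotentElem E) :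
    ∃ m : ℕ, LinearMap.trace ℂ _ E = m :=
  ⟨Module.finrank ℂ (LinearMap.range E),
    ((LinearMap.isProj_range_iff_isIdempotentElem _).mpr h).trace⟩

/-- The trace of an element normalizing `H` whose square acts trivially on the fixed space of `H`. -/
theorem trace_on_fixed {n : ℕ} (ρ : Representation ℂ G (Fin n → ℂ)) (H : Subgroup G) [Fintype H]
    {g : G} (hg : ∀ h ∈ H, g * h * g⁻¹ ∈ H) (hsq : ρ (g * g) * proj ρ H = proj ρ H) :
    (∃ m : ℕ, (2 : ℂ)⁻¹ * (LinearMap.trace ℂ _ (proj ρ H) +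
      LinearMap.trace ℂ _ (ρ g * proj ρ H)) = m) ∧
    ∃ m : ℕ, (2 : ℂ)⁻¹ * (LinearMap.trace ℂ _ (proj ρ H) -
      LinearMap.trace ℂ _ (ρ g * proj ρ H)) = m := by
  set P := proj ρ H with hP
  have hPP : P * P = P := (proj_mul_proj ρ H (le_refl H)).1
  have hcomm : P * ρ g = ρ g * P := by
    let φ : H → H := fun h => ⟨g * h * g⁻¹, hg h h.2⟩
    have hφ : Function.Bijective φ := Finite.injective_iff_bijective.mp fun a b h => by
      have h' : g * (a : G) * g⁻¹ = g * b * g⁻¹ := congrArg Subtype.val h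
      exact Subtype.ext (mul_left_cancel (mul_right_cancel h'))
    rw [hP, proj, smul_mul_assoc, mul_smul_comm, Finset.sum_mul, Finset.mul_sum]
    congr 1
    refine (Fintype.sum_equiv (Equiv.ofBijective φ hφ) _ _ fun h => ?_).symm
    show ρ g * ρ (h : G) = ρ (g * (h : G) * g⁻¹) * ρ g
    rw [← map_mul, ← map_mul, inv_mul_cancel_right]
  obtain ⟨R, hR⟩ : ∃ R, R = ρ g * P := ⟨_, rfl⟩
  rw [← hR]
  have hRR : R * R = P := by
    calc R * R = ρ g * (P * ρ g) * P := by simp only [hR, mul_assoc]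
      _ = ρ g * ρ g * (P * P) := by rw [hcomm]; simp only [mul_assoc]
      _ = P := by rw [hPP, ← map_mul, hsq]
  have hRP : R * P = R := by rw [hR, mul_assoc, hPP]
  have hPR : P * R = R := by rw [hR, ← mul_assoc, hcomm, mul_assoc, hPP]
  have e1 : IsIdempotentElem ((2 : ℂ)⁻¹ • (P + R)) := by
    show _ * _ = _
    rw [smul_mul_assoc, mul_smul_comm, smul_smul, mul_add, add_mul, add_mul, hPP, hRR, hRP, hPR]
    match_scalars <;> norm_num
  have e2 : IsIdempotentElem ((2 : ℂ)⁻¹ • (P - R)) := by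
    show _ * _ = _
    rw [smul_mul_assoc, mul_smul_comm, smul_smul, mul_sub, sub_mul, sub_mul, hPP, hRR, hRP, hPR]
    match_scalars <;> norm_num
  obtain ⟨m1, h1⟩ := exists_nat_trace e1
  obtain ⟨m2, h2⟩ := exists_nat_trace e2
  rw [map_smul, map_add, smul_eq_mul] at h1
  rw [map_smul, map_sub, smul_eq_mul] at h2
  exact ⟨⟨m1, h1⟩, m2, h2⟩

theorem eigenEnd_pair {n : ℕ} (ρ : Representation ℂ G (Fin n → ℂ)) {s g : G} (hs : s * s = 1)
    (hg : g * s = s * g) : eigenEnd ρ s 1 g * eigenEnd ρ s (-1) g = ρ g := by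
  have r1 : ρ g * ρ (g * s) = ρ (g * g * s) := by rw [← map_mul, mul_assoc]
  have r2 : ρ (g * s) * ρ g = ρ (g * g * s) := by
    rw [← map_mul]; congr 1; rw [mul_assoc, ← hg, ← mul_assoc]
  have r3 : ρ (g * s) * ρ (g * s) = ρ (g * g) := by
    rw [← map_mul]; congr 1
    rw [mul_assoc g s, ← mul_assoc s g s, ← hg, mul_assoc g s s, hs, mul_one]
  have r4 : ρ g * ρ s = ρ (g * s) := (map_mul ρ g s).symm
  have r5 : ρ s * ρ g = ρ (g * s) := by rw [← map_mul, hg]
  have r6 : ρ (g * s) * ρ s = ρ g := by rw [← map_mul, mul_assoc, hs, mul_one]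
  have r7 : ρ s * ρ (g * s) = ρ g := by rw [← map_mul, ← mul_assoc, ← hg, mul_assoc, hs, mul_one]
  have r8 : ρ s * ρ s = 1 := by rw [← map_mul, hs, map_one]
  have r9 : ρ g * ρ g = ρ (g * g) := (map_mul ρ g g).symm
  simp only [eigenEnd, smul_mul_assoc, mul_smul_comm, smul_smul, mul_add, add_mul, mul_sub, sub_mul,
    mul_one, one_mul, r1, r2, r3, r4, r5, r6, r7, r8, r9, smul_add, smul_sub]
  match_scalars <;> norm_num

namespace Pack.Four

variable {P : Pack G} (F : P.Four) [Fact (Nat.Prime 5)]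

/-- A subgroup of order 7920. -/
theorem exists_subgroup {x : G} (X : XCol x) (hx : orderOf x = 11)
    (hyN : P.y ∈ normalizer ((zpowers x : Subgroup G) : Set G)) {χ : IrrCharacter G}
    (hrow : P.row X χ = Cert.eleven) (hts : IsConj P.s (F.t * P.s))
    (hφ : ∀ (n : ℕ) (ρ : Representation ℂ G (Fin n → ℂ)), ρ.character = (χ : G → ℂ) →
      ∀ h, eigenDet ρ P.s P.s_mul 1 (one_mul 1) ⟨F.f, h⟩ = -1) :
    ∃ H : Subgroup G, Nat.card H = 7920 := by
  classical
  simp only [row, Cert.eleven, It.mk.injEq] at hrow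
  obtain ⟨hd, hu, -, ha, hw, hs⟩ := hrow
  have hne : χ ≠ trivialIrr G := by
    intro h
    rw [h, P.sVal_trivial] at hs
    norm_num at hs
  have hm : X.m χ = 1 := by
    have h := X.deg χ _ (deg_spec P.hG χ).1
    omega
  obtain ⟨b1, b2, b3, b4, b5, b6⟩ := F.t_bounds hts χ
  have b0 := F.t_mod hts χ
  have hT : F.tVal χ = 3 := by
    rw [hd, hs, ha, hw] at b1 b2 b3 b4 b5 b6
    rw [hd] at b0
    omega
  obtain ⟨n, ρ, hρirr, hρ⟩ := χ.2
  have hn : n = 11 := by
    have : (n : ℂ) = ((deg P.hG χ : ℕ) : ℂ) := by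
      rw [← (deg_spec P.hG χ).1, ← hρ, Representation.char_one, Module.finrank_fin_fun]
    have h2 : n = deg P.hG χ := by exact_mod_cast this
    omega
  subst hn
  have hvy : (χ : G → ℂ) P.y = 1 := by
    have h := P.aVal_eq χ
    rw [F.val_y, ha] at h
    push_cast at h
    linear_combination (1 / 2 : ℂ) * h
  have hts' : (χ : G → ℂ) (F.t * P.s) = -1 := by
    rw [show (χ : G → ℂ) (F.t * P.s) = (χ : G → ℂ) P.s from
      (isClassFunction_apply_eq (irr_isClassFunction χ) hts).symm ▸ rfl, P.sVal_eq, hs]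
    norm_num
  set Py := proj ρ (zpowers P.y) with hPy
  have hysum : ∑ h : zpowers P.y, (χ : G → ℂ) h = 15 := by
    rw [(fiveSum_spec P.hG P.hy χ).2.1, hd, ha]; norm_num
  have hty : LinearMap.trace ℂ _ Py = 3 := by
    rw [hPy, trace_proj, Nat.card_zpowers, P.hy, hρ, hysum]; norm_num
  -- the fixed space of `y` is fixed by `t`
  have htfree : ∀ i, 0 < i → i < 2 → F.t ^ i ∉ zpowers P.y := by
    intro i h1 h2
    rw [show i = 1 by omega, pow_one]
    exact not_mem_of_inverting (P := P) F.t_y _ (Commute.refl P.y)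
  set A := extendBy (zpowers P.y) F.t 2 two_pos (F.t_sq_mem _) F.norm_y with hA
  obtain ⟨cA, sA⟩ := sum_extendBy two_pos (F.t_sq_mem _) F.norm_y htfree
  have hAP : Py = proj ρ A := by
    refine proj_eq_of_sum_eq ρ _ (le_extendBy _ _ _) ?_
    rw [hρ, hysum, Nat.card_zpowers, P.hy, sA (χ : G → ℂ), cA,
      show Finset.range 2 = {0, 1} from rfl, Finset.sum_pair zero_ne_one]
    simp only [pow_zero, mul_one, pow_one]
    rw [hysum, sum_zpowers P.y (fun g => (χ : G → ℂ) (g * F.t)), P.hy]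
    simp only [F.val_translate_t, F.tVal_eq, hT, Finset.sum_const, Finset.card_range, nsmul_eq_mul,
      Nat.card_zpowers, P.hy]
    norm_num
  have htP : ρ F.t * Py = Py := by
    rw [hAP]
    exact mul_proj ρ A ((mem_extendBy _ _ _).mpr ⟨1, one_mem _, 1, by norm_num, by simp⟩)
  -- values at `f` and `f * s`
  have hsmall : ∀ g : G, g * g = F.t → g * P.y * g⁻¹ = P.y ^ 2 →
      ∃ a : ℤ, (χ : G → ℂ) g = a ∧ a % 2 = 1 ∧ -3 ≤ a ∧ a ≤ 3 := by
    intro g hgg hgy
    obtain ⟨⟨m1, h1⟩, m2, h2⟩ := trace_on_fixed ρ (zpowers P.y) (g := g)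
      (conj_mem_zpowers (by rw [hgy]; exact pow_mem (mem_zpowers _) _)) (by rw [hgg]; exact htP)
    have htr : LinearMap.trace ℂ _ (ρ g * Py) = (χ : G → ℂ) g := by
      rw [hPy, proj, mul_smul_comm, map_smul, Finset.mul_sum, map_sum, smul_eq_mul,
        Finset.sum_congr rfl fun (h : zpowers P.y) _ =>
          show LinearMap.trace ℂ _ (ρ g * ρ (h : G)) = (χ : G → ℂ) ((h : G) * g) by
            rw [← map_mul, ← hρ]
            show ρ.character (g * (h : G)) = ρ.character ((h : G) * g)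
            rw [hρ, ← irr_isClassFunction χ ((h : G) * g) g]
            congr 1
            group,
        Nat.card_zpowers, P.hy, sum_zpowers P.y (fun z => (χ : G → ℂ) (z * g)), P.hy]
      simp only [char_pow_mul χ P.y_pow hgy (by norm_num), Finset.sum_const, Finset.card_range,
        nsmul_eq_mul]
      push_cast; ring
    rw [← hPy, hty, htr] at h1 h2
    refine ⟨2 * (m1 : ℤ) - 3, by push_cast; linear_combination 2 * h1, by omega, by omega, ?_⟩
    have h3 : (m1 : ℤ) + m2 = 3 := by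
      apply Int.cast_injective (α := ℂ)
      push_cast
      linear_combination -h1 - h2
    omega
  have hfsy : F.f * P.s * P.y * (F.f * P.s)⁻¹ = P.y ^ 2 := by
    calc F.f * P.s * P.y * (F.f * P.s)⁻¹ = F.f * (P.s * P.y * P.s⁻¹) * F.f⁻¹ := by group
      _ = P.y ^ 2 := by rw [← P.hys.eq, mul_inv_cancel_right, F.hfy]
  have hfss : F.f * P.s * (F.f * P.s) = F.t := by
    calc F.f * P.s * (F.f * P.s) = F.f * (P.s * F.f) * P.s := by group
      _ = F.f * F.f * (P.s * P.s) := by rw [← F.f_comm.eq]; group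
      _ = F.t := by rw [P.s_mul, mul_one]; rfl
  obtain ⟨a, hfa, ha2, ha3, ha4⟩ := hsmall F.f rfl F.hfy
  obtain ⟨b, hfb, hb2, hb3, hb4⟩ := hsmall (F.f * P.s) hfss hfsy
  -- determinants
  have hfC : F.f ∈ centralizer ({P.s} : Set G) := mem_centralizer_singleton_iff.mpr F.f_comm.eq
  set Tp := eigenEnd ρ P.s 1 F.f with hTp
  set Tm := eigenEnd ρ P.s (-1) F.f with hTm
  have hdp : LinearMap.det Tp = -1 := by
    have h := hφ 11 ρ hρ hfC
    have h' := congrArg Units.val h
    rw [eigenDet_apply] at h'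
    rw [hTp, h']
    simp
  have hdm : LinearMap.det Tm = -1 := by
    have h := congrArg LinearMap.det (eigenEnd_pair ρ P.s_mul F.f_comm.eq)
    have h1 : LinearMap.det (ρ F.f) = 1 := by
      haveI := P.hG.1
      let φ : G →* ℂˣ := MonoidHom.toHomUnits
        { toFun := fun g => LinearMap.det (ρ g)
          map_one' := by simp
          map_mul' := fun a b => by simp }
      exact congrArg Units.val (hom_commGroup_eq_one (not_comm_of_isM12 P.hG) φ F.f)
    rw [map_mul, ← hTp, ← hTm, hdp, h1] at h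
    linear_combination -h
  have hpow : ∀ ε : ℂ, ε * ε = 1 →
      eigenEnd ρ P.s ε F.f * eigenEnd ρ P.s ε F.f = eigenEnd ρ P.s ε F.t ∧
      eigenEnd ρ P.s ε F.f ^ 4 = 1 := by
    intro ε hε
    have h2 : eigenEnd ρ P.s ε F.f * eigenEnd ρ P.s ε F.f = eigenEnd ρ P.s ε F.t :=
      eigenEnd_mul ρ P.s_mul hε F.f_comm.eq F.f_comm.eq
    refine ⟨h2, ?_⟩
    rw [show (4 : ℕ) = 2 * 2 from rfl, pow_mul, pow_two, pow_two, h2,
      eigenEnd_mul ρ P.s_mul hε F.t_comm.eq F.t_comm.eq, F.t_mul, eigenEnd, map_one, one_mul]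
    match_scalars <;> norm_num
  obtain ⟨z1, hz1⟩ : ∃ z : ℤ, a + b + 12 = 2 * z := ⟨(a + b + 12) / 2, by omega⟩
  obtain ⟨z2, hz2⟩ : ∃ z : ℤ, a - b + 10 = 2 * z := ⟨(a - b + 10) / 2, by omega⟩
  have e1 := det_order_four (hpow 1 (one_mul 1)).2 (z := z1) (by
      rw [trace_eigenEnd, hρ, P.sVal_eq, hs, hfa, hfb]
      have : ((a : ℂ) + b + 12) = 2 * (z1 : ℂ) := by exact_mod_cast hz1
      push_cast
      linear_combination (1 / 2 : ℂ) * this) (by
      rw [(hpow 1 (one_mul 1)).1, trace_eigenEnd, hρ, P.sVal_eq, hs, F.tVal_eq, hT, hts']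
      norm_num) hdp
  have e2 := det_order_four (hpow (-1) (by norm_num)).2 (z := z2) (by
      rw [trace_eigenEnd, hρ, P.sVal_eq, hs, hfa, hfb]
      have : ((a : ℂ) - b + 10) = 2 * (z2 : ℂ) := by exact_mod_cast hz2
      push_cast
      linear_combination (1 / 2 : ℂ) * this) (by
      rw [(hpow (-1) (by norm_num)).1, trace_eigenEnd, hρ, P.sVal_eq, hs, F.tVal_eq, hT, hts']
      norm_num) hdm
  obtain ⟨g, hgg, hgy, hg3⟩ : ∃ g : G, g * g = F.t ∧ g * P.y * g⁻¹ = P.y ^ 2 ∧
      (χ : G → ℂ) g = 3 := by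
    rcases (show a = 3 ∨ b = 3 by omega) with h | h
    · exact ⟨F.f, rfl, F.hfy, by rw [hfa, h]; norm_num⟩
    · exact ⟨F.f * P.s, hfss, hfsy, by rw [hfb, h]; norm_num⟩
  have hg4 : g ^ 4 = 1 := by
    rw [show (4 : ℕ) = 2 * 2 from rfl, pow_mul, pow_two g, hgg, pow_two, F.t_mul]
  have hgord : orderOf g = 4 := by
    haveI : Fact (Nat.Prime 2) := ⟨Nat.prime_two⟩
    refine orderOf_eq_prime_pow (p := 2) (n := 1) ?_ hg4
    rw [pow_one, pow_two, hgg]
    exact F.t_ne
  -- the fixed space of `y` is fixed by `g`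
  have hgk : ∀ j : ℕ, g ^ j * P.y * (g ^ j)⁻¹ = P.y ^ (2 ^ j) := by
    intro j
    induction j with
    | zero => simp
    | succ j ih =>
      rw [pow_succ' g, pow_succ 2]
      calc g * g ^ j * P.y * (g * g ^ j)⁻¹ = g * (g ^ j * P.y * (g ^ j)⁻¹) * g⁻¹ := by group
        _ = _ := by rw [ih, ← conj_pow, hgy, ← pow_mul, mul_comm]
  have hnotmem : ∀ i, 0 < i → i < 4 → g ^ i ∉ zpowers P.y := by
    intro i h1 h2 hmem
    obtain ⟨k, hk⟩ := hmem
    have hk' : Commute P.y (g ^ i) := hk ▸ (Commute.refl P.y).zpow_right k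
    have h3 := hgk i
    rw [← hk'.eq, mul_inv_cancel_right] at h3
    have h4 : P.y ^ 1 = P.y ^ (2 ^ i) := by rw [pow_one]; exact h3
    rw [pow_inj_mod, P.hy] at h4
    interval_cases i <;> norm_num at h4
  have hgy4 : g ^ 4 ∈ zpowers P.y := hg4 ▸ one_mem _
  have hnorm : ∀ h ∈ zpowers P.y, g * h * g⁻¹ ∈ zpowers P.y :=
    conj_mem_zpowers (by rw [hgy]; exact pow_mem (mem_zpowers _) _)
  set K := extendBy (zpowers P.y) g 4 (by norm_num) hgy4 hnorm with hK
  obtain ⟨cK, sK⟩ := sum_extendBy (by norm_num) hgy4 hnorm hnotmem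
  have hg3' : (χ : G → ℂ) (g ^ 3) = 3 := by
    rw [show g ^ 3 = g⁻¹ by rw [eq_inv_iff_mul_eq_one, ← pow_succ]; exact hg4, irr_inv, hg3,
      map_ofNat]
  have hKP : Py = proj ρ K := by
    refine proj_eq_of_sum_eq ρ _ (le_extendBy _ _ _) ?_
    rw [hρ, hysum, Nat.card_zpowers, P.hy, sK (χ : G → ℂ), cK]
    simp only [Finset.sum_range_succ, Finset.sum_range_zero, pow_zero, mul_one, zero_add, pow_one]
    rw [hysum, sum_zpowers P.y (fun z => (χ : G → ℂ) (z * g)),
      sum_zpowers P.y (fun z => (χ : G → ℂ) (z * g ^ 2)),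
      sum_zpowers P.y (fun z => (χ : G → ℂ) (z * g ^ 3)), P.hy]
    simp only [char_pow_mul χ P.y_pow hgy (by norm_num), char_pow_mul χ P.y_pow (hgk 2) (by norm_num),
      char_pow_mul χ P.y_pow (hgk 3) (by norm_num), Finset.sum_const, Finset.card_range,
      nsmul_eq_mul, hg3, hg3', pow_two g, hgg, F.val_translate_t, F.tVal_eq, hT, Nat.card_zpowers,
      P.hy]
    norm_num
  have hgP : ρ g * Py = Py := by
    rw [hKP]
    exact mul_proj ρ K ((mem_extendBy _ _ _).mpr ⟨1, one_mem _, 1, by norm_num, by simp⟩)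
  -- the vector fixed by the normalizer of `⟨x⟩`
  have hC := card_centralizer_eleven P.hG hx
  have hy5 : P.y ^ 5 ∈ zpowers x := P.y_pow ▸ one_mem _
  have hxnorm : ∀ h ∈ zpowers x, P.y * h * P.y⁻¹ ∈ zpowers x := fun h hh =>
    (mem_normalizer_iff.mp hyN h).mp hh
  have hyfree : ∀ i, 0 < i → i < 5 → P.y ^ i ∉ zpowers x := by
    intro i h1 h2 hmem
    have e1 : orderOf (P.y ^ i) ∣ 11 := by
      have h := Subgroup.orderOf_dvd_natCard _ hmem
      rwa [Nat.card_zpowers, hx] at h
    have e2 : orderOf (P.y ^ i) ∣ 5 := P.hy ▸ orderOf_pow_dvd i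
    have e3 : orderOf P.y ∣ i := orderOf_dvd_of_pow_eq_one
      (orderOf_eq_one_iff.mp (Nat.eq_one_of_dvd_coprimes (by norm_num) e1 e2))
    rw [P.hy] at e3
    omega
  set M := extendBy (zpowers x) P.y 5 (by norm_num) hy5 hxnorm with hM
  obtain ⟨cM, sM⟩ := sum_extendBy (by norm_num) hy5 hxnorm hyfree
  have hyr : ∀ i : ℕ, 0 < i → i < 5 →
      ∀ h : zpowers x, (χ : G → ℂ) ((h : G) * P.y ^ i) = (χ : G → ℂ) (P.y ^ i) := fun i h1 h2 =>
    char_translate_eleven χ hx hC (pow_mem hyN i) (hyfree i h1 h2)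
  have hy34 : (χ : G → ℂ) (P.y ^ 3) = 1 ∧ (χ : G → ℂ) (P.y ^ 4) = 1 := by
    have hinv : P.y ^ 4 = P.y⁻¹ := by rw [eq_inv_iff_mul_eq_one, ← pow_succ]; exact P.y_pow
    have hinv3 : P.y ^ 3 = (P.y ^ 2)⁻¹ := by
      rw [eq_inv_iff_mul_eq_one, ← pow_add]; exact P.y_pow
    rw [hinv3, hinv, irr_inv, irr_inv, F.val_y, hvy, map_one]
    exact ⟨rfl, rfl⟩
  have hMtr : LinearMap.trace ℂ _ (proj ρ M) = 1 := by
    rw [trace_proj, hρ, sM (χ : G → ℂ), cM, Nat.card_zpowers, hx]
    simp only [Finset.sum_range_succ, Finset.sum_range_zero, pow_zero, mul_one, zero_add]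
    rw [X.fix_sum χ, Finset.sum_congr rfl fun h _ => hyr 1 (by norm_num) (by norm_num) h,
      Finset.sum_congr rfl fun h _ => hyr 2 (by norm_num) (by norm_num) h,
      Finset.sum_congr rfl fun h _ => hyr 3 (by norm_num) (by norm_num) h,
      Finset.sum_congr rfl fun h _ => hyr 4 (by norm_num) (by norm_num) h]
    simp only [pow_one, F.val_y, hvy, hy34.1, hy34.2, hm, Finset.sum_const, Finset.card_univ,
      ← Nat.card_eq_fintype_card, Nat.card_zpowers, hx, nsmul_eq_mul]
    norm_num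
  obtain ⟨w, hw0⟩ : ∃ w, proj ρ M w ≠ 0 := by
    by_contra h
    push Not at h
    have h0 : proj ρ M = 0 := LinearMap.ext fun w => h w
    rw [h0, map_zero] at hMtr
    exact zero_ne_one hMtr
  set v := proj ρ M w with hv
  have hfix : ∀ h ∈ M, ρ h v = v := fun h hh => by
    rw [hv, ← Module.End.mul_apply, mul_proj ρ M hh]
  have hyv : Py v = v := by
    have hyM : zpowers P.y ≤ M :=
      zpowers_le.mpr ((mem_extendBy _ _ _).mpr ⟨1, one_mem _, 1, by norm_num, by simp⟩)
    rw [hv, ← Module.End.mul_apply, (proj_mul_proj ρ _ hyM).1]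
  have hgv : ρ g v = v := by
    conv_lhs => rw [← hyv]
    rw [← Module.End.mul_apply, hgP, hyv]
  -- the stabilizer
  let H : Subgroup G :=
    { carrier := {h | ρ h v = v}
      one_mem' := by
        show ρ 1 v = v
        rw [map_one]; rfl
      mul_mem' := fun {a b} ha hb => by
        show ρ (a * b) v = v
        rw [map_mul, Module.End.mul_apply, show ρ b v = v from hb, show ρ a v = v from ha]
      inv_mem' := fun {a} ha => by
        show ρ a⁻¹ v = v
        conv_lhs => rw [← show ρ a v = v from ha]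
        rw [← Module.End.mul_apply, ← map_mul, inv_mul_cancel, map_one]
        rfl }
  have hxH : x ∈ H := hfix x (le_extendBy _ _ _ (mem_zpowers x))
  have hgH : g ∈ H := hgv
  have h11 : 11 ∣ Nat.card H := hx ▸ Subgroup.orderOf_dvd_natCard H hxH
  have h4 : 4 ∣ Nat.card H := hgord ▸ Subgroup.orderOf_dvd_natCard H hgH
  have hproper : Nat.card H ≠ 95040 := by
    intro hH
    have htop := eq_top_of_card P.hG hH
    have hall : ∀ h : G, ρ h v = v := fun h => by
      have h' : h ∈ H := by rw [htop]; exact mem_top h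
      exact h'
    have hz : ∑ h : (⊤ : Subgroup G), (χ : G → ℂ) h = 0 := by
      rw [Fintype.sum_equiv Subgroup.topEquiv.toEquiv (fun h => (χ : G → ℂ) h)
        (fun g => (χ : G → ℂ) g) fun h => rfl]
      have h0 := classInner_irr χ (trivialIrr G)
      rw [if_neg hne, classInner] at h0
      simp only [trivialIrr_apply, map_one, mul_one, mul_eq_zero, inv_eq_zero] at h0
      exact h0.resolve_left natCard_ne_zero
    have h0 : proj ρ (⊤ : Subgroup G) = 0 := by
      refine LinearMap.IsIdempotentElem.eq_zero_of_trace_eq_zero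
        (proj_mul_proj ρ (⊤ : Subgroup G) le_rfl).1 ?_
      rw [trace_proj, hρ, hz, mul_zero]
    have h1 : proj ρ (⊤ : Subgroup G) v = v := by
      rw [proj, LinearMap.smul_apply, LinearMap.sum_apply,
        Finset.sum_congr rfl (fun (h : (⊤ : Subgroup G)) _ => hall (h : G)), Finset.sum_const, Finset.card_univ,
        ← Nat.card_eq_fintype_card, ← Nat.cast_smul_eq_nsmul ℂ, smul_smul,
        inv_mul_cancel₀ (Nat.cast_ne_zero.mpr Nat.card_pos.ne'), one_smul]
    rw [h0, LinearMap.zero_apply] at h1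
    exact hw0 h1.symm
  rcases card_subgroup_of_eleven_dvd P.hG H h11 with h | h | h | h | h
  · rw [h] at h4; norm_num at h4
  · rw [h] at h4; norm_num at h4
  · exfalso
    obtain ⟨L, hL⟩ := exists_card_330 h (g := (⟨g, hgH⟩ : H)) (by rw [Subgroup.orderOf_mk, hgord])
    have hLc : Nat.card (L.map H.subtype) = 330 := by
      rw [card_map_of_injective H.subtype_injective, hL]
    have := card_subgroup_of_eleven_dvd P.hG (L.map H.subtype) (by rw [hLc]; norm_num)
    omega
  · exact ⟨H, h⟩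
  · exact absurd h hproper

end Pack.Four

end Cfsg.Agent.Lib.Recog95040
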