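import Mathlib
import Cfsg.Agent.Lib.Recog7920.Iso
import Cfsg.Agent.Lib.Design.SmallWitt.Aut

/-!
A simple group of order 95040 with a subgroup of order 7920 is the automorphism group of a Steiner
system `S(5, 6, 12)` on the cosets of that subgroup; hence any two such groups are isomorphic.
-/

set_option autoImplicit false
set_option linter.style.haveILetI false

namespace Cfsg.Agent.Lib.Recog95040

open Cfsg MulAction
open scoped Pointwise
open Cfsg.Agent.Lib.Recog7920 (Sharp)

universe u w

/-! ### Transport of a sharp base along an equivariant bijection -/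

section transport

variable {H : Type u} [Group H] {X Y : Type w} [MulAction H X] [MulAction H Y]

/-- A sharp base moved along an equivariant bijection. -/
theorem nonempty_sharp_of_equiv (φ : X ≃ Y) (hφ : ∀ (g : H) x, φ (g • x) = g • φ x) (T : Sharp H X) :
    Nonempty (Sharp H Y) := by
  have fix : ∀ {g : H} {x y : X}, g • x = y → g • φ x = φ y := fun h => by rw [← hφ, h]
  have unfix : ∀ {g : H} {x y : X}, g • φ x = φ y → g • x = y := fun h =>
    φ.injective ((hφ _ _).trans h)
  refine ⟨⟨φ T.x₀, φ T.x₁, φ T.x₂, φ.injective.ne T.ne01, φ.injective.ne T.ne02, φ.injective.ne T.ne12,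
    T.z, T.hz, fix T.z0, fix T.z1, fix T.z2, ?_, ?_, ?_, ?_, ?_, ?_⟩⟩
  · intro a
    obtain ⟨a, rfl⟩ := φ.surjective a
    obtain ⟨g, hg⟩ := T.t1 a
    exact ⟨g, fix hg⟩
  · intro b hb
    obtain ⟨b, rfl⟩ := φ.surjective b
    obtain ⟨g, h0, h1⟩ := T.t2 b fun e => hb (congrArg φ e)
    exact ⟨g, fix h0, fix h1⟩
  · intro c hc hc'
    obtain ⟨c, rfl⟩ := φ.surjective c
    obtain ⟨g, h0, h1, h2⟩ := T.t3 c (fun e => hc (congrArg φ e)) fun e => hc' (congrArg φ e)
    exact ⟨g, fix h0, fix h1, fix h2⟩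
  · intro c d c0 c1 c2 d0 d1 d2
    obtain ⟨c, rfl⟩ := φ.surjective c
    obtain ⟨d, rfl⟩ := φ.surjective d
    obtain ⟨g, h0, h1, h2, h3⟩ := T.t4 c d (fun e => c0 (congrArg φ e)) (fun e => c1 (congrArg φ e))
      (fun e => c2 (congrArg φ e)) (fun e => d0 (congrArg φ e)) (fun e => d1 (congrArg φ e))
      (fun e => d2 (congrArg φ e))
    exact ⟨g, fix h0, fix h1, fix h2, fix h3⟩
  · exact fun g hg h0 h1 h2 => T.uniq g hg (unfix h0) (unfix h1) (unfix h2)
  · intro y y0 y1 y2
    obtain ⟨y, rfl⟩ := φ.surjective y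
    obtain ⟨z', hz', e0, e1, ey, e2⟩ := T.swap y (fun e => y0 (congrArg φ e))
      (fun e => y1 (congrArg φ e)) fun e => y2 (congrArg φ e)
    exact ⟨z', hz', fix e0, fix e1, fix ey, (fix e2).trans (hφ T.z y)⟩

end transport

/-! ### Index eleven subgroups of the group of order 7920 are point stabilisers -/

section degreeEleven

variable {H : Type u} [Group H] [Finite H] {O : Type w} [MulAction H O]

theorem exists_fixed_point [Finite O] (T : Sharp H O) (hH : Nat.card H = 7920)
    (hO : Nat.card O = 11) {K : Subgroup H} (hK : Nat.card K = 720) :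
    ∃ o : O, K ≤ stabilizer H o := by
  classical
  haveI := Fintype.ofFinite H
  haveI := Fintype.ofFinite O
  rw [Nat.card_eq_fintype_card] at hO
  -- no orbit has between two and five points
  have key : ∀ o : O, (orbit K o).ncard ≤ 5 → (orbit K o).ncard ≤ 1 := by
    intro o h5
    by_contra h1
    push Not at h1
    set Ω := orbit K o with hΩ
    obtain ⟨m, hm, hm4, hmΩ⟩ : ∃ m, m = min Ω.ncard 4 ∧ m ≤ 4 ∧ m ≤ Ω.ncard :=
      ⟨_, rfl, min_le_right _ _, min_le_left _ _⟩
    obtain ⟨s, hs, hsc⟩ := Finset.exists_subset_card_eq (s := Ω.toFinset) (n := m)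
      (by rwa [← Set.ncard_eq_toFinset_card'])
    obtain ⟨t, hst, -, htc⟩ := Finset.exists_subsuperset_card_eq (Finset.subset_univ s) (n := 4)
      (by omega) (by rw [Finset.card_univ, hO]; norm_num)
    let v : Fin 4 → O := fun i => ((Finset.equivFinOfCardEq htc).symm i).1
    have hv : Function.Injective v :=
      Subtype.val_injective.comp (Finset.equivFinOfCardEq htc).symm.injective
    have hrest : (t \ s).card = 4 - m := by rw [Finset.card_sdiff_of_subset hst, htc, hsc]
    let F : K → (↥s → ↥Ω) × (↥(t \ s) → O) := fun g =>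
      (fun a => ⟨g • a.1, mem_orbit_of_mem_orbit g (Set.mem_toFinset.1 (hs a.2))⟩,
        fun a => g • a.1)
    have hF : Function.Injective F := by
      intro g h e
      have e1 := congrArg Prod.fst e
      have e2 := congrArg Prod.snd e
      have hgt : ∀ a ∈ t, g • a = h • a := by
        intro a ha
        by_cases has : a ∈ s
        · exact congrArg Subtype.val (congrFun e1 ⟨a, has⟩)
        · exact congrFun e2 ⟨a, Finset.mem_sdiff.2 ⟨ha, has⟩⟩
      have h1 : ((h⁻¹ * g : K) : H) = 1 := T.eq_one_of_fix hH (by rw [Nat.card_eq_fintype_card, hO]) hv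
        fun i => by
          show (h⁻¹ * g) • v i = v i
          rw [mul_smul, hgt _ ((Finset.equivFinOfCardEq htc).symm i).2, inv_smul_smul]
      exact (inv_mul_eq_one.1 (Subtype.ext h1 : h⁻¹ * g = 1)).symm
    have hle := Nat.card_le_card_of_injective F hF
    rw [hK, Nat.card_prod, Nat.card_fun, Nat.card_fun, Nat.card_coe_set_eq,
      Nat.card_eq_fintype_card (α := O), hO, Nat.card_eq_finsetCard, Nat.card_eq_finsetCard, hsc,
      hrest, hm] at hle
    interval_cases h : Ω.ncard <;> norm_num at hle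
  have hlt : ∀ o : O, (orbit K o).ncard ≠ 11 := by
    intro o h
    have h11 : (orbit K o).ncard ∣ Nat.card K := by
      rw [← index_stabilizer]
      exact Subgroup.index_dvd_card _
    rw [h, hK] at h11
    norm_num at h11
  obtain ⟨o₁⟩ : Nonempty O := ⟨T.x₀⟩
  obtain ⟨o, ho⟩ : ∃ o : O, (orbit K o).ncard ≤ 5 := by
    by_cases h : (orbit K o₁).ncard ≤ 5
    · exact ⟨o₁, h⟩
    have hne : ∃ o₂, o₂ ∉ orbit K o₁ := by
      by_contra! hall
      refine hlt o₁ ?_
      rw [Set.eq_univ_of_forall hall, Set.ncard_univ, Nat.card_eq_fintype_card, hO]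
    obtain ⟨o₂, ho₂⟩ := hne
    refine ⟨o₂, ?_⟩
    have hdisj : Disjoint (orbit K o₁) (orbit K o₂) := Set.disjoint_left.2 fun x hx hx' =>
      ho₂ (orbit_eq_iff.1 ((orbit_eq_iff.2 hx').symm.trans (orbit_eq_iff.2 hx)))
    have := Set.ncard_union_eq hdisj (Set.toFinite _) (Set.toFinite _)
    have hle : (orbit K o₁ ∪ orbit K o₂).ncard ≤ 11 := by
      rw [← hO, ← Nat.card_eq_fintype_card, ← Set.ncard_univ]
      exact Set.ncard_le_ncard (Set.subset_univ _) (Set.toFinite _)
    omega
  refine ⟨o, fun g hg => ?_⟩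
  exact (Set.ncard_le_one_iff (Set.toFinite _)).1 (key o ho) (mem_orbit o (⟨g, hg⟩ : K)) (mem_orbit_self o)

/-- A transitive action of degree eleven of a group with a sharp base is that action. -/
theorem exists_equivariant [Finite O] (T : Sharp H O) (hH : Nat.card H = 7920)
    (hO : Nat.card O = 11) {Y : Type w} [MulAction H Y] [IsPretransitive H Y]
    (hY : Nat.card Y = 11) : ∃ φ : O ≃ Y, ∀ (g : H) o, φ (g • o) = g • φ o := by
  classical
  haveI : Finite Y := Nat.finite_of_card_ne_zero (by omega)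
  obtain ⟨y⟩ : Nonempty Y := (Nat.card_pos_iff.1 (by omega : 0 < Nat.card Y)).1
  have hcard : ∀ (Z : Type w) [MulAction H Z], ∀ z : Z, (orbit H z = Set.univ) → Nat.card Z = 11 →
      Nat.card (stabilizer H z) = 720 := by
    intro Z _ z hz hZ
    have h := (stabilizer H z).card_mul_index
    rw [index_stabilizer, hz, Set.ncard_univ, hZ, hH] at h
    omega
  have hK := hcard Y y (orbit_eq_univ H y) hY
  obtain ⟨o, ho⟩ := exists_fixed_point T hH hO hK
  have htr : orbit H o = Set.univ := Set.eq_univ_of_forall fun a => by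
    obtain ⟨g, hg⟩ := T.t1 o
    obtain ⟨g', hg'⟩ := T.t1 a
    exact ⟨g' * g⁻¹, by show (g' * g⁻¹) • o = a; rw [mul_smul, ← hg, inv_smul_smul, hg']⟩
  have heq : stabilizer H y = stabilizer H o :=
    Subgroup.eq_of_le_of_card_ge ho (by rw [hK, hcard O o htr hO])
  have hex : ∀ a : O, ∃ g : H, g • o = a := fun a => mem_orbit_iff.1 (htr ▸ Set.mem_univ a)
  choose f hf using hex
  have hiff : ∀ g g' : H, g • y = g' • y ↔ g • o = g' • o := by
    intro g g'
    rw [← inv_smul_eq_iff, ← inv_smul_eq_iff (a := g • o), ← mul_smul, ← mul_smul, ← mem_stabilizer_iff,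
      ← mem_stabilizer_iff, heq]
  refine ⟨Equiv.ofBijective (fun a => f a • y) ⟨fun a b h => ?_, fun b => ?_⟩, fun g a => ?_⟩
  · rw [← hf a, ← hf b]
    exact (hiff _ _).1 h
  · obtain ⟨g, hg⟩ := exists_smul_eq H y b
    refine ⟨g • o, ?_⟩
    rw [← hg]
    exact (hiff _ _).2 (hf _)
  · show f (g • a) • y = g • f a • y
    rw [← mul_smul]
    exact (hiff _ _).2 (by rw [hf, mul_smul, hf])

end degreeEleven

/-! ### The action on twelve points -/

variable {G : Type u} [Group G] {X : Type u} [MulAction G X]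

/-- The points different from `x₀`. -/
def Rest (G : Type u) [Group G] [MulAction G X] (x₀ : X) : Type u := {y : X // y ≠ x₀}

instance (x₀ : X) : MulAction (stabilizer G x₀) (Rest G x₀) where
  smul g y := ⟨(g : G) • y.1, fun h => y.2 (smul_left_cancel (g : G) (h.trans g.2.symm))⟩
  one_smul y := Subtype.ext (one_smul G y.1)
  mul_smul g h y := Subtype.ext (mul_smul (g : G) (h : G) y.1)

/-- A point different from `x₀`. -/
def Rest.mk {x₀ : X} (x : X) (hx : x ≠ x₀) : Rest G x₀ := ⟨x, hx⟩

instance [Finite X] (x₀ : X) : Finite (Rest G x₀) := inferInstanceAs (Finite {y : X // y ≠ x₀})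

/-- A transitive action with a sharply four-transitive point stabiliser. -/
structure Sharp12 (G : Type u) (X : Type u) [Group G] [MulAction G X] where
  x₀ : X
  trans : ∀ a : X, ∃ g : G, g • x₀ = a
  T : Sharp (stabilizer G x₀) (Rest G x₀)
  cardG : Nat.card (stabilizer G x₀) = 7920
  cardX : Nat.card X = 12

namespace Sharp12

variable (S : Sharp12 G X)

theorem orderOf_conj (g u : G) : orderOf (g * u * g⁻¹) = orderOf u := Sharp.orderOf_conj g u

include S in
theorem inv_unique {a b c d : X} (hab : a ≠ b) (hac : a ≠ c) (had : a ≠ d) (hbc : b ≠ c)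
    (hbd : b ≠ d) (hcd : c ≠ d) {u u' : G} (hu : orderOf u = 2) (hu' : orderOf u' = 2)
    (ha : u • a = a) (hb : u • b = b) (hc : u • c = c) (hd : u • d = d)
    (ha' : u' • a = a) (hb' : u' • b = b) (hc' : u' • c = c) (hd' : u' • d = d) : u = u' := by
  obtain ⟨g, rfl⟩ := S.trans a
  obtain ⟨b, rfl⟩ := MulAction.surjective g b
  obtain ⟨c, rfl⟩ := MulAction.surjective g c
  obtain ⟨d, rfl⟩ := MulAction.surjective g d
  have mem : ∀ {v : G}, v • g • S.x₀ = g • S.x₀ → g⁻¹ * v * g ∈ stabilizer G S.x₀ := fun h =>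
    mem_stabilizer_iff.2 (Sharp.conj_inv_fix h)
  have ord : ∀ {v : G} (h : v • g • S.x₀ = g • S.x₀), orderOf v = 2 →
      orderOf (⟨g⁻¹ * v * g, mem h⟩ : stabilizer G S.x₀) = 2 := by
    intro v h hv
    rw [← Subgroup.orderOf_coe]
    simpa using (orderOf_conj g⁻¹ v).trans hv
  have hne : ∀ {x : X}, g • S.x₀ ≠ g • x → x ≠ S.x₀ := fun h e => h (by rw [e])
  have hne' : ∀ {x y : X}, g • x ≠ g • y → x ≠ y := fun h e => h (by rw [e])
  have fixr : ∀ {v : G} (h : v • g • S.x₀ = g • S.x₀) {x : X} (hx : x ≠ S.x₀),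
      v • g • x = g • x → (⟨g⁻¹ * v * g, mem h⟩ : stabilizer G S.x₀) • Rest.mk (G := G) x hx = Rest.mk (G := G) x hx :=
    by
      intro v h x hx hv
      have e : (g⁻¹ * v * g) • x = x := Sharp.conj_inv_fix hv
      unfold Rest.mk
      exact Subtype.ext e
  have key := S.T.inv_unique (a := ⟨b, hne hab⟩) (b := ⟨c, hne hac⟩) (c := ⟨d, hne had⟩)
    (fun e => hne' hbc (congrArg Subtype.val e)) (fun e => hne' hbd (congrArg Subtype.val e))
    (fun e => hne' hcd (congrArg Subtype.val e)) (ord ha hu) (ord ha' hu')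
    (fixr ha _ hb) (fixr ha _ hc) (fixr ha _ hd) (fixr ha' _ hb') (fixr ha' _ hc') (fixr ha' _ hd')
  have := congrArg Subtype.val key
  exact mul_left_cancel (mul_right_cancel this)

include S in
theorem exists_inv {a b c d : X} (hab : a ≠ b) (hac : a ≠ c) (had : a ≠ d) (hbc : b ≠ c)
    (hbd : b ≠ d) (hcd : c ≠ d) :
    ∃ u : G, orderOf u = 2 ∧ u • a = a ∧ u • b = b ∧ u • c = c ∧ u • d = d := by
  obtain ⟨g, rfl⟩ := S.trans a
  obtain ⟨b, rfl⟩ := MulAction.surjective g b
  obtain ⟨c, rfl⟩ := MulAction.surjective g c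
  obtain ⟨d, rfl⟩ := MulAction.surjective g d
  have hne : ∀ {x : X}, g • S.x₀ ≠ g • x → x ≠ S.x₀ := fun h e => h (by rw [e])
  have hne' : ∀ {x y : X}, g • x ≠ g • y → x ≠ y := fun h e => h (by rw [e])
  obtain ⟨u, hu, hb, hc, hd⟩ := S.T.exists_inv (a := ⟨b, hne hab⟩) (b := ⟨c, hne hac⟩)
    (c := ⟨d, hne had⟩) (fun e => hne' hbc (congrArg Subtype.val e))
    (fun e => hne' hbd (congrArg Subtype.val e)) (fun e => hne' hcd (congrArg Subtype.val e))
  rw [← Subgroup.orderOf_coe] at hu
  exact ⟨g * u * g⁻¹, (orderOf_conj g _).trans hu, Sharp.conj_fix u.2,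
    Sharp.conj_fix (congrArg Subtype.val hb), Sharp.conj_fix (congrArg Subtype.val hc),
    Sharp.conj_fix (congrArg Subtype.val hd)⟩

include S in
theorem swap_inv {a b c x y : X} (hab : a ≠ b) (hac : a ≠ c) (hax : a ≠ x) (hbc : b ≠ c)
    (hbx : b ≠ x) (hcx : c ≠ x) (hya : y ≠ a) (hyb : y ≠ b) (hyc : y ≠ c) (hyx : y ≠ x) {u : G}
    (hu : orderOf u = 2) (ha : u • a = a) (hb : u • b = b) (hc : u • c = c) (hx : u • x = x) :
    ∃ u' : G, orderOf u' = 2 ∧ u' • a = a ∧ u' • b = b ∧ u' • c = c ∧ u' • y = y ∧ u' • x = u • y := by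
  obtain ⟨g, rfl⟩ := S.trans a
  obtain ⟨b, rfl⟩ := MulAction.surjective g b
  obtain ⟨c, rfl⟩ := MulAction.surjective g c
  obtain ⟨x, rfl⟩ := MulAction.surjective g x
  obtain ⟨y, rfl⟩ := MulAction.surjective g y
  have hne : ∀ {v : X}, g • S.x₀ ≠ g • v → v ≠ S.x₀ := fun h e => h (by rw [e])
  have hne' : ∀ {v v' : X}, g • v ≠ g • v' → v ≠ v' := fun h e => h (by rw [e])
  set u₀ : stabilizer G S.x₀ := ⟨g⁻¹ * u * g, mem_stabilizer_iff.2 (Sharp.conj_inv_fix ha)⟩ with hu₀
  have ho : orderOf u₀ = 2 := by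
    rw [← Subgroup.orderOf_coe]
    simpa [hu₀] using (orderOf_conj g⁻¹ u).trans hu
  obtain ⟨w, hw, wb, wc, wy, wx⟩ := S.T.swap_inv (a := ⟨b, hne hab⟩) (b := ⟨c, hne hac⟩)
    (x := ⟨x, hne hax⟩) (y := ⟨y, fun e => hya (by rw [e])⟩)
    (fun e => hne' hbc (congrArg Subtype.val e)) (fun e => hne' hbx (congrArg Subtype.val e))
    (fun e => hne' hcx (congrArg Subtype.val e)) (fun e => hne' hyb (congrArg Subtype.val e))
    (fun e => hne' hyc (congrArg Subtype.val e)) (fun e => hne' hyx (congrArg Subtype.val e))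
    ho (Subtype.ext (Sharp.conj_inv_fix hb)) (Subtype.ext (Sharp.conj_inv_fix hc))
    (Subtype.ext (Sharp.conj_inv_fix hx))
  rw [← Subgroup.orderOf_coe] at hw
  refine ⟨g * w * g⁻¹, (orderOf_conj g _).trans hw, Sharp.conj_fix w.2,
    Sharp.conj_fix (congrArg Subtype.val wb), Sharp.conj_fix (congrArg Subtype.val wc),
    Sharp.conj_fix (congrArg Subtype.val wy), ?_⟩
  have e : (w : G) • x = (g⁻¹ * u * g) • y := congrArg Subtype.val wx
  rw [Sharp.conj_fix e, mul_smul, mul_smul, smul_inv_smul]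

variable [Finite G] [Finite X]

theorem card_rest : Nat.card (Rest G S.x₀) = 11 := by
  classical
  haveI := Fintype.ofFinite X
  have h12 := S.cardX
  rw [Nat.card_eq_fintype_card] at h12
  show Nat.card {y : X // y ≠ S.x₀} = 11
  rw [Nat.card_eq_fintype_card, Fintype.card_subtype, Finset.filter_ne', Finset.card_erase_of_mem
    (Finset.mem_univ _), Finset.card_univ, h12]

include S in
theorem eq_one_of_fix {g : G} {v : Fin 5 → X} (hv : Function.Injective v)
    (h : ∀ i, g • v i = v i) : g = 1 := by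
  obtain ⟨c, hc⟩ := S.trans (v 0)
  have hne : ∀ i : Fin 4, c⁻¹ • v i.succ ≠ S.x₀ := fun i e =>
    Fin.succ_ne_zero i (hv (by rw [← hc, ← e, smul_inv_smul]))
  have hmem : c⁻¹ * g * c ∈ stabilizer G S.x₀ :=
    mem_stabilizer_iff.2 (Sharp.conj_inv_fix (by rw [hc]; exact h 0))
  have h1 := S.T.eq_one_of_fix S.cardG S.card_rest
    (g := ⟨c⁻¹ * g * c, hmem⟩) (v := fun i => ⟨c⁻¹ • v i.succ, hne i⟩)
    (fun i j e => Fin.succ_injective _ (hv (MulAction.injective c⁻¹ (congrArg Subtype.val e))))
    fun i => Subtype.ext (Sharp.conj_inv_fix (by rw [smul_inv_smul]; exact h _))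
  have := congrArg Subtype.val h1
  calc g = c * (c⁻¹ * g * c) * c⁻¹ := by group
    _ = 1 := by rw [show c⁻¹ * g * c = 1 from this]; group

end Sharp12

/-- Six points of a block, in some order. -/
def Rel6 (G : Type u) {X : Type u} [Group G] [MulAction G X] (v : Fin 6 → X) : Prop :=
  Function.Injective v ∧ ∃ u : G, orderOf u = 2 ∧ u • v 0 = v 0 ∧ u • v 1 = v 1 ∧ u • v 2 = v 2 ∧
    u • v 3 = v 3 ∧ u • v 4 = v 5

theorem rel6_perm (S : Sharp12 G X) {v : Fin 6 → X} (hv : Rel6 G v) (σ : Equiv.Perm (Fin 6)) :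
    Rel6 G (v ∘ σ) := by
  have hσ : σ ∈ Submonoid.closure (Set.range fun i : Fin 5 ↦ Equiv.swap i.castSucc i.succ) := by
    rw [Equiv.Perm.mclosure_swap_castSucc_succ]; trivial
  induction hσ using Submonoid.closure_induction generalizing v with
  | one => exact hv
  | mul a b _ _ ha hb => exact hb (ha hv)
  | mem x hx =>
    obtain ⟨i, rfl⟩ := hx
    obtain ⟨hinj, u, hu, h0, h1, h2, h3, h4⟩ := hv
    have hne : ∀ a b : Fin 6, a ≠ b → v a ≠ v b := fun a b hab e => hab (hinj e)
    refine ⟨hinj.comp (Equiv.injective _), ?_⟩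
    fin_cases i
    · exact ⟨u, hu, by simpa using h1, by simpa using h0, by simpa [Equiv.swap_apply_def] using h2,
        by simpa [Equiv.swap_apply_def] using h3, by simpa [Equiv.swap_apply_def] using h4⟩
    · exact ⟨u, hu, by simpa [Equiv.swap_apply_def] using h0, by simpa [Equiv.swap_apply_def] using h2,
        by simpa [Equiv.swap_apply_def] using h1, by simpa [Equiv.swap_apply_def] using h3,
        by simpa [Equiv.swap_apply_def] using h4⟩
    · exact ⟨u, hu, by simpa [Equiv.swap_apply_def] using h0, by simpa [Equiv.swap_apply_def] using h1,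
        by simpa [Equiv.swap_apply_def] using h3, by simpa [Equiv.swap_apply_def] using h2,
        by simpa [Equiv.swap_apply_def] using h4⟩
    · obtain ⟨u', hu', e0, e1, e2, e4, e3⟩ := S.swap_inv (hne 0 1 (by decide)) (hne 0 2 (by decide))
        (hne 0 3 (by decide)) (hne 1 2 (by decide)) (hne 1 3 (by decide)) (hne 2 3 (by decide))
        (hne 4 0 (by decide)) (hne 4 1 (by decide)) (hne 4 2 (by decide)) (hne 4 3 (by decide))
        hu h0 h1 h2 h3
      exact ⟨u', hu', by simpa [Equiv.swap_apply_def] using e0,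
        by simpa [Equiv.swap_apply_def] using e1, by simpa [Equiv.swap_apply_def] using e2,
        by simpa [Equiv.swap_apply_def] using e4, by simpa [Equiv.swap_apply_def] using e3.trans h4⟩
    · have hu2 : u * u = 1 := by
        rw [← pow_two, ← hu, pow_orderOf_eq_one]
      have h5 : u • v 5 = v 4 := by rw [← h4, smul_smul, hu2, one_smul]
      exact ⟨u, hu, by simpa [Equiv.swap_apply_def] using h0, by simpa [Equiv.swap_apply_def] using h1,
        by simpa [Equiv.swap_apply_def] using h2, by simpa [Equiv.swap_apply_def] using h3,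
        by simpa [Equiv.swap_apply_def] using h5⟩

/-- The blocks. -/
def hexads (G : Type u) (X : Type u) [Group G] [MulAction G X] [DecidableEq X] : Set (Finset X) :=
  {b | ∃ v : Fin 6 → X, Rel6 G v ∧ Finset.univ.image v = b}

theorem hexads_steiner [Finite G] [Finite X] [DecidableEq X] (S : Sharp12 G X) :
    IsSteinerSystem 5 6 (hexads G X) := by
  refine ⟨?_, ?_⟩
  · rintro b ⟨v, ⟨hv, -⟩, rfl⟩
    rw [Finset.card_image_of_injective _ hv, Finset.card_univ, Fintype.card_fin]
  intro s hs
  obtain ⟨w, hw, hws⟩ : ∃ w : Fin 5 → X, Function.Injective w ∧ Finset.univ.image w = s := by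
    let e := (Finset.equivFinOfCardEq hs).symm
    refine ⟨fun i => (e i).1, Subtype.val_injective.comp e.injective, ?_⟩
    ext x
    simp only [Finset.mem_image, Finset.mem_univ, true_and]
    exact ⟨fun ⟨i, hi⟩ => hi ▸ (e i).2, fun hx => ⟨e.symm ⟨x, hx⟩, by simp⟩⟩
  subst hws
  have hne : ∀ a b : Fin 5, a ≠ b → w a ≠ w b := fun a b hab e => hab (hw e)
  obtain ⟨u, hu, u0, u1, u2, u3⟩ := S.exists_inv (hne 0 1 (by decide)) (hne 0 2 (by decide))
    (hne 0 3 (by decide)) (hne 1 2 (by decide)) (hne 1 3 (by decide)) (hne 2 3 (by decide))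
  set v : Fin 6 → X := Fin.snoc w (u • w 4) with hv
  have hvinj : Function.Injective v := by
    refine Fin.snoc_injective_of_injective hw ?_
    rintro ⟨i, hi⟩
    fin_cases i
    · exact hne 0 4 (by decide) (smul_left_cancel u (u0.trans hi))
    · exact hne 1 4 (by decide) (smul_left_cancel u (u1.trans hi))
    · exact hne 2 4 (by decide) (smul_left_cancel u (u2.trans hi))
    · exact hne 3 4 (by decide) (smul_left_cancel u (u3.trans hi))
    · have h1 : u = 1 := S.eq_one_of_fix hw fun j => by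
        fin_cases j
        exacts [u0, u1, u2, u3, hi.symm]
      rw [h1, orderOf_one] at hu
      omega
  have hRel : Rel6 G v := ⟨hvinj, u, hu, u0, u1, u2, u3, rfl⟩
  refine ⟨Finset.univ.image v, ⟨⟨v, hRel, rfl⟩, ?_⟩, ?_⟩
  · intro x hx
    obtain ⟨i, -, rfl⟩ := Finset.mem_image.mp hx
    exact Finset.mem_image.mpr ⟨i.castSucc, Finset.mem_univ _, by rw [hv, Fin.snoc_castSucc]⟩
  · rintro _ ⟨⟨v', hv', rfl⟩, hsub⟩
    have hj : ∀ i, ∃ k, v' k = w i := fun i => by
      obtain ⟨k, -, hk⟩ := Finset.mem_image.mp (hsub (Finset.mem_image.mpr ⟨i, Finset.mem_univ _, rfl⟩))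
      exact ⟨k, hk⟩
    choose j hjw using hj
    have hjinj : Function.Injective j := fun a b e => hw (by rw [← hjw, ← hjw, e])
    obtain ⟨m, hm⟩ : ∃ m : Fin 6, m ∉ Set.range j := by
      by_contra hc
      push Not at hc
      have := Fintype.card_le_of_surjective j hc
      simp at this
    let σ : Equiv.Perm (Fin 6) :=
      Equiv.ofBijective (Fin.snoc j m) (Finite.injective_iff_bijective.mp
        (Fin.snoc_injective_of_injective hjinj hm))
    obtain ⟨hi, u', hu', e0, e1, e2, e3, e4⟩ := rel6_perm S hv' σ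
    have hcs : ∀ i : Fin 5, (v' ∘ σ) i.castSucc = w i := fun i => by
      show v' ((Fin.snoc j m : Fin 6 → Fin 6) i.castSucc) = w i
      rw [Fin.snoc_castSucc, hjw]
    have w0 : (v' ∘ σ) 0 = w 0 := hcs 0
    have w1 : (v' ∘ σ) 1 = w 1 := hcs 1
    have w2 : (v' ∘ σ) 2 = w 2 := hcs 2
    have w3 : (v' ∘ σ) 3 = w 3 := hcs 3
    have w4 : (v' ∘ σ) 4 = w 4 := hcs 4
    rw [w0] at e0; rw [w1] at e1; rw [w2] at e2; rw [w3] at e3; rw [w4] at e4
    have huu : u' = u := S.inv_unique (hne 0 1 (by decide)) (hne 0 2 (by decide))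
      (hne 0 3 (by decide)) (hne 1 2 (by decide)) (hne 1 3 (by decide)) (hne 2 3 (by decide))
      hu' hu e0 e1 e2 e3 u0 u1 u2 u3
    subst huu
    have heq : v' ∘ σ = v := by
      funext i
      induction i using Fin.lastCases with
      | last => rw [hv, Fin.snoc_last]; exact e4.symm
      | cast i => rw [hv, Fin.snoc_castSucc]; exact hcs i
    rw [← heq, ← Finset.image_image, Finset.image_univ_of_surjective σ.surjective]

theorem smul_hexads [DecidableEq X] (g : G) {b : Finset X} (hb : b ∈ hexads G X) :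
    b.image (toPerm g) ∈ hexads G X := by
  obtain ⟨v, ⟨hv, u, hu, h0, h1, h2, h3, h4⟩, rfl⟩ := hb
  refine ⟨fun i => g • v i, ⟨(MulAction.injective g).comp hv, g * u * g⁻¹,
    (Sharp.orderOf_conj g u).trans hu, Sharp.conj_fix h0, Sharp.conj_fix h1, Sharp.conj_fix h2,
    Sharp.conj_fix h3, Sharp.conj_fix h4⟩, ?_⟩
  rw [Finset.image_image]
  rfl

/-- The group is the automorphism group of the blocks. -/
theorem nonempty_equiv_aut [Finite G] [Fintype X] [DecidableEq X] (S : Sharp12 G X)
    (hG : Nat.card G = 95040) : Nonempty (G ≃* setSystemAut (hexads G X)) := by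
  have hX : Fintype.card X = 12 := by rw [← Nat.card_eq_fintype_card, S.cardX]
  let f : G →* setSystemAut (hexads G X) := (MulAction.toPermHom G X).codRestrict _ fun g =>
    Cfsg.Agent.Lib.WittAut.mem_aut_iff.mpr fun b hb => smul_hexads g hb
  have hf : Function.Injective f := by
    refine (injective_iff_map_eq_one f).mpr fun g hg => ?_
    have h : ∀ x : X, g • x = x := fun x =>
      DFunLike.congr_fun (congrArg Subtype.val hg) x
    obtain ⟨e⟩ := Function.Embedding.nonempty_of_card_le (α := Fin 5) (β := X)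
      (by rw [Fintype.card_fin, hX]; norm_num)
    exact S.eq_one_of_fix e.injective fun i => h _
  exact ⟨MulEquiv.ofBijective f ((Nat.bijective_iff_injective_and_card f).mpr
    ⟨hf, hG.trans (Design.SmallWitt.result12 hX (hexads_steiner S)).1.2.symm⟩)⟩

/-! ### The subgroup of order 7920 -/

section subgroup

variable [Finite G]

/-- Every permutation induced by a simple group of composite order is even. -/
theorem sign_toPerm [Fintype X] [DecidableEq X] (hG : IsM12 G) (g : G) :
    Equiv.Perm.sign (toPermHom G X g) = 1 := by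
  haveI := hG.1
  set f := Equiv.Perm.sign.comp (toPermHom G X)
  rcases f.normal_ker.eq_bot_or_eq_top with h | h
  · have := Nat.card_le_card_of_injective f ((MonoidHom.ker_eq_bot_iff f).1 h)
    rw [hG.2, Nat.card_eq_fintype_card, show Fintype.card ℤˣ = 2 from rfl] at this
    omega
  · exact MonoidHom.mem_ker.1 (show g ∈ f.ker by rw [h]; exact Subgroup.mem_top g)

/-- An element of order eleven of a simple group of order 95040 acting on twelve points, with its
normalizer. -/
theorem card_normalizer_eleven_of_twelve [Finite X] (hG : IsM12 G) (hX : Nat.card X = 12)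
    (hfaith : ∀ g : G, (∀ p : X, g • p = p) → g = 1) {x₀ : X} {x : G} (hx : orderOf x = 11)
    (hx0 : x • x₀ = x₀) :
    Nat.card (Subgroup.normalizer ((Subgroup.zpowers x : Subgroup G) : Set G)) ∣ 55 ∧
      Subgroup.centralizer ((Subgroup.zpowers x : Subgroup G) : Set G) ≤ Subgroup.zpowers x ∧
      (∀ y : X, y ≠ x₀ → ∀ z : X, z ≠ x₀ → z ∈ orbit (Subgroup.zpowers x) y) := by
  classical
  haveI := Fintype.ofFinite X
  haveI : Fact (Nat.Prime 11) := ⟨by norm_num⟩
  rw [Nat.card_eq_fintype_card] at hX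
  obtain ⟨C, hC⟩ : ∃ C, C = Subgroup.zpowers x := ⟨_, rfl⟩
  rw [← hC]
  have hCc : Nat.card C = 11 := by rw [hC, Nat.card_zpowers, hx]
  have hxC : x ∈ C := hC ▸ Subgroup.mem_zpowers x
  have hx1 : x ≠ 1 := fun e => by rw [e, orderOf_one] at hx; omega
  have hCfix : ∀ c ∈ C, c • x₀ = x₀ := fun c hc => by
    obtain ⟨i, rfl⟩ := Subgroup.mem_zpowers_iff.1 (hC ▸ hc)
    exact mem_stabilizer_iff.1 (zpow_mem (mem_stabilizer_iff.2 hx0) i)
  have hsz : ∀ y : X, (orbit C y).ncard = 1 ∨ (orbit C y).ncard = 11 := by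
    intro y
    refine (Nat.dvd_prime (by norm_num)).1 ?_
    rw [← hCc, ← index_stabilizer]
    exact Subgroup.index_dvd_card _
  obtain ⟨y₁, hy₁⟩ : ∃ y : X, (orbit C y).ncard = 11 := by
    by_contra! hall
    refine hx1 (hfaith x fun p => ?_)
    obtain ⟨q, hq⟩ := Set.ncard_eq_one.1 ((hsz p).resolve_right (hall p))
    have h1 : x • p ∈ orbit C p := mem_orbit p (⟨x, hxC⟩ : C)
    have h2 : p ∈ orbit C p := mem_orbit_self p
    rw [hq] at h1 h2
    rw [Set.mem_singleton_iff.1 h1, Set.mem_singleton_iff.1 h2]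
  have horb : orbit C y₁ = {x₀}ᶜ := by
    refine Set.eq_of_subset_of_ncard_le ?_ ?_ (Set.toFinite _)
    · intro z hz hz0
      rw [Set.mem_singleton_iff] at hz0
      subst hz0
      have : orbit C y₁ = {z} := by
        rw [← orbit_eq_iff.2 hz]
        ext p
        refine ⟨?_, by rintro rfl; exact mem_orbit_self _⟩
        rintro ⟨c, rfl⟩
        exact hCfix c.1 c.2
      rw [this, Set.ncard_singleton] at hy₁
      omega
    · rw [hy₁, Set.ncard_compl, Set.ncard_singleton, Nat.card_eq_fintype_card, hX]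
  have htrans : ∀ y : X, y ≠ x₀ → ∀ z : X, z ≠ x₀ → z ∈ orbit C y := by
    intro y hy z hz
    have hy' : y ∈ orbit C y₁ := by rw [horb]; exact hy
    rw [orbit_eq_iff.2 hy', horb]
    exact hz
  have hy0 : y₁ ≠ x₀ := fun e => by
    have h := mem_orbit_self (M := C) y₁
    rw [horb] at h
    exact h e
  have huniq : ∀ p : X, (∀ c ∈ C, c • p = p) → p = x₀ := by
    intro p hp
    by_contra hne
    have : orbit C p = {p} := Set.ext fun q => ⟨by rintro ⟨c, rfl⟩; exact hp c.1 c.2,
      by rintro rfl; exact mem_orbit_self _⟩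
    have hsub : ({x₀}ᶜ : Set X) ⊆ {p} := fun q hq => this ▸ htrans p hne q hq
    have := Set.ncard_le_ncard hsub
    rw [Set.ncard_compl, Set.ncard_singleton, Set.ncard_singleton, Nat.card_eq_fintype_card, hX] at this
    omega
  have hNfix : ∀ g ∈ Subgroup.normalizer (C : Set G), g • x₀ = x₀ := by
    intro g hg
    refine huniq _ fun c hc => ?_
    have hc' : g⁻¹ * c * g ∈ C := by
      have := (Subgroup.mem_normalizer_iff.1 (inv_mem hg) c).1 hc
      simpa using this
    calc c • g • x₀ = g • (g⁻¹ * c * g) • x₀ := by rw [← mul_smul, ← mul_smul]; group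
      _ = g • x₀ := by rw [hCfix _ hc']
  have hcent : Subgroup.centralizer (C : Set G) ≤ C := by
    intro g hg
    have hgN := Subgroup.centralizer_le_normalizer (C : Set G) hg
    have hgy : g • y₁ ≠ x₀ := fun e => hy0 (smul_left_cancel g (e.trans (hNfix g hgN).symm))
    obtain ⟨c, hc⟩ := htrans y₁ hy0 (g • y₁) hgy
    have hfix : ((c : G)⁻¹ * g) • y₁ = y₁ := by
      rw [mul_smul, inv_smul_eq_iff]; exact hc.symm
    have hg' : (c : G)⁻¹ * g ∈ Subgroup.centralizer (C : Set G) := by
      refine mul_mem (inv_mem ?_) hg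
      rw [Subgroup.mem_centralizer_iff]
      intro d hd
      obtain ⟨i, hi⟩ := Subgroup.mem_zpowers_iff.1 (show d ∈ Subgroup.zpowers x by rw [← hC]; exact hd)
      obtain ⟨j, hj⟩ := Subgroup.mem_zpowers_iff.1 (show (c : G) ∈ Subgroup.zpowers x by rw [← hC]; exact c.2)
      rw [← hi, ← hj, ← zpow_add, ← zpow_add, add_comm]
    have h1 : (c : G)⁻¹ * g = 1 := by
      refine hfaith _ fun p => ?_
      by_cases hp : p = x₀
      · subst hp
        rw [mul_smul, hNfix g hgN]
        exact hCfix _ (inv_mem c.2)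
      · obtain ⟨d, rfl⟩ := htrans y₁ hy0 p hp
        show ((c : G)⁻¹ * g) • (d : G) • y₁ = (d : G) • y₁
        rw [← mul_smul, ← Subgroup.mem_centralizer_iff.1 hg' _ d.2, mul_smul, hfix]
    rw [inv_mul_eq_one] at h1
    exact h1 ▸ c.2
  refine ⟨?_, hcent, htrans⟩
  haveI : IsCyclic C := hC ▸ Subgroup.isCyclic_zpowers x
  set N := Subgroup.normalizer (C : Set G)
  set f := C.normalizerMonoidHom
  have hker : f.ker = C.subgroupOf N := by
    rw [Subgroup.normalizerMonoidHom_ker]
    refine le_antisymm (fun g hg => hcent hg) fun g hg => ?_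
    rw [Subgroup.mem_subgroupOf, Subgroup.mem_centralizer_iff]
    intro d hd
    obtain ⟨i, hi⟩ := Subgroup.mem_zpowers_iff.1 (hC ▸ hd)
    obtain ⟨j, hj⟩ := Subgroup.mem_zpowers_iff.1 (hC ▸ Subgroup.mem_subgroupOf.1 hg)
    rw [← hi, ← hj, ← zpow_add, ← zpow_add, add_comm]
  have hdvd : Nat.card N ∣ 110 := by
    rw [← f.ker.index_mul_card, Subgroup.index_ker, hker,
      Nat.card_congr (Subgroup.subgroupOfEquivOfLe (Subgroup.le_normalizer (H := C))).toEquiv, hCc]
    refine (Nat.mul_dvd_mul_right (Subgroup.card_subgroup_dvd_card f.range) 11).trans ?_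
    rw [IsCyclic.card_mulAut, hCc]
    decide
  have hodd : ¬ 2 ∣ Nat.card N := by
    intro h2
    haveI : Fact (Nat.Prime 2) := ⟨Nat.prime_two⟩
    obtain ⟨t, ht⟩ := exists_prime_orderOf_dvd_card' 2 h2
    have ht' : orderOf (t : G) = 2 := by rw [Subgroup.orderOf_coe, ht]
    have htinv : ∀ c ∈ C, (t : G) * c * (t : G)⁻¹ = c⁻¹ := by
      obtain ⟨i, hi⟩ : ∃ i : ℤ, x ^ i = (t : G) * x * (t : G)⁻¹ :=
        Subgroup.mem_zpowers_iff.1 (hC ▸ (Subgroup.mem_normalizer_iff.1 t.2 x).1 hxC)
      have hpow : ∀ k : ℤ, (t : G) * x ^ k * (t : G)⁻¹ = x ^ (i * k) := fun k => by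
        rw [← conj_zpow, ← hi, zpow_mul]
      have hsq : x ^ (i * i) = x := by
        rw [← hpow, hi, show (t : G) * ((t : G) * x * (t : G)⁻¹) * (t : G)⁻¹ =
          ((t : G) * (t : G)) * x * ((t : G) * (t : G))⁻¹ by group, ← pow_two, ← ht', pow_orderOf_eq_one,
          one_mul, inv_one, mul_one]
      have hd : (11 : ℤ) ∣ i * i - 1 := by
        have h1 : x ^ (i * i - 1) = 1 := by rw [zpow_sub, hsq, zpow_one, mul_inv_cancel]
        simpa [hx] using orderOf_dvd_iff_zpow_eq_one.2 h1
      have hd2 : (11 : ℤ) ∣ (i - 1) * (i + 1) := by convert hd using 1; ring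
      rcases (Int.prime_iff_natAbs_prime.2 (by norm_num : Nat.Prime (11 : ℤ).natAbs)).dvd_or_dvd hd2
        with h | h
      · exfalso
        have h1 : x ^ i = x := by
          have := orderOf_dvd_iff_zpow_eq_one.1 (show ((orderOf x : ℕ) : ℤ) ∣ i - 1 by rw [hx]; exact h)
          rw [zpow_sub, zpow_one, mul_inv_eq_one] at this
          exact this
        have htc : (t : G) ∈ Subgroup.centralizer (C : Set G) := by
          rw [Subgroup.mem_centralizer_iff]
          intro d hd
          obtain ⟨k, rfl⟩ := Subgroup.mem_zpowers_iff.1 (hC ▸ hd)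
          have := hpow k
          rw [zpow_mul, h1] at this
          exact (mul_inv_eq_iff_eq_mul.1 this).symm
        have := Subgroup.orderOf_dvd_natCard _ (hcent htc)
        rw [hCc, ht'] at this
        norm_num at this
      · intro c hc
        obtain ⟨k, rfl⟩ := Subgroup.mem_zpowers_iff.1 (hC ▸ hc)
        have h1 : x ^ i = x⁻¹ := by
          have := orderOf_dvd_iff_zpow_eq_one.1 (show ((orderOf x : ℕ) : ℤ) ∣ i + 1 by rw [hx]; exact h)
          rw [zpow_add, zpow_one] at this
          exact eq_inv_of_mul_eq_one_left this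
        rw [hpow, zpow_mul, h1, inv_zpow]
    set σ := toPermHom G X (t : G) with hσ
    have hσa : ∀ p : X, σ p = (t : G) • p := fun _ => rfl
    have hσ2 : σ ^ 2 = 1 := by rw [hσ, ← map_pow, ← ht', pow_orderOf_eq_one, map_one]
    have hfixle : ∀ p q : X, p ≠ x₀ → q ≠ x₀ → σ p = p → σ q = q → p = q := by
      intro p q hp hq h1 h2
      obtain ⟨c, rfl⟩ := htrans p hp q hq
      have e : (t : G) • (c : G) • p = (c : G)⁻¹ • p := by
        rw [← htinv c.1 c.2, mul_smul, mul_smul]
        congr 2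
        exact (inv_smul_eq_iff.2 (hσa p ▸ h1).symm).symm
      have e2 : (c : G)⁻¹ • p = (c : G) • p := e.symm.trans h2
      have e3 : ((c : G) ^ 2) • p = p := by
        conv_rhs => rw [← smul_inv_smul (c : G) p, e2, ← mul_smul, ← pow_two]
      have h11 : (c : G) ^ 11 = 1 :=
        orderOf_dvd_iff_pow_eq_one.1 (hCc ▸ Subgroup.orderOf_dvd_natCard _ c.2)
      show p = (c : G) • p
      have e5 : ∀ k : ℕ, ((c : G) ^ (2 * k)) • p = p := by
        intro k
        induction k with
        | zero => rw [mul_zero, pow_zero, one_smul]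
        | succ k ih => rw [Nat.mul_succ, pow_add, mul_smul, e3, ih]
      have := e5 6
      rw [show 2 * 6 = 11 + 1 from rfl, pow_succ, h11, one_mul] at this
      exact this.symm
    have hsupp : σ.support.card = 10 := by
      have hx0' : σ x₀ = x₀ := hNfix _ t.2
      have hfix2 : (Finset.univ.filter fun p : X => σ p = p).card ≤ 2 := by
        have h1 : ((Finset.univ.filter fun p : X => σ p = p).erase x₀).card ≤ 1 :=
          Finset.card_le_one.2 fun p hp q hq => by
            simp only [Finset.mem_erase, Finset.mem_filter, Finset.mem_univ, true_and] at hp hq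
            exact hfixle p q hp.1 hq.1 hp.2 hq.2
        have := Finset.pred_card_le_card_erase (a := x₀) (s := Finset.univ.filter fun p : X => σ p = p)
        omega
      have hsplit : σ.support.card + (Finset.univ.filter fun p : X => σ p = p).card = 12 := by
        rw [← hX, ← Finset.card_univ, show σ.support = Finset.univ.filter fun p : X => ¬ σ p = p by
          ext p; simp [Equiv.Perm.mem_support], add_comm,
          Finset.card_filter_add_card_filter_not]
      have hev : Even σ.support.card := by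
        rw [← Equiv.Perm.sum_cycleType, Equiv.Perm.cycleType_of_pow_prime_eq_one hσ2,
          Multiset.sum_replicate, smul_eq_mul]
        exact even_two.mul_left _
      have hpos : 1 ≤ (Finset.univ.filter fun p : X => σ p = p).card :=
        Finset.card_pos.2 ⟨x₀, by simp [hx0']⟩
      rw [Nat.even_iff] at hev
      omega
    have hsg := sign_toPerm (X := X) hG (t : G)
    rw [← hσ, Equiv.Perm.sign_of_cycleType, Equiv.Perm.sum_cycleType, hsupp] at hsg
    have hcard : Multiset.card σ.cycleType = 5 := by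
      have h := Equiv.Perm.sum_cycleType σ
      rw [Equiv.Perm.cycleType_of_pow_prime_eq_one hσ2, Multiset.sum_replicate, smul_eq_mul, hsupp] at h
      omega
    rw [hcard] at hsg
    exact absurd hsg (by decide)
  have := (Nat.Coprime.dvd_mul_left (k := Nat.card N) (m := 2) (n := 55)
    ((Nat.prime_two.coprime_iff_not_dvd.2 hodd).symm)).1 hdvd
  exact this

/-- A subgroup of order 7920 is simple and transitive on the other points of its coset action. -/
theorem simple_and_transitive (hG : IsM12 G) {H : Subgroup G} (hH : Nat.card H = 7920) :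
    IsSimpleGroup H ∧ ∀ a b : G ⧸ H, a ≠ ((1 : G) : G ⧸ H) → b ≠ ((1 : G) : G ⧸ H) →
      ∃ h ∈ H, h • a = b := by
  classical
  haveI := hG.1
  haveI : Fact (Nat.Prime 11) := ⟨by norm_num⟩
  have hidx : H.index = 12 := by
    have := H.card_mul_index
    rw [hH, hG.2] at this
    omega
  have hX : Nat.card (G ⧸ H) = 12 := hidx
  have hfaith : ∀ g : G, (∀ p : G ⧸ H, g • p = p) → g = 1 := by
    intro g hg
    rcases H.normalCore_normal.eq_bot_or_eq_top with h | h
    · refine Subgroup.mem_bot.1 (h ▸ ?_)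
      intro c
      have := hg (QuotientGroup.mk c⁻¹)
      rw [Quotient.smul_mk, smul_eq_mul, QuotientGroup.eq] at this
      have h' := inv_mem this
      simpa [mul_assoc] using h'
    · exfalso
      have := top_le_iff.1 (h ▸ H.normalCore_le)
      rw [this, Subgroup.index_top] at hidx
      omega
  obtain ⟨x', hx'⟩ := exists_prime_orderOf_dvd_card' (G := H) 11 (by rw [hH]; norm_num)
  set x : G := (x' : G) with hxdef
  have hx : orderOf x = 11 := by rw [hxdef, Subgroup.orderOf_coe, hx']
  set x₀ : G ⧸ H := ((1 : G) : G ⧸ H)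
  have hfix0 : ∀ h ∈ H, h • x₀ = x₀ := fun h hh => by
    show h • ((1 : G) : G ⧸ H) = ((1 : G) : G ⧸ H)
    rw [Quotient.smul_mk, smul_eq_mul, mul_one, QuotientGroup.eq]
    simpa using inv_mem hh
  obtain ⟨hN55, hcent, htrans⟩ := card_normalizer_eleven_of_twelve hG hX hfaith hx (hfix0 x x'.2)
  have htr : ∀ a b : G ⧸ H, a ≠ x₀ → b ≠ x₀ → ∃ h ∈ H, h • a = b := fun a b ha hb => by
    obtain ⟨c, hc⟩ := htrans a ha b hb
    exact ⟨c, (Subgroup.zpowers_le.2 x'.2) c.2, hc⟩
  refine ⟨?_, htr⟩
  haveI : Nontrivial H := Finite.one_lt_card_iff_nontrivial.1 (by omega)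
  refine ⟨fun N hN => or_iff_not_imp_left.2 fun hNbot => ?_⟩
  haveI := hN
  -- a non-trivial normal subgroup has order divisible by eleven
  have hdvd11 : ∀ M : Subgroup H, M.Normal → M ≠ ⊥ → 11 ∣ Nat.card M := by
    intro M hM hMne
    haveI := hM
    obtain ⟨a, ha⟩ : ∃ a : G ⧸ H, a ≠ x₀ := by
      by_contra! hall
      have : Nat.card (G ⧸ H) ≤ 1 := Finite.card_le_one_iff_subsingleton.2
        ⟨fun p q => (hall p).trans (hall q).symm⟩
      omega
    set K := stabilizer H a
    have hK : K.index = 11 := by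
      rw [index_stabilizer, show orbit H a = ({x₀}ᶜ : Set (G ⧸ H)) from ?_, Set.ncard_compl,
        Set.ncard_singleton, hX]
      refine Set.ext fun b => ⟨?_, fun hb => ?_⟩
      · rintro ⟨h, rfl⟩ hb
        rw [Set.mem_singleton_iff] at hb
        exact ha (smul_left_cancel (h : G) (hb.trans (hfix0 h h.2).symm))
      · obtain ⟨h, hh, hhb⟩ := htr a b ha hb
        exact ⟨⟨h, hh⟩, hhb⟩
    by_contra hnd
    rcases (Nat.dvd_prime (by norm_num)).1 (hK ▸ Subgroup.index_dvd_of_le (le_sup_left : K ≤ K ⊔ M))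
      with h | h
    swap
    · have hle : M ≤ K := by
        have e : K = K ⊔ M := by
          refine Subgroup.eq_of_le_of_card_ge le_sup_left ?_
          have h1 := K.card_mul_index
          have h2 := (K ⊔ M).card_mul_index
          rw [hK] at h1
          rw [h] at h2
          omega
        exact e ▸ le_sup_right
      refine hMne (eq_bot_iff.2 fun m hm => Subgroup.mem_bot.2 (Subtype.ext (hfaith m fun p => ?_)))
      by_cases hp : p = x₀
      · rw [hp]; exact hfix0 m m.2
      · obtain ⟨h', hh', rfl⟩ := htr a p ha hp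
        have hm' : (⟨h', hh'⟩ : H)⁻¹ * m * ⟨h', hh'⟩ ∈ K := hle (by
          simpa using hM.conj_mem m hm (⟨h', hh'⟩ : H)⁻¹)
        have hm'' : (h'⁻¹ * (m : G) * h') • a = a := hm'
        rw [mul_smul, mul_smul, inv_smul_eq_iff] at hm''
        exact hm''
    · have h1 : M.index ∣ Nat.card K := by
        rw [← Subgroup.relIndex_top_right, ← Subgroup.index_eq_one.1 h, Subgroup.relIndex_sup_right]
        exact Subgroup.relIndex_dvd_card _ _
      have h2 := M.card_mul_index
      have h3 := K.card_mul_index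
      rw [hH] at h2 h3
      rw [hK] at h3
      rw [show Nat.card K = 720 by omega] at h1
      have h11 : 11 ∣ Nat.card M * M.index := ⟨720, by omega⟩
      rcases (by norm_num : Nat.Prime 11).dvd_mul.1 h11 with h4 | h4
      · exact hnd h4
      · exact absurd (h4.trans h1) (by norm_num)
  have h11 := hdvd11 N hN hNbot
  obtain ⟨P⟩ : Nonempty (Sylow 11 N) := inferInstance
  have hfact : (7920 : ℕ).factorization 11 = 1 := by
    rw [show (7920 : ℕ) = 720 * 11 from rfl, Nat.factorization_mul (by norm_num) (by norm_num)]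
    simp [Nat.Prime.factorization_self (show Nat.Prime 11 by norm_num),
      Nat.factorization_eq_zero_of_not_dvd (show ¬ 11 ∣ 720 by norm_num)]
  have hPc : Nat.card (P : Subgroup N) = 11 := by
    rw [P.card_eq_multiplicity]
    have hpos := Nat.Prime.factorization_pos_of_dvd (by norm_num : Nat.Prime 11) Nat.card_pos.ne' h11
    have hle := (Nat.factorization_le_iff_dvd Nat.card_pos.ne' (by norm_num : (7920 : ℕ) ≠ 0)).2
      (hH ▸ Subgroup.card_subgroup_dvd_card N) 11
    rw [hfact] at hle
    rw [show (Nat.card N).factorization 11 = 1 by omega, pow_one]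
  obtain ⟨y, hy⟩ : ∃ y : (P : Subgroup N), orderOf y = 11 :=
    exists_prime_orderOf_dvd_card' 11 (dvd_of_eq hPc.symm)
  set Q : Subgroup H := (P : Subgroup N).map N.subtype
  have hQN : Q ≤ N := Subgroup.map_subtype_le _
  have hQc : Nat.card Q = 11 := by
    rw [Subgroup.card_map_of_injective N.subtype_injective, hPc]
  -- the normalizer of the Sylow subgroup
  have hsup : Subgroup.normalizer (Q : Set H) ⊔ N = ⊤ := Sylow.normalizer_sup_eq_top P
  have hnorm : Nat.card (Subgroup.normalizer (Q : Set H)) ∣ 55 := by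
    obtain ⟨z, hz⟩ : ∃ z : G, z = (((y : N) : H) : G) := ⟨_, rfl⟩
    have hzo : orderOf z = 11 := by
      rw [hz, Subgroup.orderOf_coe, Subgroup.orderOf_coe, Subgroup.orderOf_coe, hy]
    obtain ⟨hN', -, -⟩ := card_normalizer_eleven_of_twelve hG hX hfaith hzo
      (hfix0 z (hz ▸ ((y : N) : H).2))
    have hmap : (Subgroup.zpowers z : Subgroup G) = Q.map H.subtype := by
      refine Subgroup.eq_of_le_of_card_ge (Subgroup.zpowers_le.2 ?_) ?_
      · rw [hz]
        exact Subgroup.mem_map_of_mem H.subtype (Subgroup.mem_map_of_mem N.subtype y.2)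
      · rw [Subgroup.card_map_of_injective H.subtype_injective, hQc, Nat.card_zpowers, hzo]
    refine dvd_trans ?_ hN'
    rw [← Subgroup.card_map_of_injective (f := H.subtype) H.subtype_injective]
    refine Subgroup.card_dvd_of_le ?_
    rintro _ ⟨n, hn, rfl⟩
    rw [Subgroup.mem_normalizer_iff, hmap]
    intro g
    constructor
    · rintro ⟨q, hq, rfl⟩
      exact ⟨n * q * n⁻¹, (Subgroup.mem_normalizer_iff.1 hn q).1 hq, by simp⟩
    · rintro ⟨q, hq, hqe⟩
      refine ⟨n⁻¹ * q * n, (Subgroup.mem_normalizer_iff.1 hn _).2 (by simpa [mul_assoc] using hq), ?_⟩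
      simp only [map_mul, map_inv, hqe]
      simp [mul_assoc]
  have hrelN : N.index = N.relIndex (Subgroup.normalizer (Q : Set H)) := by
    rw [← Subgroup.relIndex_top_right, ← hsup, Subgroup.relIndex_sup_right]
  have hmul := N.card_mul_index
  rw [hH] at hmul
  have hi55 : N.index ∣ 55 := hrelN ▸ dvd_trans (Subgroup.relIndex_dvd_card _ _) hnorm
  have hi5 : N.index ∣ 5 := by
    refine (Nat.Coprime.dvd_mul_right (k := N.index) (n := 11) (m := 5) ?_).1 (by norm_num; exact hi55)
    refine (Nat.prime_iff.1 (by norm_num : Nat.Prime 11) |> fun _ => Nat.Coprime.symm ?_)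
    rw [(by norm_num : Nat.Prime 11).coprime_iff_not_dvd]
    intro h
    have := mul_dvd_mul h11 h
    rw [hmul] at this
    norm_num at this
  rcases (Nat.dvd_prime (by norm_num : Nat.Prime 5)).1 hi5 with h1 | h5
  · exact Subgroup.index_eq_one.1 h1
  exfalso
  have hNc : Nat.card N = 1584 := by rw [h5] at hmul; omega
  have hPn : Subgroup.normalizer ((P : Subgroup N) : Set N) ≤
      Subgroup.centralizer ((P : Subgroup N) : Set N) := by
    set R := Subgroup.normalizer ((P : Subgroup N) : Set N)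
    have hR : R.map N.subtype ≤ Subgroup.normalizer (Q : Set H) ⊓ N := by
      refine le_inf ?_ (Subgroup.map_subtype_le _)
      rintro _ ⟨r, hr, rfl⟩
      rw [Subgroup.mem_normalizer_iff]
      intro g
      constructor
      · rintro ⟨q, hq, rfl⟩
        exact ⟨r * q * r⁻¹, (Subgroup.mem_normalizer_iff.1 hr q).1 hq, by simp⟩
      · rintro ⟨q, hq, hqe⟩
        refine ⟨r⁻¹ * q * r, (Subgroup.mem_normalizer_iff.1 hr _).2 (by
          rw [show r * (r⁻¹ * q * r) * r⁻¹ = q by group]; exact hq), ?_⟩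
        simp only [map_mul, map_inv, hqe]
        simp [mul_assoc]
    have h55 : Nat.card (Subgroup.normalizer (Q : Set H) ⊓ N : Subgroup H) * 5 ∣ 55 := by
      have := (N.subgroupOf (Subgroup.normalizer (Q : Set H))).card_mul_index
      rw [show (N.subgroupOf (Subgroup.normalizer (Q : Set H))).index = 5 from hrelN.symm.trans h5,
        Nat.card_congr (Subgroup.equivMapOfInjective _ _
          (Subgroup.normalizer (Q : Set H)).subtype_injective).toEquiv,
        Subgroup.subgroupOf_map_subtype, inf_comm] at this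
      exact this ▸ hnorm
    have hR11 : Nat.card R ∣ 11 := by
      rw [← Subgroup.card_map_of_injective (f := N.subtype) N.subtype_injective]
      exact (Subgroup.card_dvd_of_le hR).trans
        ((Nat.mul_dvd_mul_iff_right (by norm_num : 0 < 5)).1 (by simpa using h55))
    have hPR : (P : Subgroup N) = R := Subgroup.eq_of_le_of_card_ge Subgroup.le_normalizer
      (by rw [hPc]; exact Nat.le_of_dvd (by norm_num) hR11)
    haveI : IsCyclic (P : Subgroup N) := isCyclic_of_prime_card hPc
    intro r hr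
    rw [Subgroup.mem_centralizer_iff]
    intro q hq
    have hr' : r ∈ (P : Subgroup N) := hPR ▸ hr
    obtain ⟨g, hg⟩ := IsCyclic.exists_generator (α := (P : Subgroup N))
    obtain ⟨i, hi⟩ := Subgroup.mem_zpowers_iff.1 (hg ⟨r, hr'⟩)
    obtain ⟨j, hj⟩ := Subgroup.mem_zpowers_iff.1 (hg ⟨q, hq⟩)
    have : (⟨q, hq⟩ : (P : Subgroup N)) * ⟨r, hr'⟩ = ⟨r, hr'⟩ * ⟨q, hq⟩ := by
      rw [← hi, ← hj, ← zpow_add, ← zpow_add, add_comm]
    exact congrArg Subtype.val this
  set M := (MonoidHom.transferSylow P hPn).ker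
  have hMc : Nat.card M = 144 := by
    have : Nat.card M * Nat.card (P : Subgroup N) = Nat.card N :=
      (MonoidHom.ker_transferSylow_isComplement' P hPn).card_mul_card
    rw [hPc, hNc] at this
    omega
  have hchar : ∀ g : N, g ∈ M ↔ g ^ 144 = 1 := by
    intro g
    constructor
    · intro hg
      exact orderOf_dvd_iff_pow_eq_one.1 (hMc ▸ Subgroup.orderOf_dvd_natCard _ hg)
    · intro hg
      rw [MonoidHom.mem_ker]
      set v := MonoidHom.transferSylow P hPn g with hv
      have h1 : orderOf v ∣ 144 := orderOf_dvd_iff_pow_eq_one.2 (by rw [hv, ← map_pow, hg, map_one])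
      have h2 : orderOf v ∣ 11 := (_root_.orderOf_dvd_natCard v).trans (dvd_of_eq hPc)
      exact orderOf_eq_one_iff.1 (Nat.eq_one_of_dvd_coprimes (by norm_num) h1 h2)
  have hMn : (M.map N.subtype).Normal := by
    refine ⟨?_⟩
    rintro _ ⟨m, hm, rfl⟩ g
    refine ⟨⟨g * m * g⁻¹, hN.conj_mem _ m.2 g⟩, ?_, rfl⟩
    rw [SetLike.mem_coe, hchar]
    refine Subtype.ext ?_
    show (g * (m : H) * g⁻¹) ^ 144 = 1
    rw [conj_pow, ← SubmonoidClass.coe_pow, (hchar m).1 hm]
    simp
  have hMne : M.map N.subtype ≠ ⊥ := by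
    intro h
    have := Subgroup.card_map_of_injective (f := N.subtype) (K := M) N.subtype_injective
    rw [h, hMc, Subgroup.card_bot] at this
    omega
  have := hdvd11 _ hMn hMne
  rw [Subgroup.card_map_of_injective N.subtype_injective, hMc] at this
  norm_num at this

end subgroup

/-- A subgroup of order 7920 gives the sharp action on twelve points. -/
theorem nonempty_sharp12 [Finite G] (hG : IsM12 G) {H : Subgroup G} (hH : Nat.card H = 7920) :
    Nonempty (Sharp12 G (G ⧸ H)) := by
  classical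
  obtain ⟨hsimp, htr⟩ := simple_and_transitive hG hH
  have hX : Nat.card (G ⧸ H) = 12 := by
    have := H.card_mul_index
    rw [hH, hG.2] at this
    show H.index = 12
    omega
  set x₀ : G ⧸ H := ((1 : G) : G ⧸ H)
  have hst : stabilizer G x₀ = H := by
    ext g
    rw [mem_stabilizer_iff]
    show g • ((1 : G) : G ⧸ H) = ((1 : G) : G ⧸ H) ↔ g ∈ H
    rw [Quotient.smul_mk, smul_eq_mul, mul_one, QuotientGroup.eq, mul_one, inv_mem_iff]
  have hM : IsM11 (stabilizer G x₀) := by
    refine ⟨?_, by rw [hst]; exact hH⟩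
    haveI := hsimp
    exact (MulEquiv.subgroupCongr hst).isSimpleGroup
  haveI : Fact (Nat.Prime 3) := ⟨Nat.prime_three⟩
  obtain ⟨S, -⟩ := Recog7920.exists_setup hM default
  obtain ⟨T⟩ := S.nonempty_sharp
  haveI : IsPretransitive (stabilizer G x₀) (Rest G x₀) := ⟨fun a b => by
    obtain ⟨h, hh, hab⟩ := htr a.1 b.1 a.2 b.2
    exact ⟨⟨h, hst.symm ▸ hh⟩, Subtype.ext hab⟩⟩
  have hR : Nat.card (Rest G x₀) = 11 := by
    haveI := Fintype.ofFinite (G ⧸ H)
    show Nat.card {y : G ⧸ H // y ≠ x₀} = 11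
    rw [Nat.card_eq_fintype_card] at hX
    rw [Nat.card_eq_fintype_card, Fintype.card_subtype, Finset.filter_ne',
      Finset.card_erase_of_mem (Finset.mem_univ _), Finset.card_univ, hX]
  obtain ⟨φ, hφ⟩ := exists_equivariant T hM.2
    (by rw [Nat.card_coe_set_eq, S.ncard_orbit]) hR
  obtain ⟨T'⟩ := nonempty_sharp_of_equiv φ hφ T
  exact ⟨⟨x₀, fun a => by
    obtain ⟨g, hg⟩ := exists_smul_eq G x₀ a
    exact ⟨g, hg⟩, T', hM.2, hX⟩⟩

/-- A group with a subgroup of order 7920 is the group of a Steiner system. -/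
theorem exists_witt12 [Finite G] (hG : IsM12 G) (H : Subgroup G) (hH : Nat.card H = 7920) :
    ∃ (X : Type u) (_ : Fintype X) (_ : DecidableEq X) (B : Set (Finset X)),
      Fintype.card X = 12 ∧ IsSteinerSystem 5 6 B ∧ Nonempty (G ≃* setSystemAut B) := by
  classical
  obtain ⟨S⟩ := nonempty_sharp12 hG hH
  haveI : Fintype (G ⧸ H) := Fintype.ofFinite _
  exact ⟨G ⧸ H, inferInstance, inferInstance, hexads G _,
    by rw [← Nat.card_eq_fintype_card, S.cardX], hexads_steiner S, nonempty_equiv_aut S hG.2⟩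

/-- Simple groups of order 95040 with subgroups of order 7920 are isomorphic. -/
theorem nonempty_mulEquiv_of_subgroup {K : Type w} [Group K] [Finite G] [Finite K] (hG : IsM12 G)
    (hK : IsM12 K) (H : Subgroup G) (hH : Nat.card H = 7920) (H' : Subgroup K)
    (hH' : Nat.card H' = 7920) : Nonempty (G ≃* K) := by
  obtain ⟨X, iX, dX, B, hX, hB, ⟨e⟩⟩ := exists_witt12 hG H hH
  obtain ⟨Y, iY, dY, B', hY, hB', ⟨e'⟩⟩ := exists_witt12 hK H' hH'
  have hc : Nat.card (setSystemAut B) = Nat.card (setSystemAut B') := by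
    rw [← Nat.card_congr e.toEquiv, ← Nat.card_congr e'.toEquiv, hG.2, hK.2]
  obtain ⟨f⟩ := Recog7920.nonempty_aut_equiv (Design.SmallWitt12.unique hX hY hB hB') hc
  exact ⟨e.trans (f.trans e'.symm)⟩

end Cfsg.Agent.Lib.Recog95040
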