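import Cfsg.Agent.Lib.Recog95040.Cert240

/-!
Certificate against the second table with even values.
-/

set_option autoImplicit false

namespace Cfsg.Agent.Lib.Recog95040.Cert

/-- Possible values at an involution inverting `y`. -/
def okT (e : It) (t : Int) : Bool :=
  decide ((t - e.d) % 8 = 0) && decide ((e.d + e.s + 2 * e.a + 2 * e.w + 5 * t + 5 * e.s) % 20 = 0) &&
    decide ((e.d - e.s + 2 * e.a - 2 * e.w + 5 * t - 5 * e.s) % 20 = 0) &&
    decide (0 ≤ e.d + e.s + 2 * e.a + 2 * e.w + 5 * t + 5 * e.s) &&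
    decide (0 ≤ e.d + e.s + 2 * e.a + 2 * e.w - 5 * t - 5 * e.s) &&
    decide (0 ≤ e.d - e.s + 2 * e.a - 2 * e.w + 5 * t - 5 * e.s) &&
    decide (0 ≤ e.d - e.s + 2 * e.a - 2 * e.w - 5 * t + 5 * e.s)

/-- Rows with a value at an involution inverting `y`. -/
def genA : List (It × Int) :=
  listA.flatMap fun r => ((ints (-r.d) (2 * r.d + 1).toNat).filter (okT r)).map fun t => (r, t)

/-- The weights of a row with a value. -/
def vecA (e : It × Int) : List Int :=
  (listA.map fun r => if e.1 = r then 1 else 0) ++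
    [e.1.M * (e.1.d * e.2), e.1.M * (e.1.a * e.2), e.1.M * (e.1.w * e.2), e.1.M * (e.1.s * e.2),
      e.1.M * (e.1.u * e.2), e.1.M * (e.1.a * e.1.s * e.2 * (95040 / e.1.d)),
      -(e.1.M * (e.1.a * (e.2 * e.2) * (95040 / e.1.d)))]

/-- The rows with values, as a table. -/
def itemsA : List (It × Int) :=
  [(176, 0, 0, 2, 2, -4, -32), (176, 0, 0, 2, 2, -4, -24), (176, 0, 0, 2, 2, -4, -16), (176, 0, 0, 2, 2, -4, -8),
    (176, 0, 0, 2, 2, -4, 0), (176, 0, 0, 2, 2, -4, 8), (176, 0, 0, 2, 2, -4, 16), (176, 0, 0, 2, 2, -4, 24),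
    (176, 0, 0, 2, 2, -4, 32), (144, 2, 0, -2, -2, 4, -24), (144, 2, 0, -2, -2, 4, -16), (144, 2, 0, -2, -2, 4, -8),
    (144, 2, 0, -2, -2, 4, 0), (144, 2, 0, -2, -2, 4, 8), (144, 2, 0, -2, -2, 4, 16), (144, 2, 0, -2, -2, 4, 24),
    (120, -2, 0, 0, 0, 0, -24), (120, -2, 0, 0, 0, 0, -16), (120, -2, 0, 0, 0, 0, -8), (120, -2, 0, 0, 0, 0, 0),
    (120, -2, 0, 0, 0, 0, 8), (120, -2, 0, 0, 0, 0, 16), (120, -2, 0, 0, 0, 0, 24), (99, 0, 0, -2, -2, -1, -13),
    (99, 0, 0, -2, -2, -1, -5), (99, 0, 0, -2, -2, -1, 3), (99, 0, 0, -2, -2, -1, 11), (99, 0, 0, -2, -2, -1, 19),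
    (66, 0, 0, 2, 2, 6, -6), (66, 0, 0, 2, 2, 6, 2), (66, 0, 0, 2, 2, 6, 10), (66, 0, 0, 2, -2, -6, -6),
    (66, 0, 0, 2, -2, -6, 2), (66, 0, 0, 2, -2, -6, 10), (55, 0, 0, 0, 0, -5, -1), (55, 0, 0, 0, 0, -5, 7),
    (54, -2, 0, -2, 2, 6, -2), (54, -2, 0, -2, 2, 6, 6), (45, 2, 0, 0, 0, 5, -3), (45, 2, 0, 0, 0, 5, 5),
    (44, 0, 0, -2, 2, -4, -4), (44, 0, 0, -2, 2, -4, 4), (16, -1, 1, 2, -2, 4, 0)].map fun (d, u, pr, a, w, s, t) => (⟨d, u, pr, a, w, s⟩, t)

def treeA_0 : Engine.Tree := .B 9 (.B 11 (.C [0,0,0,42680,42680,-4224000,-1355200,0,-739200,-140800,0,-240,-42680,-42680,-41360,-14400,-11,0])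
 (.B 13 (.C [-7372800,0,0,481536,-864000,481536,0,481536,0,-7128576,0,0,-481536,228096,0,0,46,-25])
 (.C [-66009600,0,-14784000,1203840,-210211200,-40654080,0,1203840,0,1203840,0,8400,-1203840,-1203840,92400,-420000,-858,-955])))
 (.B 11 (.B 14 (.C [0,0,0,91080,0,91080,-118800,-3960000,-330000,0,0,-240,-51480,91080,21120,-14400,-11,0])
 (.C [-5858265600,0,-6189427200,192170880,-14645664000,-2938383360,-499752000,192170880,0,-2063761920,0,-5788320,192170880,192170880,36278880,39540000,-91476,-84755]))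
 (.B 16 (.B 0 (.C [74580,0,0,-726000,0,74580,-1478400,0,-330000,0,0,1260,64020,74580,-28380,75600,-11,0])
 (.C [0,0,-1056000,-237600,0,77220,-277200,0,0,0,0,-1860,-77220,-61380,34980,-45600,11,0]))
 (.B 0 (.C [5040,0,-38400,-36000,-43200,-86400,-151200,0,0,0,0,120,5040,5040,-3000,4800,-1,0])
 (.B 2 (.C [0,384000,-2764800,-6643200,0,0,0,0,-8480000,0,0,9280,-306240,-384000,102080,384000,9,0])
 (.B 3 (.C [0,254400,-2764800,-8210000,0,0,-97200,0,-3370800,-777600,0,-7120,234960,254400,-58880,-254400,-9,0])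
 (.B 5 (.C [0,0,96000,-1980000,-1425600,0,0,0,0,0,0,-1920,3960,99000,-21120,96000,-11,0])
 (.B 9 (.C [-33152,0,-1360,-10070,1,-34440,-50,-126060,0,-69280,0,-1,-1,-1,-1,25,-1,0])
 (.B 1 (.C [99,0,0,0,0,0,-220,0,0,-1760,0,-1,33,-99,33,-60,0,0])
 (.B 2 (.C [0,0,26265600,26265600,-447552000,-2007782400,-2492313600,26265600,0,26265600,0,4085760,134790720,31278720,-26265600,-26265600,-17073,-12950])
 (.B 10 (.B 7 (.C [0,0,0,0,-5068800,47520,47520,0,0,-2252800,0,160,47520,-47520,-47520,115200,-33,0])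
 (.C [0,0,0,0,0,6480,6480,0,0,-38400,0,-240,-6480,-6480,4080,-4800,1,0]))
 (.C [0,0,0,0,0,-1267200,36960,0,0,0,0,2400,79200,47520,-36960,38400,-11,0])))))))))))

def treeA_1 : Engine.Tree := .B 8 (.C [236400,0,-16070400,-2808000,0,-13213440,-1705600,-7122240,-1404000,-4835840,0,-9520,-236400,-236400,236400,-236400,9,0])
 (.B 0 (.C [33880,-1900800,-844800,0,-1056000,-4752000,-1663200,-35200,0,0,0,1240,33880,33880,-33880,56800,-11,0])
 (.B 6 (.C [116400,0,-5702400,0,0,-5898240,-689600,-2399040,-324000,-1584640,0,-3920,-116400,-116400,94800,-116400,9,0])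
 (.B 0 (.C [37455,0,0,-557700,-1227600,-4752000,-1663200,-105600,-108900,0,0,915,37455,37455,-37455,54900,-11,0])
 (.B 5 (.C [-3026073600,9377280,-130498560,9377280,-1891296000,-4304044800,-35798400,-63164160,-373564800,9377280,0,201600,-9377280,-9377280,9377280,9377280,-9152,-10945])
 (.B 10 (.C [-8774092800,157893120,-10710282240,-3960528000,-5483808000,-10728748800,-2337350400,-1838094080,-3854200320,157893120,0,-6350400,157893120,157893120,-136635840,-157893120,13992,-31735])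
 (.B 16 (.C [0,0,139200,-3088800,-1425600,0,0,0,-792000,0,0,-1200,-19800,75240,-13200,139200,-11,0])
 (.B 10 (.C [0,0,120000,0,0,0,-118800,-4276800,-237600,-950400,0,420,-13860,9900,28380,-120000,-11,0])
 (.B 19 (.C [-15206400,-9292800,0,496800,-9504000,-25272000,-1821600,-32990400,0,-14544000,0,-8280,350640,496800,273240,-496800,-198,-55])
 (.B 4 (.C [116400,0,-3801600,0,0,-5898240,-689600,-2399040,-324000,-1584640,0,-3920,-116400,-116400,94800,-116400,9,0])
 (.B 0 (.C [69300,0,-844800,-1544400,0,-4752000,-1663200,0,-198000,0,0,1500,69300,69300,-31020,63600,-11,0])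
 (.B 7 (.C [-5693760000,801043200,-1874534400,-10280400000,-14234400000,-14234400000,-1796659200,801043200,-9874368000,-155404800,0,-14327040,-1687680,801043200,-208930560,-801043200,-20168,-82375])
 (.B 3 (.C [-41817600,10612800,-75110400,-38332800,-104544000,-104544000,-41184000,-946252800,-420048000,-259776000,0,216000,-10612800,3896640,10612800,10612800,-4136,-605])
 (.B 6 (.C [0,0,120000,0,0,0,-118800,-4276800,-237600,-950400,0,420,-13860,9900,28380,-120000,-11,0])
 (.B 9 (.C [0,0,139200,-3088800,-1425600,0,0,0,-792000,0,0,-1200,-19800,75240,-13200,139200,-11,0])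
 (treeA_0)))))))))))))))

/-- A certificate. -/
def treeA : Engine.Tree := treeA_1

theorem genA_eq : genA = itemsA := by decide +kernel

theorem itemsA_ok : itemsA.all (fun a => (vecA a).length == 18 &&
    Engine.nonneg [true, true, true, true, true, true, true, true, true, true, true] (vecA a)) = true := by decide +kernel

theorem checkA : Engine.check [true, true, true, true, true, true, true, true, true, true, true]
    [false, false, false, false, false, false, false, false, false, false, false, false, false, false, false, false, false, true] vecA (fun _ => false) treeA itemsA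
    [1, 1, 1, 1, 1, 1, 1, 1, 1, 1, 1, -1, -2, -2, -1, -2, -190080, 190079] [] = true := by decide +kernel

end Cfsg.Agent.Lib.Recog95040.Cert
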