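import Mathlib
import Cfsg.Agent.Lib.Recog95040.CertA
import Cfsg.Agent.Lib.Recog95040.TVal

/-!
The second table with even values is impossible.
-/

set_option autoImplicit false
set_option linter.style.haveILetI false
set_option linter.unusedSectionVars false

namespace Cfsg.Agent.Lib.Recog95040

open Cfsg Subgroup
open Cfsg.Agent.Lib.Chars Cfsg.Agent.Lib.SmallGroups
open scoped ComplexConjugate

universe u

variable {G : Type u} [Group G] [Fintype G]

open scoped Classical in
/-- Pairs from two classes with a given product. -/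
noncomputable def classPairs (g h c : G) : ℕ :=
  (((Finset.univ.filter fun a => IsConj g a) ×ˢ Finset.univ.filter fun b => IsConj h b).filter
    fun z => z.1 * z.2 = c).card

theorem classPairs_eq (hG : IsM12 G) (g h c : G) :
    (95040 : ℂ) * (classPairs g h c : ℂ) = ((centralizer ({g} : Set G)).index : ℂ) *
      ((centralizer ({h} : Set G)).index : ℂ) *
      ∑ χ : IrrCharacter G, (χ : G → ℂ) g * (χ : G → ℂ) h * (χ : G → ℂ) c⁻¹ / (χ : G → ℂ) 1 := by
  classical
  have hcl : ∀ g : G, ∀ (e : G), ∀ a ∈ (Finset.univ.filter fun a => IsConj g a),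
      e * a * e⁻¹ ∈ (Finset.univ.filter fun a => IsConj g a) := fun g e a ha =>
    Finset.mem_filter.mpr ⟨Finset.mem_univ _,
      (Finset.mem_filter.mp ha).2.trans (isConj_iff.mpr ⟨e, rfl⟩)⟩
  have hsum : ∀ (g : G) (χ : IrrCharacter G), ∑ a ∈ (Finset.univ.filter fun a => IsConj g a),
      (χ : G → ℂ) a = ((centralizer ({g} : Set G)).index : ℂ) * (χ : G → ℂ) g := by
    intro g χ
    rw [Finset.sum_congr rfl (g := fun _ => (χ : G → ℂ) g) fun a ha =>
      (isClassFunction_apply_eq (irr_isClassFunction χ) (Finset.mem_filter.mp ha).2).symm ▸ rfl,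
      Finset.sum_const, nsmul_eq_mul, ← card_conjClass_eq_index, Nat.card_eq_fintype_card,
      Fintype.card_subtype]
  have h1 := card_pairs_mul _ _ (hcl g) (hcl h) c
  rw [hG.2] at h1
  push_cast at h1
  rw [classPairs, h1, Finset.mul_sum]
  refine Finset.sum_congr rfl fun χ _ => ?_
  rw [hsum, hsum]
  ring

namespace Pack.Four

variable {P : Pack G} (F : P.Four) [Fact (Nat.Prime 5)]

theorem isConj_translate {a : G} (ha : a * P.y * a⁻¹ = P.y ^ 4) (j : ℕ) :
    IsConj a (a * P.y ^ j) := by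
  rw [isConj_iff_irr]
  intro χ
  rw [← char_pow_mul χ P.y_pow ha (by norm_num) j,
    show P.y ^ j * a = P.y ^ j * (a * P.y ^ j) * (P.y ^ j)⁻¹ by group]
  exact irr_isClassFunction χ _ _

theorem classPairs_s_t (hst : ¬ IsConj P.s F.t) {j k : ℕ} (hjk : (P.y ^ j) ^ k = P.y) :
    classPairs P.s F.t (P.y ^ j) = 0 := by
  classical
  rw [classPairs, Finset.card_eq_zero, Finset.filter_eq_empty_iff]
  rintro ⟨a, b⟩ hz h
  replace h : a * b = P.y ^ j := h
  obtain ⟨ha, hb⟩ := Finset.mem_product.mp hz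
  simp only [Finset.mem_filter, Finset.mem_univ, true_and] at ha hb
  have ha2 : a * a = 1 := P.mul_self_cls (P.mem_cls.mpr ha)
  have hb2 : b * b = 1 := by
    obtain ⟨c, hc⟩ := isConj_iff.mp hb
    rw [← hc]
    calc c * F.t * c⁻¹ * (c * F.t * c⁻¹) = c * (F.t * F.t) * c⁻¹ := by group
      _ = 1 := by rw [F.t_mul]; group
  have hb' : b = a * P.y ^ j := by rw [← h, ← mul_assoc, ha2, one_mul]
  have h1 : a * (P.y ^ j) * a⁻¹ = (P.y ^ j)⁻¹ := by
    rw [← h, ← mul_assoc, ha2, one_mul, mul_inv_rev, inv_eq_of_mul_eq_one_right ha2,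
      inv_eq_of_mul_eq_one_right hb2]
  have h2 : a * P.y * a⁻¹ = P.y ^ 4 := by
    calc a * P.y * a⁻¹ = (a * (P.y ^ j) * a⁻¹) ^ k := by rw [conj_pow, hjk]
      _ = P.y⁻¹ := by rw [h1, inv_pow, hjk]
      _ = P.y ^ 4 := by rw [inv_eq_iff_mul_eq_one, ← pow_succ', P.y_pow]
  exact hst ((ha.trans (isConj_translate h2 j)).trans (hb' ▸ hb.symm))

theorem classPairs_t_t : 0 < classPairs F.t F.t P.y := by
  classical
  rw [classPairs, Finset.card_pos]
  refine ⟨(F.t, F.t * P.y), Finset.mem_filter.mpr ⟨Finset.mem_product.mpr ⟨?_, ?_⟩, ?_⟩⟩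
  · exact Finset.mem_filter.mpr ⟨Finset.mem_univ _, IsConj.refl _⟩
  · refine Finset.mem_filter.mpr ⟨Finset.mem_univ _, ?_⟩
    have := isConj_translate (P := P) F.t_y 1
    rwa [pow_one] at this
  · show F.t * (F.t * P.y) = P.y
    rw [← mul_assoc, F.t_mul, one_mul]

/-- The second table is impossible. -/
theorem not_listA {x : G} (X : XCol x) (hx : orderOf x = 11) (hst : ¬ IsConj P.s F.t)
    (hts : IsConj P.s (F.t * P.s)) : ¬ (X.reps.map (P.row X)).Perm Cert.listA := by
  classical
  intro hperm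
  set a := fiveSum P.hG P.hy with ha
  set d : IrrCharacter G → ℤ := fun χ => (deg P.hG χ : ℤ) with hd
  set T := F.tVal with hT
  set L : List (It × Int) := X.reps.map fun χ => (P.row X χ, T χ) with hL
  have hfst : L.map Prod.fst = X.reps.map (P.row X) := by
    rw [hL, List.map_map]; rfl
  -- rows
  have hmem : ∀ e ∈ L, e ∈ Cert.itemsA := by
    intro e he
    obtain ⟨χ, hχ, rfl⟩ := List.mem_map.mp he
    rw [← Cert.genA_eq]
    have hr : P.row X χ ∈ Cert.listA := hperm.mem_iff.mp (List.mem_map.mpr ⟨χ, hχ, rfl⟩)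
    obtain ⟨z, hz, -, hz1, hz2⟩ := exists_value_involution P.hG χ F.orderOf_t (X.mem_reps hχ)
      (deg_spec P.hG χ).1
    have hzT : z = T χ := by
      rw [F.tVal_eq] at hz
      exact_mod_cast hz.symm
    subst hzT
    obtain ⟨b1, b2, b3, b4, b5, b6⟩ := F.t_bounds hts χ
    have b0 := F.t_mod hts χ
    simp only [Cert.genA, List.mem_flatMap, List.mem_map, List.mem_filter]
    refine ⟨P.row X χ, hr, T χ, ⟨mem_ints ?_ ?_, ?_⟩, rfl⟩
    · show -((deg P.hG χ : ℤ)) ≤ T χ
      omega
    · show T χ < -((deg P.hG χ : ℤ)) + ((2 * (deg P.hG χ : ℤ) + 1).toNat : ℤ)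
      omega
    · simp only [Cert.okT, row, Bool.and_eq_true]
      exact ⟨⟨⟨⟨⟨⟨decide_eq_true b0, decide_eq_true b1⟩, decide_eq_true b2⟩, decide_eq_true b3⟩,
        decide_eq_true b4⟩, decide_eq_true b5⟩, decide_eq_true b6⟩
  -- sums over the characters
  have S : ∀ (g : It × Int → Int) (f : IrrCharacter G → ℤ), (∀ χ, g (P.row X χ, T χ) = f χ) →
      (∀ χ, f (irrConj χ) = f χ) → (L.map fun e => e.1.M * g e).sum =
        ∑ χ, f χ - f (trivialIrr G) := by
    intro g f h1 h2
    rw [← X.sum_reps f h2, hL, List.map_map]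
    congr 1
    exact List.map_congr_left fun χ _ => by
      show (1 + X.u χ % 2) * g (P.row X χ, T χ) = _
      rw [h1]
  have hc : ∀ χ, d (irrConj χ) = d χ ∧ a (irrConj χ) = a χ ∧ T (irrConj χ) = T χ := fun χ =>
    ⟨by simp [hd, deg_conj], fiveSum_conj P.hG P.hy χ, F.tVal_conj χ⟩
  have cT : ∀ χ : IrrCharacter G, ((T χ : ℤ) : ℂ) = ([F.t].map fun g => (χ : G → ℂ) g).sum :=
    fun χ => by simp [hT, F.tVal_eq χ]
  have ot := F.orderOf_t
  have oy := P.hy
  have oy2 := P.orderOf_y_sq
  have oz := P.orderOf_ys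
  have oz2 := P.orderOf_y_sq_s
  have oxi : orderOf x⁻¹ = 11 := by rw [orderOf_inv, hx]
  have z1 : ∑ χ, d χ * T χ = 0 := sum_cols_eq_zero [1] [F.t]
    (fun χ => by simp [hd, (deg_spec P.hG χ).1]) cT (by simp; omega)
  have z2 : ∑ χ, a χ * T χ = 0 := sum_cols_eq_zero [P.y, P.y ^ 2] [F.t]
    (fun χ => by simp [ha, ← P.aVal_eq χ]) cT (by simp; omega)
  have z3 : ∑ χ, P.wVal χ * T χ = 0 := sum_cols_eq_zero [P.y * P.s, P.y ^ 2 * P.s] [F.t]
    (fun χ => by simp [← P.wVal_eq χ]) cT (by simp; omega)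
  have z5 : ∑ χ, X.u χ * T χ = 0 := sum_cols_eq_zero [x, x⁻¹] [F.t]
    (fun χ => by simp [← X.val χ]) cT (by simp; omega)
  have z4 : ∑ χ, P.sVal χ * T χ = 0 := by
    apply Int.cast_injective (α := ℂ)
    push_cast
    rw [← column_orthogonality_of_not_isConj hst]
    exact Finset.sum_congr rfl fun χ _ => by rw [P.sVal_eq, F.tVal_eq, map_intCast]
  -- triples
  have hval : ∀ χ : IrrCharacter G, (χ : G → ℂ) P.y⁻¹ = (χ : G → ℂ) P.y ∧
      (χ : G → ℂ) P.y = (a χ : ℂ) / 2 := by
    intro χ
    refine ⟨(isClassFunction_apply_eq (irr_isClassFunction χ)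
      (isConj_inv_five P.hG P.hy)).symm ▸ rfl, ?_⟩
    rw [ha, ← P.aVal_eq, F.val_y]; ring
  have hidx : ∀ g : G, ((centralizer ({g} : Set G)).index : ℂ) ≠ 0 := fun g =>
    Nat.cast_ne_zero.mpr Subgroup.index_ne_zero_of_finite
  have z6 : ∑ χ, a χ * P.sVal χ * T χ * (95040 / d χ) = 0 := by
    have h := classPairs_eq P.hG P.s F.t P.y
    have h0 := F.classPairs_s_t hst (j := 1) (k := 1) (by rw [pow_one, pow_one])
    rw [pow_one] at h0
    rw [h0, Nat.cast_zero, mul_zero] at h
    have h' := (mul_eq_zero.mp h.symm).resolve_left (mul_ne_zero (hidx _) (hidx _))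
    apply Int.cast_injective (α := ℂ)
    rw [Int.cast_sum, Int.cast_zero]
    calc ∑ χ, ((a χ * P.sVal χ * T χ * (95040 / d χ) : ℤ) : ℂ)
        = 2 * 95040 * ∑ χ : IrrCharacter G,
            (χ : G → ℂ) P.s * (χ : G → ℂ) F.t * (χ : G → ℂ) P.y⁻¹ / (χ : G → ℂ) 1 := by
          rw [Finset.mul_sum]
          refine Finset.sum_congr rfl fun χ _ => ?_
          rw [Int.cast_mul, Int.cast_mul, Int.cast_mul, cast_card_div P.hG χ, P.sVal_eq,
            F.tVal_eq, (hval χ).1, (hval χ).2]
          ring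
      _ = 0 := by rw [h', mul_zero]
  have z7 : 0 < ∑ χ, a χ * (T χ * T χ) * (95040 / d χ) := by
    have h := classPairs_eq P.hG F.t F.t P.y
    have hpos := F.classPairs_t_t
    set Ct := Nat.card (centralizer ({F.t} : Set G)) with hCt
    have hCt' : ((centralizer ({F.t} : Set G)).index : ℂ) * (Ct : ℂ) = 95040 := by
      have h1 := index_centralizer_mul_card F.t
      rw [P.hG.2] at h1
      exact_mod_cast h1
    have e : ∑ χ, a χ * (T χ * T χ) * (95040 / d χ) =
        2 * ((Ct : ℤ) * Ct * (classPairs F.t F.t P.y : ℤ)) := by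
      apply Int.cast_injective (α := ℂ)
      rw [Int.cast_sum]
      push_cast
      calc ∑ χ, (a χ : ℂ) * ((T χ : ℂ) * (T χ : ℂ)) * (((95040 : ℤ) / d χ : ℤ) : ℂ)
          = 2 * 95040 * ∑ χ : IrrCharacter G,
              (χ : G → ℂ) F.t * (χ : G → ℂ) F.t * (χ : G → ℂ) P.y⁻¹ / (χ : G → ℂ) 1 := by
            rw [Finset.mul_sum]
            refine Finset.sum_congr rfl fun χ _ => ?_
            rw [cast_card_div P.hG χ, F.tVal_eq, (hval χ).1, (hval χ).2]
            ring
        _ = _ := by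
            refine mul_left_cancel₀ (show (95040 : ℂ) ≠ 0 by norm_num) ?_
            linear_combination (-2 * (Ct : ℂ) * Ct) * h + (-2 * (∑ χ : IrrCharacter G,
              (χ : G → ℂ) F.t * (χ : G → ℂ) F.t * (χ : G → ℂ) P.y⁻¹ / (χ : G → ℂ) 1) *
              (95040 + ((centralizer ({F.t} : Set G)).index : ℂ) * Ct)) * hCt'
    rw [e]
    have : 0 < Ct := Nat.card_pos
    positivity
  -- values at the trivial character
  have td : d (trivialIrr G) = 1 := by simp [hd, deg_trivial]
  have ta : a (trivialIrr G) = 2 := fiveSum_trivial P.hG P.hy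
  have tT : T (trivialIrr G) = 1 := F.tVal_trivial
  have s1 : (L.map fun e => e.1.M * (e.1.d * e.2)).sum = -1 := by
    rw [S _ (fun χ => d χ * T χ) (fun χ => rfl) (fun χ => by simp only [hc]), td, tT, z1]; norm_num
  have s2 : (L.map fun e => e.1.M * (e.1.a * e.2)).sum = -2 := by
    rw [S _ (fun χ => a χ * T χ) (fun χ => rfl) (fun χ => by simp only [hc]), ta, tT, z2]; norm_num
  have s3 : (L.map fun e => e.1.M * (e.1.w * e.2)).sum = -2 := by
    rw [S _ (fun χ => P.wVal χ * T χ) (fun χ => rfl) (fun χ => by simp only [hc, P.wVal_conj]),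
      P.wVal_trivial, tT, z3]; norm_num
  have s4 : (L.map fun e => e.1.M * (e.1.s * e.2)).sum = -1 := by
    rw [S _ (fun χ => P.sVal χ * T χ) (fun χ => rfl) (fun χ => by simp only [hc, P.sVal_conj]),
      P.sVal_trivial, tT, z4]; norm_num
  have s5 : (L.map fun e => e.1.M * (e.1.u * e.2)).sum = -2 := by
    rw [S _ (fun χ => X.u χ * T χ) (fun χ => rfl) (fun χ => by simp only [hc, X.u_conj]),
      X.u_trivial, tT, z5]; norm_num
  have s6 : (L.map fun e => e.1.M * (e.1.a * e.1.s * e.2 * (95040 / e.1.d))).sum = -190080 := by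
    rw [S _ (fun χ => a χ * P.sVal χ * T χ * (95040 / d χ)) (fun χ => rfl)
      (fun χ => by simp only [hc, P.sVal_conj]), ta, P.sVal_trivial, tT, td, z6]; norm_num
  have s7 : (L.map fun e => -(e.1.M * (e.1.a * (e.2 * e.2) * (95040 / e.1.d)))).sum ≤ 190079 := by
    have h := S (fun e => -(e.1.a * (e.2 * e.2) * (95040 / e.1.d)))
      (fun χ => -(a χ * (T χ * T χ) * (95040 / d χ))) (fun χ => rfl)
      (fun χ => by simp only [hc])
    simp only [mul_neg] at h
    rw [h, ta, tT, td, Finset.sum_neg_distrib]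
    omega
  -- the certificate
  set F1 : List ((It × Int → Int) × Int) :=
    Cert.listA.map fun r => (fun e => if e.1 = r then 1 else 0, 1) with hF1
  set ps : List ((It × Int → Int) × Int) := F1 ++
    [(fun e => e.1.M * (e.1.d * e.2), -1), (fun e => e.1.M * (e.1.a * e.2), -2),
      (fun e => e.1.M * (e.1.w * e.2), -2), (fun e => e.1.M * (e.1.s * e.2), -1),
      (fun e => e.1.M * (e.1.u * e.2), -2),
      (fun e => e.1.M * (e.1.a * e.1.s * e.2 * (95040 / e.1.d)), -190080),
      (fun e => -(e.1.M * (e.1.a * (e.2 * e.2) * (95040 / e.1.d))), 190079)] with hps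
  have hind : (F1.map fun p => p.2 - (L.map p.1).sum) = List.replicate 11 0 := by
    rw [hF1, List.map_map]
    have h1 : ∀ r, (L.map fun e => if e.1 = r then (1 : Int) else 0).sum =
        (Cert.listA.map fun e => if e = r then (1 : Int) else 0).sum := by
      intro r
      rw [← (hperm.map _).sum_eq, hL]
      simp only [List.map_map]
      rfl
    simp only [Function.comp_def, h1]
    decide +kernel
  have hrem : Engine.final [false, false, false, false, false, false, false, false, false, false,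
      false, false, false, false, false, false, false, true]
      (Engine.rem Cert.vecA [1, 1, 1, 1, 1, 1, 1, 1, 1, 1, 1, -1, -2, -2, -1, -2, -190080, 190079] L)
      = true := by
    have h := rem_map ps L
    have hv : (fun e : It × Int => ps.map fun p => p.1 e) = Cert.vecA := by
      funext e
      simp only [hps, hF1, List.map_append, List.map_map, Function.comp_def, List.map_cons,
        List.map_nil]
      rfl
    have ht : (ps.map fun p => p.2) =
        [1, 1, 1, 1, 1, 1, 1, 1, 1, 1, 1, -1, -2, -2, -1, -2, -190080, 190079] := by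
      simp only [hps, hF1, List.map_append, List.map_map, Function.comp_def, List.map_cons,
        List.map_nil]
      rfl
    rw [hv, ht] at h
    rw [h, hps, List.map_append, hind]
    simp only [List.map_cons, List.map_nil, List.replicate, List.cons_append, List.nil_append,
      Engine.final, Bool.and_eq_true, decide_eq_true_eq, beq_iff_eq, s1, s2, s3, s4, s5, s6]
    norm_num
    omega
  obtain ⟨L', -, hP⟩ := Engine.check_main Cert.checkA Cert.itemsA_ok hmem hrem
  simp at hP

end Pack.Four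

end Cfsg.Agent.Lib.Recog95040
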