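import Mathlib
import Cfsg.Agent.Lib.Recog95040.Fixed
import Cfsg.Agent.Lib.Recog95040.KillA
import Cfsg.Agent.Lib.Recog95040.Classify
import Cfsg.Agent.Lib.Recog95040.Iso
import Cfsg.Agent.Lib.Chars.Integral

/-!
Simple groups of order 95040 have a subgroup of order 7920 and are all isomorphic.
-/

set_option autoImplicit false
set_option linter.style.haveILetI false
set_option linter.unusedSectionVars false

namespace Cfsg.Agent.Lib.Recog95040

open Cfsg Subgroup
open Cfsg.Agent.Lib.Chars Cfsg.Agent.Lib.SmallGroups Cfsg.Agent.Lib.SmallGroups.PrimeChar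

universe u w

/-- A simple group of order 95040 has a subgroup of order 7920. -/
theorem exists_subgroup_7920 {G : Type u} [Group G] [Finite G] (hG : IsM12 G) :
    ∃ H : Subgroup G, Nat.card H = 7920 := by
  classical
  cases nonempty_fintype G
  haveI : Fact (Nat.Prime 5) := ⟨by norm_num⟩
  obtain ⟨P⟩ := exists_pack hG
  obtain ⟨x, X, hx, hyN, hC, hI, hP, hrows⟩ := P.classify
  obtain ⟨F⟩ := P.exists_four hC hI hP
  obtain ⟨a, ha, has⟩ : ∃ a : G, IsConj P.s a ∧ IsConj P.s (a * P.s) := by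
    have h : 0 < Nat.card {a : G // IsConj P.s a ∧ IsConj P.s (a * P.s)} := by omega
    obtain ⟨⟨a, ha⟩⟩ := (Nat.card_pos_iff.mp h).1
    exact ⟨a, ha⟩
  -- the sum at `y` is even
  have heven : ∀ χ, fiveSum P.hG P.hy χ % 2 = 0 := by
    intro χ
    have h := P.aVal_eq χ
    rw [F.val_y] at h
    obtain ⟨z, hz⟩ := exists_int_eq_of_isIntegral (irr_isIntegral χ P.y)
      ((fiveSum P.hG P.hy χ : ℚ) / 2) (by push_cast; linear_combination (1 / 2 : ℂ) * h)
    have h2 : ((2 * z : ℤ) : ℂ) = (fiveSum P.hG P.hy χ : ℂ) := by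
      push_cast
      linear_combination -2 * hz + h
    have h3 : 2 * z = fiveSum P.hG P.hy χ := by exact_mod_cast h2
    omega
  rcases hrows with ⟨χ, hχ⟩ | ⟨χ, hχ⟩ | hperm
  · exact absurd hχ (by rw [heven χ]; norm_num)
  · obtain ⟨hts, hφ⟩ := F.odd_row χ ha has (deg_spec P.hG χ).1 (P.sVal_eq χ) (by
      have hrow := hχ
      simp only [Pack.row, Cert.eleven, It.mk.injEq] at hrow
      obtain ⟨hd, -, -, -, -, hs⟩ := hrow
      omega)
    exact F.exists_subgroup X hx hyN hχ hts hφ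
  · exfalso
    obtain ⟨χ, -, hrow⟩ := List.mem_map.mp (hperm.mem_iff.mpr
      (by decide : (⟨176, 0, 0, 2, 2, -4⟩ : It) ∈ Cert.listA))
    simp only [Pack.row, It.mk.injEq] at hrow
    obtain ⟨hd, -, -, -, -, hs⟩ := hrow
    obtain ⟨hts, -⟩ := F.odd_row χ ha has (deg_spec P.hG χ).1 (P.sVal_eq χ) (by omega)
    exact F.not_listA X hx (fun h => F.one_class.mp h hts) hts hperm

/-- Simple groups of order 95040 are isomorphic. -/
theorem nonempty_mulEquiv_of_isM12 {G : Type u} {K : Type w} [Group G] [Group K] [Finite G]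
    [Finite K] (hG : IsM12 G) (hK : IsM12 K) : Nonempty (G ≃* K) := by
  obtain ⟨H, hH⟩ := exists_subgroup_7920 hG
  obtain ⟨H', hH'⟩ := exists_subgroup_7920 hK
  exact nonempty_mulEquiv_of_subgroup hG hK H hH H' hH'

end Cfsg.Agent.Lib.Recog95040
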