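import Cfsg.Agent.Lib.Recog95040.Items

/-!
Certificate for a centralizer of order 8640.
-/

set_option autoImplicit false

namespace Cfsg.Agent.Lib.Recog95040.Cert

def items8640_0 : List (Int × Int × Int × Int × Int × Int) := [
  (11,0,0,2,2,-9), (11,0,0,2,0,-5), (11,0,0,2,-2,-1), (11,0,0,2,-4,3), (11,0,0,2,6,3),
  (11,0,0,2,-6,7), (11,0,0,2,4,7), (12,2,0,-1,-5,0), (12,2,0,-1,5,0), (12,2,0,4,0,0),
  (16,-1,1,2,0,0), (20,-4,0,0,0,0), (22,0,0,-1,-1,-18), (22,0,0,4,-6,-18), (22,0,0,4,4,-18),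
  (22,0,0,-1,-3,-14), (22,0,0,4,2,-14), (22,0,0,-1,-5,-10), (22,0,0,-1,5,-10), (22,0,0,4,0,-10),
  (22,0,0,-1,3,-6), (22,0,0,4,-2,-6), (22,0,0,-1,1,-2), (22,0,0,4,-4,-2), (22,0,0,4,6,-2),
  (22,0,0,-1,-1,2), (22,0,0,4,-6,2), (22,0,0,4,4,2), (22,0,0,-1,-3,6), (22,0,0,4,2,6),
  (22,0,0,-1,-5,10), (22,0,0,-1,5,10), (22,0,0,4,0,10), (22,0,0,-1,3,14), (22,0,0,4,-2,14),
  (22,0,0,-1,1,18), (22,0,0,4,-4,18), (22,0,0,4,6,18), (24,4,0,-2,0,0), (24,4,0,3,-5,0),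
  (24,4,0,3,5,0), (32,-2,0,4,0,0), (33,0,0,-4,6,-27), (33,0,0,1,1,-27), (33,0,0,6,-4,-27),
  (33,0,0,6,6,-27), (33,0,0,-4,0,-15), (33,0,0,1,-5,-15), (33,0,0,1,5,-15), (33,0,0,6,0,-15),
  (33,0,0,-4,-6,-3), (33,0,0,-4,4,-3), (33,0,0,1,-1,-3), (33,0,0,6,-6,-3), (33,0,0,6,4,-3),
  (33,0,0,-4,-2,9), (33,0,0,1,3,9), (33,0,0,6,-2,9), (33,0,0,-4,2,21), (33,0,0,1,-3,21),
  (33,0,0,6,2,21), (40,3,1,0,0,0), (44,0,0,-2,0,-40), (44,0,0,3,-5,-40), (44,0,0,3,5,-40),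
  (44,0,0,-2,-2,-36), (44,0,0,3,3,-36), (44,0,0,-2,-4,-32), (44,0,0,-2,6,-32), (44,0,0,3,1,-32),
  (44,0,0,-2,-6,-28), (44,0,0,-2,4,-28), (44,0,0,3,-1,-28), (44,0,0,-2,2,-24), (44,0,0,3,-3,-24),
  (44,0,0,-2,0,-20), (44,0,0,3,-5,-20), (44,0,0,3,5,-20), (44,0,0,-2,-2,-16), (44,0,0,3,3,-16),
  (44,0,0,-2,-4,-12), (44,0,0,-2,6,-12), (44,0,0,3,1,-12), (44,0,0,-2,-6,-8), (44,0,0,-2,4,-8),
  (44,0,0,3,-1,-8), (44,0,0,-2,2,-4), (44,0,0,3,-3,-4), (44,0,0,-2,0,0), (44,0,0,3,-5,0),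
  (44,0,0,3,5,0), (44,0,0,-2,-2,4), (44,0,0,3,3,4), (44,0,0,-2,-4,8), (44,0,0,-2,6,8),
  (44,0,0,3,1,8), (44,0,0,-2,-6,12), (44,0,0,-2,4,12), (44,0,0,3,-1,12), (44,0,0,-2,2,16)]

def items8640_1 : List (Int × Int × Int × Int × Int × Int) := [
  (44,0,0,3,-3,16), (44,0,0,-2,0,20), (44,0,0,3,-5,20), (44,0,0,3,5,20), (44,0,0,-2,-2,24),
  (44,0,0,3,3,24), (44,0,0,-2,-4,28), (44,0,0,-2,6,28), (44,0,0,3,1,28), (44,0,0,-2,-6,32),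
  (44,0,0,-2,4,32), (44,0,0,3,-1,32), (44,0,0,-2,2,36), (44,0,0,3,-3,36), (44,0,0,-2,0,40),
  (44,0,0,3,-5,40), (44,0,0,3,5,40), (48,-3,1,-4,0,0), (55,0,0,0,0,-45), (55,0,0,0,0,-25),
  (55,0,0,0,0,-5), (55,0,0,0,0,15), (55,0,0,0,0,35), (60,-1,1,0,0,0), (66,0,0,-3,-3,-54),
  (66,0,0,2,2,-54), (66,0,0,-3,1,-42), (66,0,0,2,-4,-42), (66,0,0,2,6,-42), (66,0,0,-3,-5,-30),
  (66,0,0,-3,5,-30), (66,0,0,2,0,-30), (66,0,0,-3,-1,-18), (66,0,0,2,-6,-18), (66,0,0,2,4,-18),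
  (66,0,0,-3,3,-6), (66,0,0,2,-2,-6), (66,0,0,-3,-3,6), (66,0,0,2,2,6), (66,0,0,-3,1,18),
  (66,0,0,2,-4,18), (66,0,0,2,6,18), (66,0,0,-3,-5,30), (66,0,0,-3,5,30), (66,0,0,2,0,30),
  (66,0,0,-3,-1,42), (66,0,0,2,-6,42), (66,0,0,2,4,42), (66,0,0,-3,3,54), (66,0,0,2,-2,54),
  (72,1,1,4,0,0), (88,0,0,-4,0,-80), (88,0,0,1,-5,-80), (88,0,0,1,5,-80), (88,0,0,6,0,-80),
  (88,0,0,-4,-4,-72), (88,0,0,-4,6,-72), (88,0,0,1,1,-72), (88,0,0,6,-4,-72), (88,0,0,6,6,-72),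
  (88,0,0,-4,2,-64), (88,0,0,1,-3,-64), (88,0,0,6,2,-64), (88,0,0,-4,-2,-56), (88,0,0,1,3,-56),
  (88,0,0,6,-2,-56), (88,0,0,-4,-6,-48), (88,0,0,-4,4,-48), (88,0,0,1,-1,-48), (88,0,0,6,-6,-48),
  (88,0,0,6,4,-48), (88,0,0,-4,0,-40), (88,0,0,1,-5,-40), (88,0,0,1,5,-40), (88,0,0,6,0,-40),
  (88,0,0,-4,-4,-32), (88,0,0,-4,6,-32), (88,0,0,1,1,-32), (88,0,0,6,-4,-32), (88,0,0,6,6,-32),
  (88,0,0,-4,2,-24), (88,0,0,1,-3,-24), (88,0,0,6,2,-24), (88,0,0,-4,-2,-16), (88,0,0,1,3,-16),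
  (88,0,0,6,-2,-16), (88,0,0,-4,-6,-8), (88,0,0,-4,4,-8), (88,0,0,1,-1,-8), (88,0,0,6,-6,-8),
  (88,0,0,6,4,-8), (88,0,0,-4,0,0), (88,0,0,1,-5,0), (88,0,0,1,5,0), (88,0,0,6,0,0),
  (88,0,0,-4,-4,8), (88,0,0,-4,6,8), (88,0,0,1,1,8), (88,0,0,6,-4,8), (88,0,0,6,6,8)]

def items8640_2 : List (Int × Int × Int × Int × Int × Int) := [
  (88,0,0,-4,2,16), (88,0,0,1,-3,16), (88,0,0,6,2,16), (88,0,0,-4,-2,24), (88,0,0,1,3,24),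
  (88,0,0,6,-2,24), (88,0,0,-4,-6,32), (88,0,0,-4,4,32), (88,0,0,1,-1,32), (88,0,0,6,-6,32),
  (88,0,0,6,4,32), (88,0,0,-4,0,40), (88,0,0,1,-5,40), (88,0,0,1,5,40), (88,0,0,6,0,40),
  (88,0,0,-4,-4,48), (88,0,0,-4,6,48), (88,0,0,1,1,48), (88,0,0,6,-4,48), (88,0,0,6,6,48),
  (88,0,0,-4,2,56), (88,0,0,1,-3,56), (88,0,0,6,2,56), (88,0,0,-4,-2,64), (88,0,0,1,3,64),
  (88,0,0,6,-2,64), (88,0,0,-4,-6,72), (88,0,0,-4,4,72), (88,0,0,1,-1,72), (88,0,0,6,-6,72),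
  (88,0,0,6,4,72), (88,0,0,-4,0,80), (88,0,0,1,-5,80), (88,0,0,1,5,80), (88,0,0,6,0,80),
  (99,0,0,-2,-2,-81), (99,0,0,3,3,-81), (99,0,0,-2,0,-45), (99,0,0,3,-5,-45), (99,0,0,3,5,-45),
  (99,0,0,-2,2,-9), (99,0,0,3,-3,-9), (99,0,0,-2,-6,27), (99,0,0,-2,4,27), (99,0,0,3,-1,27),
  (99,0,0,-2,-4,63), (99,0,0,-2,6,63), (99,0,0,3,1,63), (108,-4,0,-4,0,0), (108,-4,0,1,-5,0),
  (108,-4,0,1,5,0), (108,-4,0,6,0,0), (110,0,0,0,0,-90), (110,0,0,0,0,-70), (110,0,0,0,0,-50),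
  (110,0,0,0,0,-30), (110,0,0,0,0,-10), (110,0,0,0,0,10), (110,0,0,0,0,30), (110,0,0,0,0,50),
  (110,0,0,0,0,70), (110,0,0,0,0,90), (120,-2,0,0,0,0), (132,0,0,-6,2,-84), (132,0,0,-1,-3,-84),
  (132,0,0,4,2,-84), (132,0,0,-6,-4,-72), (132,0,0,-6,6,-72), (132,0,0,-1,1,-72), (132,0,0,4,-4,-72),
  (132,0,0,4,6,-72), (132,0,0,-6,0,-60), (132,0,0,-1,-5,-60), (132,0,0,-1,5,-60), (132,0,0,4,0,-60),
  (132,0,0,-6,-6,-48), (132,0,0,-6,4,-48), (132,0,0,-1,-1,-48), (132,0,0,4,-6,-48), (132,0,0,4,4,-48),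
  (132,0,0,-6,-2,-36), (132,0,0,-1,3,-36), (132,0,0,4,-2,-36), (132,0,0,-6,2,-24), (132,0,0,-1,-3,-24),
  (132,0,0,4,2,-24), (132,0,0,-6,-4,-12), (132,0,0,-6,6,-12), (132,0,0,-1,1,-12), (132,0,0,4,-4,-12),
  (132,0,0,4,6,-12), (132,0,0,-6,0,0), (132,0,0,-1,-5,0), (132,0,0,-1,5,0), (132,0,0,4,0,0),
  (132,0,0,-6,-6,12), (132,0,0,-6,4,12), (132,0,0,-1,-1,12), (132,0,0,4,-6,12), (132,0,0,4,4,12)]

def items8640_3 : List (Int × Int × Int × Int × Int × Int) := [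
  (132,0,0,-6,-2,24), (132,0,0,-1,3,24), (132,0,0,4,-2,24), (132,0,0,-6,2,36), (132,0,0,-1,-3,36),
  (132,0,0,4,2,36), (132,0,0,-6,-4,48), (132,0,0,-6,6,48), (132,0,0,-1,1,48), (132,0,0,4,-4,48),
  (132,0,0,4,6,48), (132,0,0,-6,0,60), (132,0,0,-1,-5,60), (132,0,0,-1,5,60), (132,0,0,4,0,60),
  (132,0,0,-6,-6,72), (132,0,0,-6,4,72), (132,0,0,-1,-1,72), (132,0,0,4,-6,72), (132,0,0,4,4,72),
  (132,0,0,-6,-2,84), (132,0,0,-1,3,84), (132,0,0,4,-2,84), (144,2,0,-2,0,0), (144,2,0,3,-5,0),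
  (144,2,0,3,5,0), (160,1,1,0,0,0), (165,0,0,0,0,-75), (165,0,0,0,0,-15), (165,0,0,0,0,45),
  (176,0,0,-3,-5,-80), (176,0,0,-3,5,-80), (176,0,0,2,0,-80), (176,0,0,-3,-3,-64), (176,0,0,2,2,-64),
  (176,0,0,-3,-1,-48), (176,0,0,2,-6,-48), (176,0,0,2,4,-48), (176,0,0,-3,1,-32), (176,0,0,2,-4,-32),
  (176,0,0,2,6,-32), (176,0,0,-3,3,-16), (176,0,0,2,-2,-16), (176,0,0,-3,-5,0), (176,0,0,-3,5,0),
  (176,0,0,2,0,0), (176,0,0,-3,-3,16), (176,0,0,2,2,16), (176,0,0,-3,-1,32), (176,0,0,2,-6,32),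
  (176,0,0,2,4,32), (176,0,0,-3,1,48), (176,0,0,2,-4,48), (176,0,0,2,6,48), (176,0,0,-3,3,64),
  (176,0,0,2,-2,64), (176,0,0,-3,-5,80), (176,0,0,-3,5,80), (176,0,0,2,0,80), (180,-3,1,0,0,0),
  (192,-1,1,4,0,0), (198,0,0,-4,0,-90), (198,0,0,1,-5,-90), (198,0,0,1,5,-90), (198,0,0,6,0,-90),
  (198,0,0,-4,2,-54), (198,0,0,1,-3,-54), (198,0,0,6,2,-54), (198,0,0,-4,-6,-18), (198,0,0,-4,4,-18),
  (198,0,0,1,-1,-18), (198,0,0,6,-6,-18), (198,0,0,6,4,-18), (198,0,0,-4,-4,18), (198,0,0,-4,6,18),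
  (198,0,0,1,1,18), (198,0,0,6,-4,18), (198,0,0,6,6,18), (198,0,0,-4,-2,54), (198,0,0,1,3,54),
  (198,0,0,6,-2,54), (198,0,0,-4,0,90), (198,0,0,1,-5,90), (198,0,0,1,5,90), (198,0,0,6,0,90),
  (216,3,1,2,0,0), (220,0,0,0,0,-80), (220,0,0,0,0,-60), (220,0,0,0,0,-40), (220,0,0,0,0,-20),
  (220,0,0,0,0,0), (220,0,0,0,0,20), (220,0,0,0,0,40), (220,0,0,0,0,60), (220,0,0,0,0,80),
  (240,-4,0,0,0,0), (264,0,0,-2,-4,-72), (264,0,0,-2,6,-72), (264,0,0,3,1,-72), (264,0,0,-2,-6,-48)]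

def items8640_4 : List (Int × Int × Int × Int × Int × Int) := [
  (264,0,0,-2,4,-48), (264,0,0,3,-1,-48), (264,0,0,-2,2,-24), (264,0,0,3,-3,-24), (264,0,0,-2,0,0),
  (264,0,0,3,-5,0), (264,0,0,3,5,0), (264,0,0,-2,-2,24), (264,0,0,3,3,24), (264,0,0,-2,-4,48),
  (264,0,0,-2,6,48), (264,0,0,3,1,48), (264,0,0,-2,-6,72), (264,0,0,-2,4,72), (264,0,0,3,-1,72),
  (288,4,0,-4,0,0), (288,4,0,6,0,0), (297,0,0,-6,-4,-27), (297,0,0,-6,6,-27), (297,0,0,-1,1,-27),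
  (297,0,0,4,-4,-27), (297,0,0,4,6,-27), (297,0,0,-6,2,81), (297,0,0,-1,-3,81), (297,0,0,4,2,81)]

/-- Possible rows. -/
def items8640 : List It := ofRows (items8640_0 ++ items8640_1 ++ items8640_2 ++ items8640_3 ++ items8640_4)

def proj8640_0 : List (Int × Int × Int × Int × Int × Int) := [
  (288,4,0,0,0,0), (240,-4,0,0,0,0), (216,3,1,0,0,0), (192,-1,1,0,0,0), (180,-3,1,0,0,0),
  (160,1,1,0,0,0), (144,2,0,0,0,0), (120,-2,0,0,0,0), (108,-4,0,0,0,0), (72,1,1,0,0,0),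
  (60,-1,1,0,0,0), (48,-3,1,0,0,0), (40,3,1,0,0,0), (32,-2,0,0,0,0), (24,4,0,0,0,0),
  (20,-4,0,0,0,0), (16,-1,1,0,0,0), (12,2,0,0,0,0)]

/-- First stage rows. -/
def proj8640 : List It := ofRows (proj8640_0)


/-- A certificate. -/
def tree8640 : Engine.Tree := .C [0,0,0,-1000,0,0,0]

theorem gen8640_eq : gen 8640 = items8640 := by decide +kernel

theorem items8640_proj : items8640.all (fun e => decide (e.u = 0) || proj8640.contains e.proj) = true := by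
  decide +kernel

theorem proj8640_ok : proj8640.all (fun a => (It.vec1 a).length == 7 &&
    Engine.nonneg [true, true, false, false, false, true, true] (It.vec1 a)) = true := by decide +kernel

theorem check8640 : Engine.check [true, true, false, false, false, true, true]
    [false, false, false, false, false, true, true] It.vec1 (fun _ => false) tree8640 proj8640
    [18, 1, -2, -2, -190080, 95039, 8639] [] = true := by decide +kernel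

end Cfsg.Agent.Lib.Recog95040.Cert
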